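import Mathlib

set_option autoImplicit false
universe u v w

namespace Groth.Agent.H32

/-- Coherent module: finite and every f.g. submodule is finitely presented. -/
def IsCoh (R : Type u) [CommRing R] (M : Type v) [AddCommGroup M] [Module R M] : Prop :=
  Module.Finite R M ∧ ∀ N : Submodule R M, N.FG → Module.FinitePresentation R N

variable {R : Type u} [CommRing R]

theorem isCoh_of_exact {M₁ : Type v} {M₂ : Type w} {M₃ : Type*}
    [AddCommGroup M₁] [Module R M₁] [AddCommGroup M₂] [Module R M₂] [AddCommGroup M₃] [Module R M₃]
    (f : M₁ →ₗ[R] M₂) (g : M₂ →ₗ[R] M₃) (hf : Function.Injective f) (hg : Function.Surjective g)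
    (hfg : LinearMap.range f = LinearMap.ker g) (h₁ : IsCoh R M₁) (h₃ : IsCoh R M₃) :
    IsCoh R M₂ := by
  obtain ⟨fin₁, coh₁⟩ := h₁
  obtain ⟨fin₃, coh₃⟩ := h₃
  constructor
  · refine ⟨?_⟩
    apply Submodule.fg_of_fg_map_of_fg_inf_ker g
    · rw [Submodule.map_top, LinearMap.range_eq_top.mpr hg]; exact Module.Finite.fg_top
    · rw [top_inf_eq, ← hfg, LinearMap.range_eq_map]
      exact Module.Finite.fg_top.map f
  · intro N hN
    have : Module.Finite R N := Module.Finite.iff_fg.2 hN
    -- the map N → g(N)
    let l : N →ₗ[R] (N.map g) := g.restrict (fun x hx => Submodule.mem_map_of_mem hx)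
    have hl : Function.Surjective l := by
      rintro ⟨_, x, hx, rfl⟩
      exact ⟨⟨x, hx⟩, rfl⟩
    have : Module.FinitePresentation R (N.map g) := coh₃ _ (hN.map g)
    have hker : (LinearMap.ker l).FG := Module.FinitePresentation.fg_ker l hl
    -- K ⊆ M₁
    let K : Submodule R M₁ := ((LinearMap.ker l).map N.subtype).comap f
    have hmem : ∀ x : M₁, x ∈ K ↔ f x ∈ N := by
      intro x
      constructor
      · rintro ⟨y, _, hy⟩
        rw [← hy]; exact y.2
      · intro hx
        refine ⟨⟨f x, hx⟩, ?_, rfl⟩
        rw [SetLike.mem_coe, LinearMap.mem_ker]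
        apply Subtype.ext
        change g (f x) = 0
        have : f x ∈ LinearMap.ker g := hfg ▸ LinearMap.mem_range_self f x
        exact this
    let e0 : K →ₗ[R] LinearMap.ker l :=
      { toFun := fun x => ⟨⟨f x.1, (hmem x.1).1 x.2⟩, by
          rw [LinearMap.mem_ker]
          apply Subtype.ext
          change g (f x.1) = 0
          have : f x.1 ∈ LinearMap.ker g := hfg ▸ LinearMap.mem_range_self f x.1
          exact this⟩
        map_add' := fun x y => by
          apply Subtype.ext; apply Subtype.ext
          simp
        map_smul' := fun r x => by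
          apply Subtype.ext; apply Subtype.ext
          simp }
    have he0 : Function.Bijective e0 := by
      constructor
      · intro x y hxy
        apply Subtype.ext
        apply hf
        exact congrArg (fun z : LinearMap.ker l => (z.1.1 : M₂)) hxy
      · rintro ⟨⟨y, hyN⟩, hy⟩
        have hy' : g y = 0 := by
          have := congrArg Subtype.val (LinearMap.mem_ker.1 hy)
          exact this
        have : y ∈ LinearMap.range f := by rw [hfg]; exact hy'
        obtain ⟨x, rfl⟩ := this
        exact ⟨⟨x, (hmem x).2 hyN⟩, rfl⟩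
    let e : K ≃ₗ[R] LinearMap.ker l := LinearEquiv.ofBijective e0 he0
    have hK : K.FG := by
      have : Module.Finite R (LinearMap.ker l) := Module.Finite.iff_fg.2 hker
      have : Module.Finite R K := Module.Finite.equiv e.symm
      exact Module.Finite.iff_fg.1 this
    have : Module.FinitePresentation R K := coh₁ K hK
    have : Module.FinitePresentation R (LinearMap.ker l) := Module.FinitePresentation.of_equiv e
    exact Module.finitePresentation_of_ker l hl

/-- Coherence transfers along linear equivalences. -/
theorem isCoh_of_equiv {M : Type v} {M' : Type w} [AddCommGroup M] [Module R M] [AddCommGroup M']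
    [Module R M'] (e : M ≃ₗ[R] M') (h : IsCoh R M) : IsCoh R M' := by
  refine isCoh_of_exact (M₁ := M) (M₃ := PUnit.{1}) e.toLinearMap 0 e.injective
    (fun x => ⟨0, Subsingleton.elim _ _⟩) ?_ h ?_
  · rw [LinearMap.range_eq_top.2 e.surjective, LinearMap.ker_zero]
  · exact ⟨inferInstance, fun N _ => inferInstance⟩

theorem isCoh_prod {M : Type v} {M' : Type w} [AddCommGroup M] [Module R M] [AddCommGroup M']
    [Module R M'] (h : IsCoh R M) (h' : IsCoh R M') : IsCoh R (M × M') :=
  isCoh_of_exact (LinearMap.inl R M M') (LinearMap.snd R M M') LinearMap.inl_injective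
    LinearMap.snd_surjective (LinearMap.range_inl R M M') h h'

theorem isCoh_of_subsingleton {M : Type v} [AddCommGroup M] [Module R M] [Subsingleton M] :
    IsCoh R M :=
  ⟨inferInstance, fun N _ => inferInstance⟩

theorem isCoh_self (hR : ∀ I : Ideal R, I.FG → Module.FinitePresentation R I) : IsCoh R R :=
  ⟨inferInstance, fun N hN => hR N hN⟩

theorem isCoh_pi_fin (hR : ∀ I : Ideal R, I.FG → Module.FinitePresentation R I) (n : ℕ) :
    IsCoh R (Fin n → R) := by
  induction n with
  | zero => exact isCoh_of_subsingleton
  | succ n ih =>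
    exact isCoh_of_equiv (Fin.consLinearEquiv R (fun _ : Fin (n + 1) => R))
      (isCoh_prod (isCoh_self hR) ih)

theorem isCoh_quotient {P : Type v} [AddCommGroup P] [Module R P] (h : IsCoh R P)
    (K : Submodule R P) (hK : K.FG) : IsCoh R (P ⧸ K) := by
  obtain ⟨fin, coh⟩ := h
  refine ⟨inferInstance, fun N' hN' => ?_⟩
  let N : Submodule R P := N'.comap K.mkQ
  have hKN : K ≤ N := by
    intro x hx
    change K.mkQ x ∈ N'
    rw [Submodule.mkQ_apply, (Submodule.Quotient.mk_eq_zero K).2 hx]
    exact N'.zero_mem
  have hN : N.FG := by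
    apply Submodule.fg_of_fg_map_of_fg_inf_ker K.mkQ
    · rw [Submodule.map_comap_eq_of_surjective K.mkQ_surjective]; exact hN'
    · rw [Submodule.ker_mkQ, inf_eq_right.2 hKN]; exact hK
  have : Module.FinitePresentation R N := coh N hN
  let l : N →ₗ[R] N' := K.mkQ.restrict (fun x hx => hx)
  have hl : Function.Surjective l := by
    rintro ⟨y, hy⟩
    obtain ⟨x, rfl⟩ := K.mkQ_surjective y
    exact ⟨⟨x, hy⟩, rfl⟩
  have hker : (LinearMap.ker l).FG := by
    have heq : LinearMap.ker l = K.comap N.subtype := by
      ext x
      rw [LinearMap.mem_ker, Submodule.mem_comap]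
      constructor
      · intro hx
        have := congrArg Subtype.val hx
        exact (Submodule.Quotient.mk_eq_zero K).1 this
      · intro hx
        apply Subtype.ext
        exact (Submodule.Quotient.mk_eq_zero K).2 hx
    rw [heq]
    have : Module.Finite R K := Module.Finite.iff_fg.2 hK
    have : Module.Finite R (K.comap N.subtype) :=
      Module.Finite.equiv (Submodule.comapSubtypeEquivOfLe hKN).symm
    exact Module.Finite.iff_fg.1 this
  exact Module.finitePresentation_of_surjective l hl hker

theorem isCoh_of_finitePresentation (hR : ∀ I : Ideal R, I.FG → Module.FinitePresentation R I)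
    (M : Type v) [AddCommGroup M] [Module R M] [Module.FinitePresentation R M] : IsCoh R M := by
  obtain ⟨n, K, e, hK⟩ := Module.FinitePresentation.exists_fin R M
  exact isCoh_of_equiv e.symm (isCoh_quotient (isCoh_pi_fin hR n) K hK)

end Groth.Agent.H32
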