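import Groth.Prelude.Def_W4stkcategoriessitesFib

set_option autoImplicit false
open CategoryTheory CategoryTheory.Limits
universe v u

namespace Groth.Agent.H32

variable {X Y Z A B C : Type u} [Category.{v} X] [Category.{v} Y] [Category.{v} Z]
  [Category.{v} A] [Category.{v} B] [Category.{v} C] {H : X ⥤ Z} {I : Y ⥤ Z} {F : A ⥤ C} {G : B ⥤ C}
  (ψ : CatCospanTransform H I F G)

theorem cpm_obj_iso_hom (x : CategoricalPullback H I) :
    ((FibCat.categoricalPullbackMap ψ).obj x).iso.hom =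
      ψ.squareLeft.iso.inv.app x.fst ≫ ψ.base.map x.iso.hom ≫
        ψ.squareRight.iso.hom.app x.snd := by
  simp [FibCat.categoricalPullbackMap]
  rfl

theorem cpm_faithful [ψ.left.Faithful] [ψ.right.Faithful] :
    (FibCat.categoricalPullbackMap ψ).Faithful := by
  refine ⟨fun {x y} f g h => ?_⟩
  apply CategoricalPullback.hom_ext
  · apply ψ.left.map_injective
    exact congrArg (fun k => k.fst) h
  · apply ψ.right.map_injective
    exact congrArg (fun k => k.snd) h

theorem cpm_full [ψ.left.Full] [ψ.right.Full] [ψ.base.Faithful] :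
    (FibCat.categoricalPullbackMap ψ).Full := by
  refine ⟨fun {x y} k => ?_⟩
  obtain ⟨a, ha⟩ : ∃ a : x.fst ⟶ y.fst, ψ.left.map a = k.fst := ψ.left.map_surjective k.fst
  obtain ⟨b, hb⟩ : ∃ b : x.snd ⟶ y.snd, ψ.right.map b = k.snd := ψ.right.map_surjective k.snd
  have hw := k.w
  rw [cpm_obj_iso_hom, cpm_obj_iso_hom, ← ha, ← hb] at hw
  have hL := NatIso.naturality_2 ψ.squareLeft.iso a
  have hR := NatIso.naturality_2 ψ.squareRight.iso b
  simp only [Functor.comp_map] at hL hR
  have w : H.map a ≫ y.iso.hom = x.iso.hom ≫ I.map b := by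
    apply ψ.base.map_injective
    rw [ψ.base.map_comp, ψ.base.map_comp, ← hL, ← hR]
    rw [← cancel_mono (ψ.squareRight.iso.hom.app y.snd)]
    simp only [Category.assoc, Iso.inv_hom_id_app, Category.comp_id]
    have hw' : F.map (ψ.left.map a) ≫ ψ.squareLeft.iso.inv.app y.fst ≫ ψ.base.map y.iso.hom ≫
        ψ.squareRight.iso.hom.app y.snd =
        (ψ.squareLeft.iso.inv.app x.fst ≫ ψ.base.map x.iso.hom ≫ ψ.squareRight.iso.hom.app x.snd) ≫
          G.map (ψ.right.map b) := hw
    rw [hw']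
    simp
  exact ⟨⟨a, b, w⟩, CategoricalPullback.hom_ext ha hb⟩

theorem cpm_essSurj [ψ.left.EssSurj] [ψ.right.EssSurj] [ψ.base.Full] [ψ.base.Faithful] :
    (FibCat.categoricalPullbackMap ψ).EssSurj := by
  refine ⟨fun z => ?_⟩
  let ea := ψ.left.objObjPreimageIso z.fst
  let eb := ψ.right.objObjPreimageIso z.snd
  let eL := ψ.squareLeft.iso
  let eR := ψ.squareRight.iso
  let θ : ψ.base.obj (H.obj (ψ.left.objPreimage z.fst)) ≅
      ψ.base.obj (I.obj (ψ.right.objPreimage z.snd)) :=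
    eL.app _ ≪≫ F.mapIso ea ≪≫ z.iso ≪≫ (G.mapIso eb).symm ≪≫ (eR.app _).symm
  let φ : H.obj (ψ.left.objPreimage z.fst) ≅ I.obj (ψ.right.objPreimage z.snd) :=
    ψ.base.preimageIso θ
  let x : CategoricalPullback H I := ⟨ψ.left.objPreimage z.fst, ψ.right.objPreimage z.snd, φ⟩
  have w : F.map ea.hom ≫ z.iso.hom =
      (eL.inv.app x.fst ≫ ψ.base.map φ.hom ≫ eR.hom.app x.snd) ≫ G.map eb.hom := by
    have h1 : ψ.base.map φ.hom = θ.hom := Functor.map_preimage _ _
    rw [h1]
    simp only [θ, Iso.trans_hom, Iso.app_hom, Functor.mapIso_hom, Iso.symm_hom, Functor.mapIso_inv,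
      Iso.app_inv, Category.assoc, Iso.inv_hom_id_app, Category.comp_id, Iso.inv_hom_id_app_assoc,
      x]
    have h2 : G.map eb.inv ≫ G.map eb.hom = 𝟙 _ := by
      rw [← G.map_comp, Iso.inv_hom_id, G.map_id]
    erw [Category.id_comp]
    rw [h2, Category.comp_id]
  refine ⟨x, ⟨CategoricalPullback.mkIso ea eb ?_⟩⟩
  rw [cpm_obj_iso_hom]
  exact w

theorem cpm_isEquivalence [ψ.left.IsEquivalence] [ψ.right.IsEquivalence] [ψ.base.Full]
    [ψ.base.Faithful] : (FibCat.categoricalPullbackMap ψ).IsEquivalence := by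
  have := cpm_faithful ψ
  have := cpm_full ψ
  have := cpm_essSurj ψ
  exact {}

end Groth.Agent.H32
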