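import Mathlib
import Groth.Prelude.Def_FlatCA

/-!
# Content submodules of elements of `Q ⊗ N`

For an element `x` of `Q ⊗ N`, a content submodule is a smallest submodule `Q₀` of `Q` such that
`x` dies in `(Q ⧸ Q₀) ⊗ N`. Projective modules have finitely generated content submodules; and
content submodules give a criterion for universal injectivity.
-/

set_option autoImplicit false
universe u

open TensorProduct

namespace Groth.Agent.H32.ContentSub

variable {A : Type u} [CommRing A]

/-- `Q₀` is a content submodule of `x ∈ Q ⊗ N` -/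
def IsContent {Q N : Type u} [AddCommGroup Q] [Module A Q] [AddCommGroup N] [Module A N]
    (x : Q ⊗[A] N) (Q₀ : Submodule A Q) : Prop :=
  Q₀.mkQ.rTensor N x = 0 ∧ ∀ Q₁ : Submodule A Q, Q₁.mkQ.rTensor N x = 0 → Q₀ ≤ Q₁

section Free

variable {Q F : Type u} [AddCommGroup Q] [Module A Q] [AddCommGroup F] [Module A F]

theorem equivFinsupp_rTensor {ι : Type u} [DecidableEq ι] (b : Module.Basis ι A F) {Q' : Type u}
    [AddCommGroup Q'] [Module A Q'] (f : Q →ₗ[A] Q') (y : Q ⊗[A] F) (i : ι) :
    TensorProduct.equivFinsuppOfBasisRight b (f.rTensor F y) i =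
      f (TensorProduct.equivFinsuppOfBasisRight b y i) := by
  induction y with
  | zero => simp
  | tmul q n =>
    rw [LinearMap.rTensor_tmul, TensorProduct.equivFinsuppOfBasisRight_apply_tmul_apply,
      TensorProduct.equivFinsuppOfBasisRight_apply_tmul_apply, map_smul]
  | add y₁ y₂ h₁ h₂ =>
    rw [map_add, map_add, map_add, Finsupp.add_apply, Finsupp.add_apply, h₁, h₂, map_add]

theorem exists_isContent_of_free [Module.Free A F] (y : Q ⊗[A] F) :
    ∃ Q₀ : Submodule A Q, Q₀.FG ∧ IsContent y Q₀ := by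
  classical
  let ι := Module.Free.ChooseBasisIndex A F
  let b : Module.Basis ι A F := Module.Free.chooseBasis A F
  let e := TensorProduct.equivFinsuppOfBasisRight (M := Q) b
  have key : ∀ Q₁ : Submodule A Q, Q₁.mkQ.rTensor F y = 0 ↔ ∀ i, e y i ∈ Q₁ := by
    intro Q₁
    rw [← (TensorProduct.equivFinsuppOfBasisRight (M := Q ⧸ Q₁) b).map_eq_zero_iff,
      Finsupp.ext_iff]
    refine forall_congr' fun i => ?_
    rw [equivFinsupp_rTensor, Finsupp.zero_apply, Submodule.mkQ_apply,
      Submodule.Quotient.mk_eq_zero]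
  refine ⟨Submodule.span A (((e y).support.image fun i => e y i : Finset Q) : Set Q),
    Submodule.fg_span (Finset.finite_toSet _), ?_, ?_⟩
  · rw [key]
    intro i
    by_cases hi : i ∈ (e y).support
    · apply Submodule.subset_span
      exact Finset.mem_coe.mpr (Finset.mem_image_of_mem _ hi)
    · rw [Finsupp.notMem_support_iff.mp hi]
      exact Submodule.zero_mem _
  · intro Q₁ h₁
    rw [key] at h₁
    rw [Submodule.span_le]
    intro q hq
    obtain ⟨i, _, rfl⟩ := Finset.mem_image.mp (Finset.mem_coe.mp hq)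
    exact h₁ i

end Free

section Projective

variable {Q P : Type u} [AddCommGroup Q] [Module A Q] [AddCommGroup P] [Module A P]

theorem exists_isContent_of_projective [Module.Projective A P] (x : Q ⊗[A] P) :
    ∃ Q₀ : Submodule A Q, Q₀.FG ∧ IsContent x Q₀ := by
  obtain ⟨s, hs⟩ := (Module.projective_def' (R := A) (P := P)).mp inferInstance
  let r : (P →₀ A) →ₗ[A] P := Finsupp.linearCombination A id
  have hrs : r ∘ₗ s = LinearMap.id := hs
  obtain ⟨Q₀, hfg, h0, hmin⟩ := exists_isContent_of_free (s.lTensor Q x)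
  refine ⟨Q₀, hfg, ?_, ?_⟩
  · have hx : x = r.lTensor Q (s.lTensor Q x) := by
      rw [← LinearMap.comp_apply, ← LinearMap.lTensor_comp, hrs, LinearMap.lTensor_id,
        LinearMap.id_apply]
    rw [hx, ← LinearMap.comp_apply, LinearMap.rTensor_comp_lTensor,
      ← LinearMap.lTensor_comp_rTensor, LinearMap.comp_apply, h0, map_zero]
  · intro Q₁ h₁
    apply hmin
    rw [← LinearMap.comp_apply, LinearMap.rTensor_comp_lTensor,
      ← LinearMap.lTensor_comp_rTensor, LinearMap.comp_apply, h₁, map_zero]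

end Projective

section Transfer

variable {Q N N' : Type u} [AddCommGroup Q] [Module A Q] [AddCommGroup N] [Module A N]
  [AddCommGroup N'] [Module A N']

/-- content submodules transfer along a universally injective map, up to an automorphism of the
target -/
theorem isContent_of_univInj (g : N' →ₗ[A] N) (hg : FlatCA.UnivInj A g) (μ : N →ₗ[A] N)
    (hμ : ∀ (Q' : Type u) [AddCommGroup Q'] [Module A Q'], Function.Injective (μ.lTensor Q'))
    (x : Q ⊗[A] N) (x' : Q ⊗[A] N') (hx : μ.lTensor Q x = g.lTensor Q x') (Q₀ : Submodule A Q)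
    (h : IsContent x' Q₀) : IsContent x Q₀ := by
  have key : ∀ Q₁ : Submodule A Q, Q₁.mkQ.rTensor N x = 0 ↔ Q₁.mkQ.rTensor N' x' = 0 := by
    intro Q₁
    have e1 : μ.lTensor (Q ⧸ Q₁) (Q₁.mkQ.rTensor N x) =
        g.lTensor (Q ⧸ Q₁) (Q₁.mkQ.rTensor N' x') := by
      rw [← LinearMap.comp_apply, LinearMap.lTensor_comp_rTensor,
        ← LinearMap.rTensor_comp_lTensor, LinearMap.comp_apply, hx, ← LinearMap.comp_apply,
        LinearMap.rTensor_comp_lTensor, ← LinearMap.lTensor_comp_rTensor, LinearMap.comp_apply]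
    constructor
    · intro h0
      apply hg (Q ⧸ Q₁)
      rw [← e1, h0, map_zero, map_zero]
    · intro h0
      apply hμ (Q ⧸ Q₁)
      rw [e1, h0, map_zero, map_zero]
  exact ⟨(key Q₀).mpr h.1, fun Q₁ h₁ => h.2 Q₁ ((key Q₁).mp h₁)⟩

end Transfer

section Killed

variable {N M : Type u} [AddCommGroup N] [Module A N] [AddCommGroup M] [Module A M]

/-- a map injective modulo a maximal ideal `m` stays injective after tensoring with any module over
the residue field `A ⧸ m` -/
theorem lTensor_injective_of_module_quotient (m : Ideal A) [m.IsMaximal] (u : N →ₗ[A] M)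
    (hu : Function.Injective (u.lTensor (A ⧸ m))) (V : Type u) [AddCommGroup V] [Module A V]
    [Module (A ⧸ m) V] [IsScalarTower A (A ⧸ m) V] : Function.Injective (u.lTensor V) := by
  let _ : Field (A ⧸ m) := Ideal.Quotient.field m
  have hflatV : Module.Flat (A ⧸ m) V := inferInstance
  let eN := TensorProduct.AlgebraTensorModule.cancelBaseChange A (A ⧸ m) (A ⧸ m) V N
  let eM := TensorProduct.AlgebraTensorModule.cancelBaseChange A (A ⧸ m) (A ⧸ m) V M
  have hu' : Function.Injective (u.baseChange (A ⧸ m)) := hu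
  have hflat : Function.Injective ((u.baseChange (A ⧸ m)).lTensor V) :=
    Module.Flat.lTensor_preserves_injective_linearMap _ hu'
  have hcomm : ∀ z, u.lTensor V (eN z) = eM ((u.baseChange (A ⧸ m)).lTensor V z) := by
    intro z
    induction z with
    | zero => simp
    | tmul v w =>
      induction w with
      | zero => simp
      | tmul a n =>
        simp [eN, eM]
      | add w₁ w₂ h₁ h₂ =>
        rw [TensorProduct.tmul_add, map_add, map_add, h₁, h₂, map_add, map_add]
    | add z₁ z₂ h₁ h₂ => rw [map_add, map_add, h₁, h₂, map_add, map_add]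
  intro x y hxy
  obtain ⟨x', rfl⟩ := eN.surjective x
  obtain ⟨y', rfl⟩ := eN.surjective y
  rw [hcomm, hcomm] at hxy
  rw [hflat (eM.injective hxy)]

end Killed

section Nakayama

variable {Q : Type u} [AddCommGroup Q] [Module A Q]

/-- a nonzero finitely generated submodule is not fixed by some maximal ideal -/
theorem exists_maximal_not_le_smul (Q₀ : Submodule A Q) (hfg : Q₀.FG) (hne : Q₀ ≠ ⊥) :
    ∃ m : Ideal A, m.IsMaximal ∧ ¬ Q₀ ≤ m • Q₀ := by
  by_contra hcon
  push_neg at hcon
  apply hne
  have hann : Q₀.annihilator = ⊤ := by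
    by_contra hne'
    obtain ⟨m, hm, hle⟩ := Ideal.exists_le_maximal _ hne'
    obtain ⟨r, hr1, hr0⟩ :=
      Submodule.exists_sub_one_mem_and_smul_eq_zero_of_fg_of_le_smul m Q₀ hfg (hcon m hm)
    have hrm : r ∈ m := hle (Submodule.mem_annihilator.mpr fun n hn => hr0 n hn)
    apply hm.ne_top
    rw [Ideal.eq_top_iff_one]
    have : (1 : A) = r - (r - 1) := by ring
    rw [this]
    exact m.sub_mem hrm hr1
  rw [Submodule.eq_bot_iff]
  intro q hq
  have h1 : (1 : A) ∈ Q₀.annihilator := by rw [hann]; trivial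
  have := Submodule.mem_annihilator.mp h1 q hq
  rwa [one_smul] at this

end Nakayama

section Main

variable {Q N M : Type u} [AddCommGroup Q] [Module A Q] [AddCommGroup N] [Module A N]
  [AddCommGroup M] [Module A M]

/-- the key step: if `u (x) = 0` and `x` has a finitely generated content submodule `Q₀`, then
for a maximal ideal `m`, `x` already dies modulo `m • Q₀`. -/
theorem rTensor_mkQ_smul_eq_zero [Module.Flat A M] (u : N →ₗ[A] M) (m : Ideal A) [m.IsMaximal]
    (hm : Function.Injective (u.lTensor (A ⧸ m)))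
    (x : Q ⊗[A] N) (hx : u.lTensor Q x = 0) (Q₀ : Submodule A Q)
    (h0 : Q₀.mkQ.rTensor N x = 0) : (m • Q₀).mkQ.rTensor N x = 0 := by
  -- lift to `Q₀ ⊗ N`
  have hex : Function.Exact (Q₀.subtype.rTensor N) (Q₀.mkQ.rTensor N) :=
    rTensor_exact N (LinearMap.exact_subtype_mkQ Q₀) (Submodule.mkQ_surjective Q₀)
  obtain ⟨x₀, rfl⟩ := (hex x).mp h0
  have hinjM : Function.Injective (Q₀.subtype.rTensor M) :=
    Module.Flat.rTensor_preserves_injective_linearMap (M := M) Q₀.subtype Q₀.injective_subtype
  have hx₀ : u.lTensor Q₀ x₀ = 0 := by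
    apply hinjM
    rw [map_zero, ← LinearMap.comp_apply, LinearMap.rTensor_comp_lTensor,
      ← LinearMap.lTensor_comp_rTensor, LinearMap.comp_apply, hx]
  -- pass to `V = Q₀ / m Q₀`
  let W : Submodule A Q₀ := m • ⊤
  have htors : Module.IsTorsionBySet A (Q₀ ⧸ W) m := Module.isTorsionBySet_quotient_ideal_smul Q₀ m
  let _ : Module (A ⧸ m) (Q₀ ⧸ W) := htors.module
  have hinjV : Function.Injective (u.lTensor (Q₀ ⧸ W)) :=
    lTensor_injective_of_module_quotient m u hm (Q₀ ⧸ W)
  have hW : W.mkQ.rTensor N x₀ = 0 := by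
    apply hinjV
    rw [map_zero, ← LinearMap.comp_apply, LinearMap.lTensor_comp_rTensor,
      ← LinearMap.rTensor_comp_lTensor, LinearMap.comp_apply, hx₀, map_zero]
  have hexW : Function.Exact (W.subtype.rTensor N) (W.mkQ.rTensor N) :=
    rTensor_exact N (LinearMap.exact_subtype_mkQ W) (Submodule.mkQ_surjective W)
  obtain ⟨x₁, rfl⟩ := (hexW x₀).mp hW
  have hzero : (m • Q₀).mkQ ∘ₗ Q₀.subtype ∘ₗ W.subtype = 0 := by
    ext w
    rw [LinearMap.comp_apply, LinearMap.comp_apply, LinearMap.zero_apply, Submodule.mkQ_apply,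
      Submodule.Quotient.mk_eq_zero]
    have h1 : Q₀.subtype (W.subtype w) ∈ W.map Q₀.subtype := Submodule.mem_map_of_mem w.2
    have h2 : W.map Q₀.subtype = m • Q₀ := by
      rw [Submodule.map_smul'', Submodule.map_top, Submodule.range_subtype]
    rwa [h2] at h1
  rw [← LinearMap.comp_apply, ← LinearMap.comp_apply, ← LinearMap.rTensor_comp,
    ← LinearMap.rTensor_comp, LinearMap.comp_assoc, hzero, LinearMap.rTensor_zero,
    LinearMap.zero_apply]

theorem eq_zero_of_isContent [Module.Flat A M] (u : N →ₗ[A] M)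
    (hmax : ∀ (m : Ideal A) [m.IsMaximal], Function.Injective (u.lTensor (A ⧸ m)))
    (x : Q ⊗[A] N) (hx : u.lTensor Q x = 0) (Q₀ : Submodule A Q) (hfg : Q₀.FG)
    (hc : IsContent x Q₀) : x = 0 := by
  have hbot : Q₀ = ⊥ := by
    by_contra hne
    obtain ⟨m, hm, hnle⟩ := exists_maximal_not_le_smul Q₀ hfg hne
    exact hnle (hc.2 _ (rTensor_mkQ_smul_eq_zero u m (hmax m) x hx Q₀ hc.1))
  have h0 := hc.1
  rw [hbot] at h0
  -- `Q → Q ⧸ ⊥` is an isomorphism
  have hinj : Function.Injective ((⊥ : Submodule A Q).mkQ.rTensor N) := by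
    have : ((Submodule.quotEquivOfEqBot (⊥ : Submodule A Q) rfl).symm.toLinearMap) =
        (⊥ : Submodule A Q).mkQ := by
      ext q
      rfl
    rw [← this]
    exact (LinearEquiv.rTensor N (Submodule.quotEquivOfEqBot (⊥ : Submodule A Q) rfl).symm).injective
  exact hinj (by rw [h0, map_zero])

end Main

end Groth.Agent.H32.ContentSub
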