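import Mathlib
import Groth.Prelude.Def_FlatCA
import Groth.Agent.H32.ContentSub

/-!
# A Nakayama-type vanishing statement for elements of `K ⊗ N` with `N` projective

If `x ∈ K ⊗ N`, `N` projective over `A`, `K` a field over `A` whose kernel lies in a prime `t`,
and `s • x = ∑ τ i • (K ⊗ β i) x` with `s ∉ t`, `τ i ∈ t`, then `x = 0`.
-/

set_option autoImplicit false
set_option linter.unusedSectionVars false
universe u

open TensorProduct

namespace Groth.Agent.H32.ContentNak

open Groth.Agent.H32.ContentSub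

variable {A : Type u} [CommRing A]

section CH

/-- Cayley–Hamilton form of Nakayama: if `s M ⊆ I M` for a finite module `M`, then some `d`
congruent to a power of `s` modulo `I` kills `M`. -/
theorem exists_sub_pow_mem_and_smul_eq_zero {M : Type u} [AddCommGroup M] [Module A M]
    [Module.Finite A M] (I : Ideal A) (s : A)
    (h : ∀ m : M, s • m ∈ (I • ⊤ : Submodule A M)) :
    ∃ (d : A) (n : ℕ), d - s ^ n ∈ I ∧ ∀ m : M, d • m = 0 := by
  have hr : LinearMap.range (algebraMap A (Module.End A M) s) ≤ I • ⊤ := by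
    rintro _ ⟨m, rfl⟩
    rw [Module.algebraMap_end_apply]
    exact h m
  obtain ⟨p, hmonic, -, hcoeff, hp⟩ :=
    LinearMap.exists_monic_and_natDegree_eq_and_coeff_mem_pow_and_aeval_eq_zero A
      (algebraMap A (Module.End A M) s) I hr
  refine ⟨p.eval s, p.natDegree, ?_, ?_⟩
  · rw [Polynomial.eval_eq_sum_range, Finset.sum_range_succ, hmonic.coeff_natDegree, one_mul,
      add_sub_cancel_right]
    refine Ideal.sum_mem _ fun k hk => ?_
    apply Ideal.mul_mem_right
    have hk' : k < p.natDegree := Finset.mem_range.mp hk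
    exact Ideal.pow_le_self (by omega) (hcoeff k)
  · intro m
    rw [Polynomial.aeval_algebraMap_apply_eq_algebraMap_eval] at hp
    have := LinearMap.congr_fun hp m
    rwa [Module.algebraMap_end_apply, LinearMap.zero_apply] at this

end CH

section Main

theorem eq_zero_of_rTensor_mkQ_bot {Q N : Type u} [AddCommGroup Q] [Module A Q] [AddCommGroup N]
    [Module A N] (x : Q ⊗[A] N) (h0 : (⊥ : Submodule A Q).mkQ.rTensor N x = 0) : x = 0 := by
  have hinj : Function.Injective ((⊥ : Submodule A Q).mkQ.rTensor N) := by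
    have : ((Submodule.quotEquivOfEqBot (⊥ : Submodule A Q) rfl).symm.toLinearMap) =
        (⊥ : Submodule A Q).mkQ := by
      ext q
      rfl
    rw [← this]
    exact (LinearEquiv.rTensor N (Submodule.quotEquivOfEqBot (⊥ : Submodule A Q) rfl).symm).injective
  exact hinj (by rw [h0, map_zero])

variable {K N : Type u} [Field K] [Algebra A K] [AddCommGroup N] [Module A N]
  [Module.Projective A N]

/-- evaluation of `K ⊗ β` at `x`, linear in the endomorphism `β` -/
noncomputable def evalL (x : K ⊗[A] N) : Module.End A N →ₗ[A] K ⊗[A] N :=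
  (LinearMap.applyₗ x) ∘ₗ (LinearMap.lTensorHom K)

theorem evalL_apply (x : K ⊗[A] N) (β : Module.End A N) : evalL x β = β.lTensor K x := rfl

theorem eq_zero_of_smul_mem (t : Ideal A) [t.IsPrime]
    (hK : ∀ d : A, algebraMap A K d = 0 → d ∈ t)
    (x : K ⊗[A] N) (s : A) (hs : s ∉ t)
    (h : s • x ∈ t • LinearMap.range (evalL x)) : x = 0 := by
  obtain ⟨Q₀, hfg, h0, hmin⟩ := exists_isContent_of_projective x
  have hβ : ∀ β : Module.End A N, Q₀.mkQ.rTensor N (β.lTensor K x) = 0 := by
    intro β
    rw [← LinearMap.comp_apply, LinearMap.rTensor_comp_lTensor, ← LinearMap.lTensor_comp_rTensor,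
      LinearMap.comp_apply, h0, map_zero]
  have hex : Function.Exact (Q₀.subtype.rTensor N) (Q₀.mkQ.rTensor N) :=
    rTensor_exact N (LinearMap.exact_subtype_mkQ Q₀) (Submodule.mkQ_surjective Q₀)
  let Q₁ : Submodule A K := t • Q₀
  have hsx : Q₁.mkQ.rTensor N (s • x) = 0 := by
    refine Submodule.smul_induction_on h ?_ ?_
    · rintro τ hτ _ ⟨β, rfl⟩
      rw [evalL_apply]
      obtain ⟨y, hy⟩ := (hex _).mp (hβ β)
      have hz : τ • (Q₁.mkQ ∘ₗ Q₀.subtype) = 0 := by
        ext q
        rw [LinearMap.smul_apply, LinearMap.comp_apply, LinearMap.zero_apply, ← map_smul,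
          Submodule.mkQ_apply, Submodule.Quotient.mk_eq_zero]
        exact Submodule.smul_mem_smul hτ q.2
      rw [← hy, map_smul, ← LinearMap.comp_apply, ← LinearMap.rTensor_comp,
        ← LinearMap.smul_apply, ← LinearMap.rTensor_smul, hz, LinearMap.rTensor_zero,
        LinearMap.zero_apply]
    · intro y₁ y₂ h₁ h₂
      rw [map_add, h₁, h₂, add_zero]
  let Q₂ : Submodule A K := Q₁.comap (LinearMap.lsmul A K s)
  let μ : (K ⧸ Q₂) →ₗ[A] (K ⧸ Q₁) := Submodule.mapQ Q₂ Q₁ (LinearMap.lsmul A K s) le_rfl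
  have hμ : Function.Injective μ := by
    rw [← LinearMap.ker_eq_bot]
    apply Submodule.ker_liftQ_eq_bot'
    rw [LinearMap.ker_comp, Submodule.ker_mkQ]
  have hμN : Function.Injective (μ.rTensor N) :=
    Module.Flat.rTensor_preserves_injective_linearMap (M := N) μ hμ
  have hQ₂ : Q₂.mkQ.rTensor N x = 0 := by
    apply hμN
    have e1 : μ ∘ₗ Q₂.mkQ = Q₁.mkQ ∘ₗ LinearMap.lsmul A K s := Submodule.mapQ_mkQ _ _ _
    have e2 : (LinearMap.lsmul A K s).rTensor N x = s • x := by
      have : LinearMap.lsmul A K s = s • LinearMap.id := by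
        ext k
        rfl
      rw [this, LinearMap.rTensor_smul, LinearMap.rTensor_id, LinearMap.smul_apply,
        LinearMap.id_apply]
    rw [map_zero, ← LinearMap.comp_apply, ← LinearMap.rTensor_comp, e1, LinearMap.rTensor_comp,
      LinearMap.comp_apply, e2, hsx]
  have hle : Q₀ ≤ Q₂ := hmin Q₂ hQ₂
  -- Cayley–Hamilton
  have hfin : Module.Finite A Q₀ := Module.Finite.iff_fg.mpr hfg
  have hsm : ∀ m : Q₀, s • m ∈ (t • ⊤ : Submodule A Q₀) := by
    intro m
    have h1 : s • (m : K) ∈ t • Q₀ := hle m.2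
    have h2 : (t • ⊤ : Submodule A Q₀).map Q₀.subtype = t • Q₀ := by
      rw [Submodule.map_smul'', Submodule.map_top, Submodule.range_subtype]
    rw [← h2] at h1
    obtain ⟨y, hy, hyx⟩ := h1
    have : y = s • m := Subtype.ext hyx
    rwa [this] at hy
  obtain ⟨d, n, hdn, hd⟩ := exists_sub_pow_mem_and_smul_eq_zero t s hsm
  have hdt : d ∉ t := by
    intro hdt
    have : s ^ n ∈ t := by
      have e : s ^ n = d - (d - s ^ n) := by ring
      rw [e]
      exact t.sub_mem hdt hdn
    exact hs (Ideal.IsPrime.mem_of_pow_mem inferInstance n this)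
  have hdK : algebraMap A K d ≠ 0 := fun h0 => hdt (hK d h0)
  have hbot : Q₀ = ⊥ := by
    rw [Submodule.eq_bot_iff]
    intro q hq
    have h1 := congrArg (Subtype.val) (hd ⟨q, hq⟩)
    rw [Submodule.coe_smul, Submodule.coe_zero, Algebra.smul_def] at h1
    exact (mul_eq_zero.mp h1).resolve_left hdK
  rw [hbot] at h0
  exact eq_zero_of_rTensor_mkQ_bot x h0

end Main

end Groth.Agent.H32.ContentNak
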