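import Groth.Agent.H32.ML

set_option autoImplicit false
universe u
open TensorProduct DirectSum

namespace Groth.Agent.H32

variable (R : Type u) [CommRing R]

theorem universallyInjective_of_leftInverse {M N : Type u} [AddCommGroup M] [Module R M]
    [AddCommGroup N] [Module R N] (f : M →ₗ[R] N) (r : N →ₗ[R] M) (h : r ∘ₗ f = LinearMap.id) :
    CAlgX.UniversallyInjective R f := by
  intro Q _ _
  apply Function.LeftInverse.injective (g := r.rTensor Q)
  intro x
  rw [← LinearMap.comp_apply, ← LinearMap.rTensor_comp, h, LinearMap.rTensor_id, LinearMap.id_apply]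

theorem directSumLeft_apply_eq_component {ι : Type u} [DecidableEq ι] (M : ι → Type u)
    [∀ i, AddCommGroup (M i)] [∀ i, Module R (M i)] (P : Type u) [AddCommGroup P] [Module R P]
    (x : (⨁ i, M i) ⊗[R] P) (i : ι) :
    TensorProduct.directSumLeft R R M P x i = (DirectSum.component R ι M i).rTensor P x := by
  induction x using TensorProduct.induction_on with
  | zero => simp
  | tmul m p => rw [TensorProduct.directSumLeft_tmul]; rfl
  | add x y hx hy => rw [map_add, map_add, DirectSum.add_apply, hx, hy]

theorem isMittagLeffler_directSum {ι : Type u} (M : ι → Type u)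
    [∀ i, AddCommGroup (M i)] [∀ i, Module R (M i)] :
    CAlg.IsMittagLeffler R (DirectSum ι M) ↔ ∀ i, CAlg.IsMittagLeffler R (M i) := by
  classical
  constructor
  · intro h i
    apply isMittagLeffler_of_universallyInjective R (DirectSum.lof R ι M i) _ h
    apply universallyInjective_of_leftInverse R _ (DirectSum.component R ι M i)
    ext x
    simp
  · intro h κ Q _ _
    rw [injective_iff_map_eq_zero]
    intro x hx
    have h1 : ∀ i, (DirectSum.component R ι M i).rTensor (∀ k, Q k) x = 0 := by
      intro i
      apply h i κ Q
      rw [← piRightHom_natural_apply, hx, map_zero, map_zero]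
    apply (TensorProduct.directSumLeft R R M (∀ k, Q k)).injective
    rw [map_zero]
    ext i
    rw [directSumLeft_apply_eq_component, h1 i]
    rfl

end Groth.Agent.H32
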