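import Groth.Agent.H32.RGLocalE
import Groth.Agent.H53.ReducedSm
import Groth.Agent.S0582
import Groth.Agent.S0584

/-!
# Smooth algebras with geometrically irreducible fibres over a local ring are free modules
-/

set_option autoImplicit false
set_option linter.style.haveILetI false
universe u

open TensorProduct IsLocalRing AlgebraicGeometry CategoryTheory

namespace Groth.Agent.H32.DevA

/-- a smooth morphism is geometrically reduced -/
theorem geometricallyReduced_of_smooth {X Y : Scheme.{u}} (f : X ⟶ Y) [Smooth f] :
    GeometricallyReduced f := by
  refine ⟨fun K _ y Z fst snd h => ?_⟩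
  haveI : Smooth snd := MorphismProperty.of_isPullback (P := @Smooth) h inferInstance
  exact Groth.Agent.H53.isReduced_of_smooth_scheme snd

theorem geomIntegralFibres_of_smooth (R B : Type u) [CommRing R] [CommRing B] [Algebra R B]
    [Algebra.Smooth R B] (h : FlatCA.GeomIrredFibres R B) : FlatCA.GeomIntegralFibres R B := by
  haveI : Smooth (Spec.map (CommRingCat.ofHom (algebraMap R B))) :=
    (HasRingHomProperty.Spec_iff (P := @Smooth)).mpr (RingHom.smooth_algebraMap.mpr inferInstance)
  haveI := geometricallyReduced_of_smooth (Spec.map (CommRingCat.ofHom (algebraMap R B)))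
  haveI : GeometricallyIrreducible (Spec.map (CommRingCat.ofHom (algebraMap R B))) := h
  exact GeometricallyIntegral.of_geometricallyReduced_of_geometricallyIrreducible _

end Groth.Agent.H32.DevA
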