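import Groth.Agent.H32.DevA

/-!
# Projectivity and freeness from flatness and the Mittag-Leffler property
-/

set_option autoImplicit false
set_option linter.style.haveILetI false
universe u

open TensorProduct IsLocalRing
open Pointwise

namespace Groth.Agent.H32.DevB

theorem isInternal_top (R N : Type u) [CommRing R] [AddCommGroup N] [Module R N]
    [DecidableEq PUnit.{u + 1}] :
    DirectSum.IsInternal (fun _ : PUnit.{u + 1} => (⊤ : Submodule R N)) := by
  refine (DirectSum.isInternal_submodule_iff_iSupIndep_and_iSup_eq_top _).mpr ⟨?_, ?_⟩
  · exact iSupIndep_subsingleton _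
  · simp

/-- a finite module over a finite type algebra which is flat and Mittag-Leffler over the base is
projective over the base -/
theorem projective_of_flat_of_isMittagLeffler {R S : Type u} [CommRing R] [CommRing S]
    [Algebra R S] [Algebra.FiniteType R S]
    (N : Type u) [AddCommGroup N] [Module S N] [Module R N] [IsScalarTower R S N]
    [Module.Finite S N] [Module.Flat R N] (hN : CAlg.IsMittagLeffler R N) :
    Module.Projective R N := by
  classical
  rw [Groth.Agent.S0584.result]
  refine ⟨inferInstance, hN, PUnit, fun _ => ⊤, ?_, ?_⟩
  · exact @isInternal_top R N _ _ _ (fun a b => Classical.propDecidable (a = b))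
  · intro _
    obtain ⟨n, f, hf⟩ := Algebra.FiniteType.iff_quotient_mvPolynomial''.mp
      (inferInstance : Algebra.FiniteType R S)
    obtain ⟨G, hG⟩ := (Module.Finite.fg_top : (⊤ : Submodule S N).FG)
    let T : Set S := Set.range fun d : Fin n →₀ ℕ => f (MvPolynomial.monomial d 1)
    have hT : Submodule.span R T = ⊤ := by
      rw [eq_top_iff]
      rintro s -
      obtain ⟨p, rfl⟩ := hf s
      induction p using MvPolynomial.induction_on' with
      | monomial d a =>
        have : (MvPolynomial.monomial d a : MvPolynomial (Fin n) R) =
            a • MvPolynomial.monomial d 1 := by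
          rw [MvPolynomial.smul_monomial, smul_eq_mul, mul_one]
        rw [this, map_smul]
        exact Submodule.smul_mem _ _ (Submodule.subset_span ⟨d, rfl⟩)
      | add p q hp hq =>
        rw [map_add]
        exact add_mem hp hq
    have hspan : Submodule.span R (T • (G : Set N)) = ⊤ := by
      rw [Submodule.span_smul_of_span_eq_top hT, hG]
      rfl
    have hcount : (T • (G : Set N)).Countable := by
      have hTc : T.Countable := Set.countable_range _
      exact Set.Countable.image2 hTc G.countable_toSet _
    refine ⟨(⊤ : Submodule R N).subtype ⁻¹' (T • (G : Set N)), ?_, ?_⟩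
    · exact hcount.preimage_of_injOn (Subtype.val_injective.injOn)
    · rw [eq_top_iff]
      rintro ⟨x, hx⟩ -
      have hx' : x ∈ Submodule.span R (T • (G : Set N)) := by rw [hspan]; trivial
      have : Submodule.span R (T • (G : Set N)) ≤
          (Submodule.span R ((⊤ : Submodule R N).subtype ⁻¹' (T • (G : Set N)))).map
            (⊤ : Submodule R N).subtype := by
        rw [Submodule.span_le]
        intro y hy
        exact ⟨⟨y, trivial⟩, Submodule.subset_span hy, rfl⟩
      obtain ⟨z, hz, hzx⟩ := this hx'
      have : z = ⟨x, hx⟩ := Subtype.ext hzx
      rw [← this]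
      exact hz

/-- a finitely presented flat algebra with geometrically integral fibres over a local ring is a
free module -/
theorem free_of_geomIntegralFibres (R B : Type u) [CommRing R] [IsLocalRing R] [CommRing B]
    [Algebra R B] [Algebra.FinitePresentation R B] [Module.Flat R B]
    (hgi : FlatCA.GeomIntegralFibres R B) : Module.Free R B := by
  haveI : Module.Projective R B := projective_of_flat_of_isMittagLeffler (S := B) B
    (Groth.Agent.H32.MLGeomInt.isMittagLeffler_of_geomIntegralFibres R B hgi)
  exact Groth.Agent.S0582.result R B

end Groth.Agent.H32.DevB
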