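import Mathlib

/-!
# Comparing localizations of a module along a ring map
-/

set_option autoImplicit false
set_option linter.style.haveILetI false
universe u

namespace Groth.Agent.H32.DevC

section

variable {R B A : Type u} [CommRing R] [CommRing B] [CommRing A] [Algebra R B] [Algebra B A]
  [Algebra R A] [IsScalarTower R B A]
  (M : Type u) [AddCommGroup M] [Module A M] [Module B M] [Module R M] [IsScalarTower B A M]
  [IsScalarTower R B M] [IsScalarTower R A M]
  (qB : Ideal B) [qB.IsPrime] (qA : Ideal A) [qA.IsPrime]

/-- If the complement of `qA` is, up to multiples, the image of the complement of `qB`, then the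
localizations of `M` at the two primes agree as `R`-modules; in particular one is flat iff the
other is. -/
theorem flat_localizedModule_iff (hle : ∀ b : B, b ∉ qB → algebraMap B A b ∉ qA)
    (hdiv : ∀ x : A, x ∉ qA → ∃ m : A, ∃ b : B, b ∉ qB ∧ m * x = algebraMap B A b) :
    Module.Flat R (LocalizedModule qB.primeCompl M) ↔
      Module.Flat R (LocalizedModule qA.primeCompl M) := by
  let T : Submonoid A := Algebra.algebraMapSubmonoid A qB.primeCompl
  let f : M →ₗ[A] LocalizedModule T M := LocalizedModule.mkLinearMap T M
  haveI h1 : IsLocalizedModule qB.primeCompl (f.restrictScalars B) :=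
    IsLocalizedModule.restrictScalars qB.primeCompl f
  have hT : T ≤ qA.primeCompl := by
    rintro _ ⟨b, hb, rfl⟩
    exact hle b hb
  haveI h2 : IsLocalizedModule qA.primeCompl f := by
    refine IsLocalizedModule.of_exists_mul_mem T qA.primeCompl hT ?_ f
    intro x
    obtain ⟨m, b, hb, hmx⟩ := hdiv x.1 x.2
    exact ⟨m, b, hb, hmx.symm⟩
  let e1 : LocalizedModule qB.primeCompl M ≃ₗ[B] LocalizedModule T M :=
    IsLocalizedModule.iso qB.primeCompl (f.restrictScalars B)
  let e2 : LocalizedModule qA.primeCompl M ≃ₗ[A] LocalizedModule T M :=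
    IsLocalizedModule.iso qA.primeCompl f
  let e1' : LocalizedModule qB.primeCompl M ≃ₗ[R] LocalizedModule T M := e1.restrictScalars R
  let e2' : LocalizedModule qA.primeCompl M ≃ₗ[R] LocalizedModule T M := e2.restrictScalars R
  constructor
  · intro h
    exact Module.Flat.of_linearEquiv (e2'.trans e1'.symm)
  · intro h
    exact Module.Flat.of_linearEquiv (e1'.trans e2'.symm)

end

end Groth.Agent.H32.DevC
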