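import Groth.Agent.H32.DevC

/-!
# Comparing localizations: the surjective case and the finite case with a unique prime above
-/

set_option autoImplicit false
set_option linter.style.haveILetI false
universe u

namespace Groth.Agent.H32.DevD

section

variable {R B A : Type u} [CommRing R] [CommRing B] [CommRing A] [Algebra R B] [Algebra B A]
  [Algebra R A] [IsScalarTower R B A]
  (M : Type u) [AddCommGroup M] [Module A M] [Module B M] [Module R M] [IsScalarTower B A M]
  [IsScalarTower R B M] [IsScalarTower R A M]
  (qB : Ideal B) [qB.IsPrime] (qA : Ideal A) [qA.IsPrime]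

theorem flat_localizedModule_iff_of_surjective (hsurj : Function.Surjective (algebraMap B A))
    (hq : qA.comap (algebraMap B A) = qB) :
    Module.Flat R (LocalizedModule qB.primeCompl M) ↔
      Module.Flat R (LocalizedModule qA.primeCompl M) := by
  apply Groth.Agent.H32.DevC.flat_localizedModule_iff
  · intro b hb hbA
    apply hb
    rw [← hq]
    exact hbA
  · intro x hx
    obtain ⟨b, rfl⟩ := hsurj x
    refine ⟨1, b, ?_, one_mul _⟩
    intro hb
    rw [← hq] at hb
    exact hx hb

theorem flat_localizedModule_iff_of_isIntegral [Algebra.IsIntegral B A]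
    (hq : qA.comap (algebraMap B A) = qB)
    (huniq : ∀ (Q : Ideal A) [Q.IsPrime], Q.comap (algebraMap B A) = qB → Q = qA) :
    Module.Flat R (LocalizedModule qB.primeCompl M) ↔
      Module.Flat R (LocalizedModule qA.primeCompl M) := by
  apply Groth.Agent.H32.DevC.flat_localizedModule_iff
  · intro b hb hbA
    apply hb
    rw [← hq]
    exact hbA
  · intro x hx
    by_contra hcon
    push_neg at hcon
    have hI : (Ideal.span {x}).comap (algebraMap B A) ≤ qB := by
      intro b hb
      rw [Ideal.mem_comap, Ideal.mem_span_singleton'] at hb
      obtain ⟨m, hm⟩ := hb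
      by_contra hbq
      exact hcon m b hbq hm
    obtain ⟨Q, hQI, hQp, hQc⟩ := Ideal.exists_ideal_over_prime_of_isIntegral qB (Ideal.span {x}) hI
    have := huniq Q hQc
    apply hx
    rw [← this]
    exact hQI (Ideal.subset_span rfl)

end

end Groth.Agent.H32.DevD
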