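import Mathlib

/-!
# Generic helpers for assembling a filtration into a product decomposition
-/

set_option autoImplicit false
set_option linter.style.haveILetI false
universe u

namespace Groth.Agent.H32.DevE

section Loc

variable {R B : Type u} [CommRing R] [CommRing B] [Algebra R B] (T : Submonoid B)
  (M₁ M₂ : Type u) [AddCommGroup M₁] [AddCommGroup M₂] [Module B M₁] [Module B M₂]
  [Module R M₁] [Module R M₂] [IsScalarTower R B M₁] [IsScalarTower R B M₂]

theorem flat_localizedModule_of_linearEquiv (e : M₁ ≃ₗ[B] M₂)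
    (h : Module.Flat R (LocalizedModule T M₁)) : Module.Flat R (LocalizedModule T M₂) := by
  haveI : IsLocalizedModule T ((LocalizedModule.mkLinearMap T M₂) ∘ₗ e.toLinearMap) :=
    IsLocalizedModule.of_linearEquiv_right T (LocalizedModule.mkLinearMap T M₂) e
  let e' : LocalizedModule T M₁ ≃ₗ[B] LocalizedModule T M₂ :=
    IsLocalizedModule.iso T ((LocalizedModule.mkLinearMap T M₂) ∘ₗ e.toLinearMap)
  exact Module.Flat.of_linearEquiv (e'.restrictScalars R).symm

end Loc

section Cast

variable (R : Type u) [CommRing R] (F : ℕ → Type u) [∀ i, AddCommGroup (F i)]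
  [∀ i, Module R (F i)]

/-- transport along an equality of indices -/
def castLE {a b : ℕ} (h : a = b) : F a ≃ₗ[R] F b := by
  subst h
  exact LinearEquiv.refl R (F a)

/-- the product over `Fin (k+1)` of a shifted family splits off its first factor -/
noncomputable def consShift (s k : ℕ) :
    (F s × (∀ j : Fin k, F (s + 1 + j))) ≃ₗ[R] (∀ j : Fin (k + 1), F (s + j)) :=
  (LinearEquiv.prodCongr (castLE R F (Nat.add_zero s).symm)
    (LinearEquiv.piCongrRight fun j : Fin k =>
      castLE R F (show s + 1 + (j : ℕ) = s + ((Fin.succ j : Fin (k + 1)) : ℕ) by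
        rw [Fin.val_succ]; omega))).trans
    (Fin.consLinearEquiv R (fun j : Fin (k + 1) => F (s + j)))

/-- the product over `Fin 1` of a shifted family -/
noncomputable def singleShift (s : ℕ) : F s ≃ₗ[R] (∀ j : Fin 1, F (s + j)) :=
  ((LinearEquiv.prodUnique (R := R) (M := F s) (M₂ := ∀ j : Fin 0, F (s + 1 + j))).symm).trans
    (consShift R F s 0)

/-- removing a zero shift -/
noncomputable def zeroShift (n : ℕ) : (∀ j : Fin n, F (0 + j)) ≃ₗ[R] (∀ j : Fin n, F j) :=
  LinearEquiv.piCongrRight fun j : Fin n => castLE R F (Nat.zero_add (j : ℕ))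

end Cast

section Split

variable {R : Type u} [CommRing R] {M N P : Type u} [AddCommGroup M] [AddCommGroup N]
  [AddCommGroup P] [Module R M] [Module R N] [Module R P]

theorem nonempty_splitEquiv (f : M →ₗ[R] N) (g : N →ₗ[R] P) (hf : Function.Injective f)
    (hfg : Function.Exact f g) (hg : Function.Surjective g) [Module.Projective R P] :
    Nonempty (N ≃ₗ[R] M × P) := by
  obtain ⟨l, hl⟩ := Module.projective_lifting_property g LinearMap.id hg
  exact ⟨(hfg.splitSurjectiveEquiv hf ⟨l, hl⟩).1⟩

end Split

end Groth.Agent.H32.DevE
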