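import Groth.Agent.S1204
import Groth.Agent.H32.DevB
import Groth.Agent.H32.DevD
import Groth.Agent.H32.DevE
import Groth.Agent.H71.QCoh.PushFP

/-!
# One step of a complete dévissage over a local base
-/

set_option autoImplicit false
set_option linter.style.haveILetI false
universe u

open TensorProduct IsLocalRing

namespace Groth.Agent.H32.DevF

section Core

variable {R B : Type u} [CommRing R] [IsLocalRing R] [CommRing B] [Algebra R B]
  [Algebra.Smooth R B]

/-- the free module `B^r` is a free `R`-module -/
theorem free_pi (hirr : FlatCA.GeomIrredFibres R B) (r : ℕ) : Module.Free R (Fin r → B) := by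
  haveI : Module.Free R B := Groth.Agent.H32.DevB.free_of_geomIntegralFibres R B
    (Groth.Agent.H32.DevA.geomIntegralFibres_of_smooth R B hirr)
  infer_instance

variable (hirr : FlatCA.GeomIrredFibres R B) [((maximalIdeal R).map (algebraMap R B)).IsPrime]
  (qB : Ideal B) [qB.IsPrime] [qB.LiesOver (maximalIdeal R)]
  (M : Type u) [AddCommGroup M] [Module B M] [Module R M] [IsScalarTower R B M]
  [Module.Finite B M] {r : ℕ} (α : (Fin r → B) →ₗ[B] M)

include hirr in
theorem core
    (hβ : Function.Bijective (α.baseChange ((maximalIdeal R).map (algebraMap R B)).ResidueField))
    (hflat : Module.Flat R (LocalizedModule qB.primeCompl M)) :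
    Function.Injective α ∧
      Module.Flat R (LocalizedModule qB.primeCompl (M ⧸ LinearMap.range α)) := by
  have hgi := Groth.Agent.H32.DevA.geomIntegralFibres_of_smooth R B hirr
  have h := (Groth.Agent.S1204.result hgi qB M).2 r α hβ
  exact (h.out 0 2).mp hflat

end Core

section FP

variable {B B' A : Type u} [CommRing B] [CommRing B'] [CommRing A] [Algebra B A] [Algebra B' A]
  (M : Type u) [AddCommGroup M] [Module A M] [Module B M] [Module B' M] [IsScalarTower B A M]
  [IsScalarTower B' A M]

/-- transfer of finite presentation along `B ↠ A ⟵ B'` with `A` finite over `B'` -/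
theorem finitePresentation_transfer (hsurj : Function.Surjective (algebraMap B A))
    [Algebra.FinitePresentation B A] [Module.Finite B' A] [Module.FinitePresentation B' M] :
    Module.FinitePresentation B M := by
  haveI : Module.FinitePresentation A M :=
    Groth.Agent.H71.QCoh.finitePresentation_of_restrictScalars B' A M
  haveI : Module.FinitePresentation B A :=
    Module.finitePresentation_of_surjective (Algebra.linearMap B A) hsurj
      (Algebra.FinitePresentation.ker_fG_of_surjective (Algebra.ofId B A) hsurj)
  exact Module.FinitePresentation.trans B M A

end FP

section Ext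

variable {B : Type u} [CommRing B] (M : Type u) [AddCommGroup M] [Module B M] {r : ℕ}
  (α : (Fin r → B) →ₗ[B] M)

/-- an extension of a finitely presented module by a free module of finite rank is finitely
presented -/
theorem finitePresentation_of_coker (hinj : Function.Injective α)
    [Module.FinitePresentation B (M ⧸ LinearMap.range α)] : Module.FinitePresentation B M := by
  haveI : Module.FinitePresentation B (LinearMap.range α) :=
    Module.FinitePresentation.of_equiv (LinearEquiv.ofInjective α hinj)
  haveI : Module.FinitePresentation B (LinearMap.ker (LinearMap.range α).mkQ) := by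
    rw [Submodule.ker_mkQ]
    infer_instance
  exact Module.finitePresentation_of_ker (LinearMap.range α).mkQ (Submodule.mkQ_surjective _)

end Ext

end Groth.Agent.H32.DevF
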