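import Groth.Agent.H32.FibSet

set_option autoImplicit false
open CategoryTheory CategoryTheory.Limits
universe v₄ u₄ v₃ u₃ v₂ u₂ v u

namespace Groth.Agent.H32

variable {C : Type u} [Category.{v} C] {𝒳 : BasedCategory.{v₂, u₂} C}
  {𝒴 : BasedCategory.{v₃, u₃} C} (G : 𝒳 ⥤ᵇ 𝒴)

@[simp] theorem diag_obj_fst (x : 𝒳.obj) : ((FibCat.diag G).obj x).obj.fst = x := rfl
@[simp] theorem diag_obj_snd (x : 𝒳.obj) : ((FibCat.diag G).obj x).obj.snd = x := rfl
@[simp] theorem diag_obj_iso_hom (x : 𝒳.obj) :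
    ((FibCat.diag G).obj x).obj.iso.hom = 𝟙 (G.obj x) := rfl
@[simp] theorem diag_map_fst {x y : 𝒳.obj} (φ : x ⟶ y) :
    ((FibCat.diag G).map φ).hom.fst = φ := rfl
@[simp] theorem diag_map_snd {x y : 𝒳.obj} (φ : x ⟶ y) :
    ((FibCat.diag G).map φ).hom.snd = φ := rfl

theorem faithful_of_diag_full [(FibCat.diag G).toFunctor.Full] : G.toFunctor.Faithful := by
  refine ⟨fun {x y} φ ψ h => ?_⟩
  have hw : G.map φ ≫ ((FibCat.diag G).obj y).obj.iso.hom =
      ((FibCat.diag G).obj x).obj.iso.hom ≫ G.map ψ := by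
    change G.map φ ≫ 𝟙 _ = 𝟙 _ ≫ G.map ψ
    rw [Category.comp_id, Category.id_comp]
    exact h
  let m : (FibCat.diag G).obj x ⟶ (FibCat.diag G).obj y := ObjectProperty.homMk ⟨φ, ψ, hw⟩
  obtain ⟨χ, hχ⟩ := (FibCat.diag G).toFunctor.map_surjective m
  have h1 : χ = φ := congrArg (fun t => t.hom.fst) hχ
  have h2 : χ = ψ := congrArg (fun t => t.hom.snd) hχ
  rw [← h1, h2]

theorem full_of_diag_essSurj (h𝒳 : FibCat.IsFibGrpd 𝒳.p) (h𝒴 : FibCat.IsFibGrpd 𝒴.p)
    [(FibCat.diag G).toFunctor.EssSurj] : G.toFunctor.Full := by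
  refine ⟨fun {x y} θ => ?_⟩
  have hx : 𝒴.p.obj (G.obj x) = 𝒳.p.obj x := G.w_obj x
  have hy : 𝒴.p.obj (G.obj y) = 𝒳.p.obj y := G.w_obj y
  let f : 𝒳.p.obj x ⟶ 𝒳.p.obj y := eqToHom hx.symm ≫ 𝒴.p.map θ ≫ eqToHom hy
  have hθ : 𝒴.p.IsHomLift f θ := IsHomLift.of_fac 𝒴.p f θ hx hy rfl
  obtain ⟨x', φ₀, hφ₀⟩ := h𝒳.exists_lift (x := y) f
  have h1 : 𝒴.p.IsHomLift f (G.map φ₀) := inferInstance
  have h2 : 𝒴.p.IsStronglyCartesian f (G.map φ₀) := isStronglyCartesian_of_fibGrpd 𝒴.p h𝒴 f _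
  obtain ⟨χ, ⟨hχ, hχ'⟩, -⟩ :=
    Functor.IsStronglyCartesian.universal_property 𝒴.p f (G.map φ₀) (𝟙 (𝒳.p.obj x)) f (by simp) θ
  have hχiso : IsIso χ := isIso_of_fibGrpd' 𝒴.p h𝒴 (𝟙 (𝒳.p.obj x)) χ
  let z : (FibCat.fp G G).obj := ⟨⟨x, x', asIso χ⟩, hχ⟩
  let w := (FibCat.diag G).toFunctor.objPreimage z
  let e : (FibCat.diag G).obj w ≅ z := (FibCat.diag G).toFunctor.objObjPreimageIso z
  -- e : diag w ≅ z
  have hw := e.hom.hom.w
  have hiso : IsIso e.hom.hom := by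
    have : IsIso ((FibCat.fpProp G G).ι.map e.hom) := inferInstance
    exact this
  have hisofst : IsIso e.hom.hom.fst := inferInstance
  let χ₀ : x ⟶ x' := inv e.hom.hom.fst ≫ e.hom.hom.snd
  have hχ₀ : G.map χ₀ = χ := by
    have hw' : G.map e.hom.hom.fst ≫ χ = G.map e.hom.hom.snd := by
      have := hw
      simp only [z] at this
      simpa using this
    simp only [χ₀, Functor.map_comp, Functor.map_inv]
    rw [IsIso.inv_comp_eq]
    exact hw'.symm
  refine ⟨χ₀ ≫ φ₀, ?_⟩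
  rw [Functor.map_comp]
  rw [hχ₀, hχ']

end Groth.Agent.H32

namespace Groth.Agent.H32

variable {C : Type u} [Category.{v} C] {𝒳 : BasedCategory.{v₂, u₂} C}
  {𝒴 : BasedCategory.{v₃, u₃} C} (G : 𝒳 ⥤ᵇ 𝒴)

/-- the component of the counit: `(x, x, 𝟙) ≅ (x, y, θ)` -/
noncomputable def diagCounitApp [G.toFunctor.Full] [G.toFunctor.Faithful]
    (z : (FibCat.fp G G).obj) : (FibCat.diag G).obj z.obj.fst ≅ z :=
  ObjectProperty.isoMk _ (CategoricalPullback.mkIso (Iso.refl z.obj.fst)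
    (G.toFunctor.preimageIso z.obj.iso) (by
      change G.map (𝟙 _) ≫ z.obj.iso.hom = 𝟙 _ ≫ G.map (G.toFunctor.preimageIso z.obj.iso).hom
      rw [G.map_id, Category.id_comp, Category.id_comp]
      simp))

theorem diagCounitApp_hom_fst [G.toFunctor.Full] [G.toFunctor.Faithful]
    (z : (FibCat.fp G G).obj) : (diagCounitApp G z).hom.hom.fst = 𝟙 z.obj.fst := rfl

theorem diagCounitApp_hom_snd [G.toFunctor.Full] [G.toFunctor.Faithful]
    (z : (FibCat.fp G G).obj) :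
    (diagCounitApp G z).hom.hom.snd = G.toFunctor.preimage z.obj.iso.hom := rfl

/-- the equivalence data for the diagonal of a fully faithful functor -/
noncomputable def diagEquivOverData [G.toFunctor.Full] [G.toFunctor.Faithful] :
    EquivOverData (FibCat.diag G) where
  inv := FibCat.fpFst G G
  unit := BasedNatIso.mkNatIso (NatIso.ofComponents (fun x => Iso.refl x)
    (fun {x y} φ => by
      change φ ≫ 𝟙 y = 𝟙 x ≫ φ
      rw [Category.comp_id, Category.id_comp]))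
    (fun a => by
      change 𝒳.p.IsHomLift (𝟙 (𝒳.p.obj a)) (𝟙 a)
      infer_instance)
  counit := BasedNatIso.mkNatIso (NatIso.ofComponents (fun z => diagCounitApp G z)
    (fun {z z'} m => by
      apply ObjectProperty.hom_ext
      apply CategoricalPullback.hom_ext
      · change m.hom.fst ≫ 𝟙 _ = 𝟙 _ ≫ m.hom.fst
        rw [Category.comp_id, Category.id_comp]
      · change m.hom.fst ≫ G.toFunctor.preimage z'.obj.iso.hom =
          G.toFunctor.preimage z.obj.iso.hom ≫ m.hom.snd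
        apply G.toFunctor.map_injective
        rw [Functor.map_comp, Functor.map_comp, Functor.map_preimage, Functor.map_preimage]
        exact m.hom.w))
    (fun z => by
      apply fp_isHomLift_of_fst G G _ _ (h := ?_)
      change 𝒳.p.IsHomLift (𝟙 (𝒳.p.obj z.obj.fst)) (𝟙 z.obj.fst)
      infer_instance)

theorem isEquivOver_diag_of_fullyFaithful [G.toFunctor.Full] [G.toFunctor.Faithful] :
    FibCat.IsEquivOver (FibCat.diag G) :=
  ⟨(diagEquivOverData G).inv, ⟨(diagEquivOverData G).unit⟩, ⟨(diagEquivOverData G).counit⟩⟩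

theorem fullyFaithful_iff_isEquivOver_diag (h𝒳 : FibCat.IsFibGrpd 𝒳.p)
    (h𝒴 : FibCat.IsFibGrpd 𝒴.p) :
    (G.toFunctor.Full ∧ G.toFunctor.Faithful) ↔ FibCat.IsEquivOver (FibCat.diag G) := by
  constructor
  · rintro ⟨h1, h2⟩
    exact isEquivOver_diag_of_fullyFaithful G
  · intro h
    have hE := IsEquivOver.isEquivalence h
    exact ⟨full_of_diag_essSurj G h𝒳 h𝒴, faithful_of_diag_full G⟩

end Groth.Agent.H32
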