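import Groth.Agent.H32.Dominate

set_option autoImplicit false
universe u
open TensorProduct

namespace Groth.Agent.H32

theorem injective_of_universallyInjective {R : Type u} [CommRing R] {A B : Type u}
    [AddCommGroup A] [Module R A] [AddCommGroup B] [Module R B] (ι : A →ₗ[R] B)
    (h : CAlgX.UniversallyInjective R ι) : Function.Injective ι := by
  intro a b hab
  have h1 : ι.rTensor R (a ⊗ₜ[R] (1 : R)) = ι.rTensor R (b ⊗ₜ[R] (1 : R)) := by
    simp [hab]
  have h2 := h R h1
  have h3 := congrArg (TensorProduct.rid R A) h2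
  simpa using h3

/-- If the cokernel of `f` is finitely presented and `g` dominates `f`, then `g` factors through
`f`. -/
theorem exists_factor_of_dominates {R : Type u} [CommRing R] {M N M' : Type u}
    [AddCommGroup M] [Module R M] [AddCommGroup N] [Module R N] [AddCommGroup M'] [Module R M']
    (f : M →ₗ[R] N) (g : M →ₗ[R] M') [Module.FinitePresentation R (N ⧸ LinearMap.range f)]
    (hdom : ∀ (Q : Type u) [AddCommGroup Q] [Module R Q],
      LinearMap.ker (f.rTensor Q) ≤ LinearMap.ker (g.rTensor Q)) :
    ∃ h : N →ₗ[R] M', g = h ∘ₗ f := by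
  have hι : CAlgX.UniversallyInjective R (pushoutInl f g) :=
    (dominates_iff_pushoutInl_injective f g).1 hdom
  have hιinj := injective_of_universallyInjective _ hι
  -- the projection to the cokernel of f
  let π' : Pushout f g →ₗ[R] (N ⧸ LinearMap.range f) :=
    (LinearMap.range (g.prod (-f))).liftQ ((LinearMap.range f).mkQ ∘ₗ LinearMap.snd R M' N) (by
      rintro _ ⟨x, rfl⟩
      rw [LinearMap.mem_ker, LinearMap.comp_apply, LinearMap.snd_apply, Submodule.mkQ_apply,
        Submodule.Quotient.mk_eq_zero]
      exact ⟨-x, by simp⟩)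
  have hπ'mk : ∀ (a : M') (n : N), π' (Submodule.Quotient.mk (a, n)) = Submodule.Quotient.mk n := by
    intro a n
    rfl
  have hexact : Function.Exact (pushoutInl f g) π' := by
    intro z
    constructor
    · intro hz
      obtain ⟨⟨a, n⟩, rfl⟩ := Submodule.Quotient.mk_surjective _ z
      rw [hπ'mk, Submodule.Quotient.mk_eq_zero] at hz
      obtain ⟨x, rfl⟩ := hz
      refine ⟨a + g x, ?_⟩
      simp only [LinearMap.comp_apply, Submodule.mkQ_apply, LinearMap.inl_apply]
      rw [Submodule.Quotient.eq]
      refine ⟨x, ?_⟩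
      simp
    · rintro ⟨a, rfl⟩
      simp only [LinearMap.comp_apply, Submodule.mkQ_apply, LinearMap.inl_apply]
      rw [hπ'mk]
      simp
  have hsurj : Function.Surjective π' := by
    intro y
    obtain ⟨n, rfl⟩ := Submodule.Quotient.mk_surjective _ y
    exact ⟨Submodule.Quotient.mk (0, n), hπ'mk 0 n⟩
  obtain ⟨s, hs⟩ := exists_lift_of_universallyInjective
    (pushoutInl f g) π' hexact hsurj hι LinearMap.id
  obtain ⟨-, r, hr⟩ := ((hexact.split_tfae').out 0 1 rfl rfl).1 ⟨hιinj, s, hs⟩
  refine ⟨r ∘ₗ pushoutInr f g, ?_⟩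
  rw [LinearMap.comp_assoc, ← pushout_comm, ← LinearMap.comp_assoc, hr, LinearMap.id_comp]

/-- the cokernel of a map from a finite module to a finitely presented module is finitely
presented -/
theorem finitePresentation_coker {R : Type u} [CommRing R] {M N : Type u}
    [AddCommGroup M] [Module R M] [AddCommGroup N] [Module R N] [Module.Finite R M]
    [Module.FinitePresentation R N] (f : M →ₗ[R] N) :
    Module.FinitePresentation R (N ⧸ LinearMap.range f) :=
  Module.finitePresentation_of_surjective (LinearMap.range f).mkQ (Submodule.mkQ_surjective _)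
    (by rw [Submodule.ker_mkQ]; exact Submodule.fg_range f)

end Groth.Agent.H32
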