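import Groth.Agent.H32.PureLift

set_option autoImplicit false
universe u
open TensorProduct

namespace Groth.Agent.H32

section
variable {R : Type*} [CommRing R] {M N M' : Type*}
  [AddCommGroup M] [Module R M] [AddCommGroup N] [Module R N] [AddCommGroup M'] [Module R M']
  (f : M →ₗ[R] N) (g : M →ₗ[R] M')

/-- the pushout of `f` and `g` -/
abbrev Pushout : Type _ := (M' × N) ⧸ LinearMap.range (g.prod (-f))

/-- the canonical map `M' → pushout` -/
abbrev pushoutInl : M' →ₗ[R] Pushout f g :=
  (LinearMap.range (g.prod (-f))).mkQ ∘ₗ LinearMap.inl R M' N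

/-- the canonical map `N → pushout` -/
abbrev pushoutInr : N →ₗ[R] Pushout f g :=
  (LinearMap.range (g.prod (-f))).mkQ ∘ₗ LinearMap.inr R M' N

theorem pushout_comm : pushoutInl f g ∘ₗ g = pushoutInr f g ∘ₗ f := by
  ext x
  simp only [LinearMap.comp_apply, Submodule.mkQ_apply, LinearMap.inl_apply, LinearMap.inr_apply]
  rw [Submodule.Quotient.eq]
  refine ⟨x, ?_⟩
  simp

theorem prod_decomp (Q : Type*) [AddCommGroup Q] [Module R Q] (z : (M' × N) ⊗[R] Q) :
    z = (LinearMap.inl R M' N).rTensor Q ((LinearMap.fst R M' N).rTensor Q z) +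
      (LinearMap.inr R M' N).rTensor Q ((LinearMap.snd R M' N).rTensor Q z) := by
  rw [← LinearMap.comp_apply, ← LinearMap.comp_apply, ← LinearMap.rTensor_comp,
    ← LinearMap.rTensor_comp, ← LinearMap.add_apply, ← LinearMap.rTensor_add]
  have : LinearMap.inl R M' N ∘ₗ LinearMap.fst R M' N + LinearMap.inr R M' N ∘ₗ LinearMap.snd R M' N
      = LinearMap.id := by
    ext <;> simp
  rw [this, LinearMap.rTensor_id, LinearMap.id_apply]

theorem pushoutInl_rTensor_eq_zero_iff (Q : Type*) [AddCommGroup Q] [Module R Q] (y : M' ⊗[R] Q) :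
    (pushoutInl f g).rTensor Q y = 0 ↔
      ∃ x : M ⊗[R] Q, g.rTensor Q x = y ∧ f.rTensor Q x = 0 := by
  have hex : Function.Exact (g.prod (-f)) (LinearMap.range (g.prod (-f))).mkQ :=
    LinearMap.exact_map_mkQ_range _
  have hexQ := rTensor_exact Q hex (Submodule.mkQ_surjective _)
  have hfst : LinearMap.fst R M' N ∘ₗ g.prod (-f) = g := by ext; simp
  have hsnd : LinearMap.snd R M' N ∘ₗ g.prod (-f) = -f := by ext; simp
  constructor
  · intro h
    rw [LinearMap.rTensor_comp, LinearMap.comp_apply] at h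
    obtain ⟨x, hx⟩ := (hexQ _).1 h
    refine ⟨x, ?_, ?_⟩
    · have := congrArg ((LinearMap.fst R M' N).rTensor Q) hx
      rw [← LinearMap.comp_apply, ← LinearMap.rTensor_comp, hfst, ← LinearMap.comp_apply,
        ← LinearMap.rTensor_comp] at this
      rw [this]
      have : LinearMap.fst R M' N ∘ₗ LinearMap.inl R M' N = LinearMap.id := by ext; simp
      rw [this, LinearMap.rTensor_id, LinearMap.id_apply]
    · have := congrArg ((LinearMap.snd R M' N).rTensor Q) hx
      rw [← LinearMap.comp_apply, ← LinearMap.rTensor_comp, hsnd, ← LinearMap.comp_apply,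
        ← LinearMap.rTensor_comp] at this
      have h0 : LinearMap.snd R M' N ∘ₗ LinearMap.inl R M' N = 0 := by ext; simp
      rw [h0, LinearMap.rTensor_zero, LinearMap.zero_apply, LinearMap.rTensor_neg,
        LinearMap.neg_apply, neg_eq_zero] at this
      exact this
  · rintro ⟨x, hx1, hx2⟩
    rw [LinearMap.rTensor_comp, LinearMap.comp_apply]
    apply (hexQ _).2
    refine ⟨x, ?_⟩
    rw [prod_decomp Q ((g.prod (-f)).rTensor Q x)]
    rw [← LinearMap.comp_apply (LinearMap.rTensor Q (LinearMap.fst R M' N)),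
      ← LinearMap.rTensor_comp, hfst, ← LinearMap.comp_apply (LinearMap.rTensor Q (LinearMap.snd R M' N)),
      ← LinearMap.rTensor_comp, hsnd, hx1, LinearMap.rTensor_neg, LinearMap.neg_apply, hx2, neg_zero,
      map_zero, add_zero]

theorem dominates_iff_pushoutInl_injective :
    (∀ (Q : Type u) [AddCommGroup Q] [Module R Q],
        LinearMap.ker (f.rTensor Q) ≤ LinearMap.ker (g.rTensor Q)) ↔
      ∀ (Q : Type u) [AddCommGroup Q] [Module R Q],
        Function.Injective ((pushoutInl f g).rTensor Q) := by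
  constructor
  · intro h Q _ _
    rw [injective_iff_map_eq_zero]
    intro y hy
    obtain ⟨x, hx1, hx2⟩ := (pushoutInl_rTensor_eq_zero_iff f g Q y).1 hy
    rw [← hx1]
    exact h Q hx2
  · intro h Q _ _ x hx
    rw [LinearMap.mem_ker] at hx ⊢
    apply h Q
    rw [map_zero]
    exact (pushoutInl_rTensor_eq_zero_iff f g Q _).2 ⟨x, rfl, hx⟩

end

end Groth.Agent.H32
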