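import Groth.Agent.H32.FlatAtDescent
import Groth.Agent.H32.DevD
import Groth.Agent.H71.FlatOver.Alg
import Groth.Agent.H1.FlatLocusLoc

/-!
# Flatness over the base of localizations of a module: comparison lemmas
-/

set_option autoImplicit false
set_option linter.style.haveILetI false
universe u

open TensorProduct

namespace Groth.Agent.H32.ElemDevA

section BC

variable {R S T : Type u} [CommRing R] [CommRing S] [CommRing T] [Algebra R S] [Algebra S T]
  [Algebra R T] [IsScalarTower R S T]
  {M N : Type u} [AddCommGroup M] [Module S M] [Module R M] [IsScalarTower R S M]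
  [AddCommGroup N] [Module T N] [Module S N] [IsScalarTower S T N] [Module R N]
  [IsScalarTower R T N]

/-- If `Q` lies over `q`, `T_Q` is flat over `S`, and `M_q` is flat over `R`, then the localization
at `Q` of the base change `N = T ⊗_S M` is flat over `R`. -/
theorem flat_localizedModule_baseChange (f : M →ₗ[S] N) (hf : IsBaseChange T f)
    (q : Ideal S) [q.IsPrime] (Q : Ideal T) [Q.IsPrime] [Q.LiesOver q]
    [Module.Flat S (Localization.AtPrime Q)]
    (h : Module.Flat R (LocalizedModule q.primeCompl M)) :
    Module.Flat R (LocalizedModule Q.primeCompl N) := by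
  letI : Algebra (Localization.AtPrime q) (Localization.AtPrime Q) :=
    Localization.AtPrime.algebraOfLiesOver q Q
  haveI : IsScalarTower S (Localization.AtPrime q) (Localization.AtPrime Q) := inferInstance
  haveI : IsScalarTower R (Localization.AtPrime q) (Localization.AtPrime Q) := inferInstance
  haveI : IsScalarTower S (Localization.AtPrime Q) (LocalizedModule Q.primeCompl N) :=
    ⟨fun s x m => by
      rw [← algebraMap_smul T s x, ← algebraMap_smul T s (x • m), smul_assoc]⟩
  haveI : IsScalarTower R (Localization.AtPrime Q) (LocalizedModule Q.primeCompl N) :=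
    ⟨fun s x m => by
      rw [← algebraMap_smul T s x, ← algebraMap_smul T s (x • m), smul_assoc]⟩
  haveI : Module.Flat (Localization.AtPrime q) (Localization.AtPrime Q) :=
    (Module.flat_iff_of_isLocalization (Localization.AtPrime q) q.primeCompl
      (Localization.AtPrime Q)).mpr inferInstance
  let gN := LocalizedModule.mkLinearMap q.primeCompl M
  let gQ : T ⊗[S] M →ₗ[T] LocalizedModule Q.primeCompl N :=
    (LocalizedModule.mkLinearMap Q.primeCompl N) ∘ₗ hf.equiv.toLinearMap
  haveI : IsLocalizedModule Q.primeCompl gQ := IsLocalizedModule.of_linearEquiv_right _ _ hf.equiv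
  let e := Groth.Agent.H71.FlatOver.stalkBaseChangeEquiv (A := S) (B := T)
    (Aq := Localization.AtPrime q) (Bp := Localization.AtPrime Q) q.primeCompl Q.primeCompl gN gQ
  haveI := h
  exact Groth.Agent.H71.FlatOver.flat_of_equiv_baseChange (R := R) e

theorem flat_localizedModule_baseChange_iff (f : M →ₗ[S] N) (hf : IsBaseChange T f)
    (q : Ideal S) [q.IsPrime] (Q : Ideal T) [Q.IsPrime] [Q.LiesOver q]
    [Module.Flat S (Localization.AtPrime Q)] :
    Module.Flat R (LocalizedModule q.primeCompl M) ↔
      Module.Flat R (LocalizedModule Q.primeCompl N) :=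
  ⟨flat_localizedModule_baseChange f hf q Q,
    Groth.Agent.H32.FlatAtDescent.flat_localizedModule_of_baseChange f hf q Q⟩

end BC

section PW

variable {R B A : Type u} [CommRing R] [CommRing B] [CommRing A] [Algebra R B] [Algebra B A]
  [Algebra R A] [IsScalarTower R B A]
  (M : Type u) [AddCommGroup M] [Module A M] [Module B M] [Module R M] [IsScalarTower B A M]
  [IsScalarTower R B M] [IsScalarTower R A M]

/-- localizing at an element of `B` or at its image in `A` gives the same `R`-module -/
theorem flat_powers_iff_algebraMap (g : B) :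
    Module.Flat R (LocalizedModule (Submonoid.powers g) M) ↔
      Module.Flat R (LocalizedModule (Submonoid.powers (algebraMap B A g)) M) := by
  let f : M →ₗ[A] LocalizedModule (Submonoid.powers (algebraMap B A g)) M :=
    LocalizedModule.mkLinearMap _ M
  haveI h1 : IsLocalizedModule (Submonoid.powers g) (f.restrictScalars B) :=
    IsLocalizedModule.restrictScalars_powers g f
  let e1 : LocalizedModule (Submonoid.powers g) M ≃ₗ[B]
      LocalizedModule (Submonoid.powers (algebraMap B A g)) M :=
    IsLocalizedModule.iso (Submonoid.powers g) (f.restrictScalars B)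
  let e1' : LocalizedModule (Submonoid.powers g) M ≃ₗ[R]
      LocalizedModule (Submonoid.powers (algebraMap B A g)) M := e1.restrictScalars R
  exact ⟨fun h => Module.Flat.of_linearEquiv e1'.symm, fun h => Module.Flat.of_linearEquiv e1'⟩

end PW

section Single

variable {R B : Type u} [CommRing R] [CommRing B] [Algebra R B]
  (M : Type u) [AddCommGroup M] [Module B M] [Module R M] [IsScalarTower R B M]

/-- the saturation of a submonoid -/
def sat (T : Submonoid B) : Submonoid B where
  carrier := {x | ∃ y, y * x ∈ T}
  one_mem' := ⟨1, by simp⟩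
  mul_mem' := by
    rintro a b ⟨y, hy⟩ ⟨y', hy'⟩
    refine ⟨y * y', ?_⟩
    have : y * y' * (a * b) = (y * a) * (y' * b) := by ring
    rw [this]
    exact T.mul_mem hy hy'

theorem le_sat (T : Submonoid B) : T ≤ sat T := fun x hx => ⟨1, by simpa using hx⟩

theorem flat_sat_iff (T : Submonoid B) :
    Module.Flat R (LocalizedModule T M) ↔ Module.Flat R (LocalizedModule (sat T) M) := by
  haveI : IsLocalizedModule (sat T) (LocalizedModule.mkLinearMap T M) :=
    IsLocalizedModule.of_exists_mul_mem T (sat T) (le_sat T) (fun x => x.2) _
  let e : LocalizedModule (sat T) M ≃ₗ[B] LocalizedModule T M :=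
    IsLocalizedModule.iso (sat T) (LocalizedModule.mkLinearMap T M)
  let e' : LocalizedModule (sat T) M ≃ₗ[R] LocalizedModule T M := e.restrictScalars R
  exact ⟨fun h => Module.Flat.of_linearEquiv e', fun h => Module.Flat.of_linearEquiv e'.symm⟩

/-- if `g` divides `h` then flatness of `M_g` implies flatness of `M_h` -/
theorem flat_powers_of_dvd (g m : B)
    (h : Module.Flat R (LocalizedModule (Submonoid.powers g) M)) :
    Module.Flat R (LocalizedModule (Submonoid.powers (m * g)) M) := by
  rw [flat_sat_iff]
  have hle : Submonoid.powers g ≤ sat (Submonoid.powers (m * g)) := by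
    rintro _ ⟨n, rfl⟩
    exact ⟨m ^ n, ⟨n, by simp [mul_pow]⟩⟩
  haveI := h
  exact Groth.Agent.H1.FlatLocus.flat_localizedModule_of_le (R := R) hle

/-- flatness of `M_g` implies flatness at every prime not containing `g` -/
theorem flat_atPrime_of_flat_powers (g : B) (Q : Ideal B) [Q.IsPrime] (hg : g ∉ Q)
    (h : Module.Flat R (LocalizedModule (Submonoid.powers g) M)) :
    Module.Flat R (LocalizedModule Q.primeCompl M) := by
  have hle : Submonoid.powers g ≤ Q.primeCompl := by
    rintro _ ⟨n, rfl⟩
    exact fun hn => hg (Ideal.IsPrime.mem_of_pow_mem inferInstance n hn)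
  haveI := h
  exact Groth.Agent.H1.FlatLocus.flat_localizedModule_of_le (R := R) hle

end Single

end Groth.Agent.H32.ElemDevA
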