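import Groth.Agent.H32.ElemDevA

/-!
# Flatness over the base of `N_g` can be checked at the primes not containing `g`
-/

set_option autoImplicit false
set_option linter.style.haveILetI false
universe u

namespace Groth.Agent.H32.ElemDevB

variable {R S : Type u} [CommRing R] [CommRing S] [Algebra R S]
  (N : Type u) [AddCommGroup N] [Module S N] [Module R N] [IsScalarTower R S N]

theorem flat_powers_of_forall_prime (g : S)
    (h : ∀ (Q : Ideal S) [Q.IsPrime], g ∉ Q → Module.Flat R (LocalizedModule Q.primeCompl N)) :
    Module.Flat R (LocalizedModule (Submonoid.powers g) N) := by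
  apply Groth.Agent.H71.FlatOver.flat_of_localized_maximal (R := R) (B := Localization.Away g)
  intro P hP
  let Q : Ideal S := P.comap (algebraMap S (Localization.Away g))
  haveI : Q.IsPrime := Ideal.comap_isPrime _ _
  have hgQ : g ∉ Q := fun hg =>
    hP.ne_top (Ideal.eq_top_of_isUnit_mem _ hg (IsLocalization.Away.algebraMap_isUnit g))
  have hQ := h Q hgQ
  have hle : Submonoid.powers g ≤ Q.primeCompl := by
    rintro _ ⟨n, rfl⟩
    exact fun hn => hgQ (Ideal.IsPrime.mem_of_pow_mem inferInstance n hn)
  let ℓ := IsLocalizedModule.liftOfLE (Submonoid.powers g) Q.primeCompl hle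
    (LocalizedModule.mkLinearMap (Submonoid.powers g) N)
    (LocalizedModule.mkLinearMap Q.primeCompl N)
  let e : LocalizedModule Q.primeCompl (LocalizedModule (Submonoid.powers g) N) ≃ₗ[S]
      LocalizedModule Q.primeCompl N := IsLocalizedModule.iso Q.primeCompl ℓ
  have hA : Module.Flat R
      (LocalizedModule Q.primeCompl (LocalizedModule (Submonoid.powers g) N)) :=
    Module.Flat.of_linearEquiv (e.restrictScalars R)
  refine (Groth.Agent.H32.DevC.flat_localizedModule_iff (R := R) (B := S)
    (A := Localization.Away g) (LocalizedModule (Submonoid.powers g) N) Q P ?_ ?_).mp hA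
  · intro b hb hbP
    exact hb hbP
  · intro x hx
    obtain ⟨s, t, rfl⟩ := IsLocalization.exists_mk'_eq (Submonoid.powers g) x
    refine ⟨algebraMap S (Localization.Away g) t, s, ?_, IsLocalization.mk'_spec' _ s t⟩
    intro hs
    exact hx (IsLocalization.mk'_mem_iff.mpr hs)

end Groth.Agent.H32.ElemDevB
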