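import Groth.Agent.H32.ElemDevB
import Groth.Agent.H32.DevE

/-!
# Elements outside the unique prime over a prime of an integral extension
-/

set_option autoImplicit false
set_option linter.style.haveILetI false
universe u

namespace Groth.Agent.H32.ElemDevC

variable {B A : Type u} [CommRing B] [CommRing A] [Algebra B A] [Algebra.IsIntegral B A]
  (qB : Ideal B) [qB.IsPrime] (qA : Ideal A) [qA.IsPrime]

/-- if `qA` is the only prime over `qB`, every element outside `qA` divides the image of an
element outside `qB` -/
theorem exists_mul_eq_algebraMap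
    (huniq : ∀ (Q : Ideal A) [Q.IsPrime], Q.comap (algebraMap B A) = qB → Q = qA)
    (x : A) (hx : x ∉ qA) : ∃ m : A, ∃ b : B, b ∉ qB ∧ m * x = algebraMap B A b := by
  by_contra hcon
  push_neg at hcon
  have hI : (Ideal.span {x}).comap (algebraMap B A) ≤ qB := by
    intro b hb
    rw [Ideal.mem_comap, Ideal.mem_span_singleton'] at hb
    obtain ⟨m, hm⟩ := hb
    by_contra hbq
    exact hcon m b hbq hm
  obtain ⟨Q, hQI, hQp, hQc⟩ := Ideal.exists_ideal_over_prime_of_isIntegral qB (Ideal.span {x}) hI
  have := huniq Q hQc
  apply hx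
  rw [← this]
  exact hQI (Ideal.subset_span rfl)

end Groth.Agent.H32.ElemDevC
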