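import Mathlib
import Groth.Agent.H2.UnivInj

/-!
# Finite presentation of localized modules: base change and faithfully flat descent
-/

set_option autoImplicit false
set_option linter.style.haveILetI false
universe u

open TensorProduct

namespace Groth.Agent.H32.ElemFPA

section Desc

variable {A A' : Type u} [CommRing A] [CommRing A'] [Algebra A A'] [Module.FaithfullyFlat A A']

theorem univInjective_of_faithfullyFlat : Pi1.UnivInjective A A' := by
  intro P _ _
  have h1 := Module.FaithfullyFlat.tensorProduct_mk_injective (A := A) (B := A') P
  have h2 : (LinearMap.lTensor P (Algebra.linearMap A A')) =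
      (TensorProduct.comm A A' P).toLinearMap ∘ₗ (TensorProduct.mk A A' P 1) ∘ₗ
        (TensorProduct.rid A P).toLinearMap := by
    ext x
    simp
  rw [h2]
  exact (TensorProduct.comm A A' P).injective.comp (h1.comp (TensorProduct.rid A P).injective)

/-- faithfully flat descent of finite presentation of modules -/
theorem finitePresentation_of_isBaseChange {M M' : Type u} [AddCommGroup M] [Module A M]
    [AddCommGroup M'] [Module A' M'] [Module A M'] [IsScalarTower A A' M']
    (f : M →ₗ[A] M') (hf : IsBaseChange A' f) [Module.FinitePresentation A' M'] :
    Module.FinitePresentation A M := by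
  haveI : Module.FinitePresentation A' (A' ⊗[A] M) :=
    Module.FinitePresentation.of_equiv hf.equiv.symm
  exact Groth.Agent.H2.UnivInjective.finitePresentation_of_finitePresentation_tensor
    (univInjective_of_faithfullyFlat (A := A) (A' := A')) M

end Desc

section BC

variable {A A' : Type u} [CommRing A] [CommRing A'] [Algebra A A']
  (T : Submonoid A) (T' : Submonoid A')
  [Algebra (Localization T) (Localization T')]
  [IsScalarTower A (Localization T) (Localization T')]
  {M M' : Type u} [AddCommGroup M] [Module A M] [AddCommGroup M'] [Module A' M'] [Module A M']
  [IsScalarTower A A' M']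

/-- module structure over the smaller localization -/
@[reducible] def modLoc : Module (Localization T) (LocalizedModule T' M') :=
  Module.compHom (LocalizedModule T' M') (algebraMap (Localization T) (Localization T'))

attribute [local instance 50] modLoc

instance isScalarTower_modLoc :
    IsScalarTower (Localization T) (Localization T') (LocalizedModule T' M') :=
  ⟨fun r s n => by
    change (r • s) • n = (algebraMap (Localization T) (Localization T') r) • (s • n)
    rw [Algebra.smul_def, mul_smul]⟩

instance isScalarTower_modLoc' :
    IsScalarTower A (Localization T) (LocalizedModule T' M') :=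
  ⟨fun a r n => by
    change (algebraMap (Localization T) (Localization T') (a • r)) • n =
      a • ((algebraMap (Localization T) (Localization T') r) • n)
    rw [← smul_assoc]
    congr 1
    rw [Algebra.smul_def, map_mul, ← IsScalarTower.algebraMap_apply A (Localization T)
      (Localization T'), Algebra.smul_def]⟩

theorem isUnit_end (t : T) :
    IsUnit (algebraMap A (Module.End A (LocalizedModule T' M')) t) := by
  have hu : IsUnit (algebraMap A (Localization T) (t : A)) := IsLocalization.map_units _ t
  obtain ⟨u, hu'⟩ := hu
  rw [Module.End.isUnit_iff]
  have heq : ∀ y : LocalizedModule T' M',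
      algebraMap A (Module.End A (LocalizedModule T' M')) t y = (u : Localization T) • y := by
    intro y
    rw [Module.algebraMap_end_apply, hu', algebraMap_smul]
  constructor
  · intro a b hab
    rw [heq, heq] at hab
    have := congrArg (fun z => (↑u⁻¹ : Localization T) • z) hab
    simpa [smul_smul] using this
  · intro y
    refine ⟨(↑u⁻¹ : Localization T) • y, ?_⟩
    rw [heq, smul_smul, Units.mul_inv, one_smul]

/-- the map between localized modules induced by `φ` -/
noncomputable def psi (φ : M →ₗ[A] M') :
    LocalizedModule T M →ₗ[Localization T] LocalizedModule T' M' :=
  LinearMap.extendScalarsOfIsLocalization T (Localization T)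
    (IsLocalizedModule.lift T (LocalizedModule.mkLinearMap T M)
      ((LocalizedModule.mkLinearMap T' M').restrictScalars A ∘ₗ φ) (isUnit_end T T'))

theorem psi_comp (φ : M →ₗ[A] M') :
    (psi T T' φ).restrictScalars A ∘ₗ LocalizedModule.mkLinearMap T M =
      (LocalizedModule.mkLinearMap T' M').restrictScalars A ∘ₗ φ :=
  IsLocalizedModule.lift_comp T (LocalizedModule.mkLinearMap T M) _ (isUnit_end T T')

theorem isBaseChange_psi (φ : M →ₗ[A] M') (hφ : IsBaseChange A' φ) :
    IsBaseChange (Localization T') (psi T T' φ) := by
  have h1 : IsBaseChange (Localization T) (LocalizedModule.mkLinearMap T M) :=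
    IsLocalizedModule.isBaseChange T (Localization T) _
  have h2 : IsBaseChange (Localization T') (LocalizedModule.mkLinearMap T' M') :=
    IsLocalizedModule.isBaseChange T' (Localization T') _
  have h3 := IsBaseChange.comp hφ h2
  apply IsBaseChange.of_comp h1
  rw [psi_comp]
  exact h3

/-- finite presentation passes to the base change between localizations -/
theorem finitePresentation_of_isBaseChange_loc (φ : M →ₗ[A] M') (hφ : IsBaseChange A' φ)
    (h : Module.FinitePresentation (Localization T) (LocalizedModule T M)) :
    Module.FinitePresentation (Localization T') (LocalizedModule T' M') :=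
  FinitePresentation.of_isBaseChange (psi T T' φ) (isBaseChange_psi T T' φ hφ)

/-- descent of finite presentation along a faithfully flat map between localizations -/
theorem finitePresentation_of_isBaseChange_loc_desc (φ : M →ₗ[A] M') (hφ : IsBaseChange A' φ)
    [Module.FaithfullyFlat (Localization T) (Localization T')]
    (h : Module.FinitePresentation (Localization T') (LocalizedModule T' M')) :
    Module.FinitePresentation (Localization T) (LocalizedModule T M) := by
  haveI := h
  exact finitePresentation_of_isBaseChange (A := Localization T) (A' := Localization T')
    (psi T T' φ) (isBaseChange_psi T T' φ hφ)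

end BC

end Groth.Agent.H32.ElemFPA
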