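import Groth.Agent.H32.ElemFPA
import Groth.Agent.H71.QCoh.PushFP

/-!
# Finite presentation of localized modules along a finite ring map
-/

set_option autoImplicit false
set_option linter.style.haveILetI false
universe u

open TensorProduct

namespace Groth.Agent.H32.ElemFPB

section Sat

variable {A : Type u} [CommRing A] (T₁ T₂ : Submonoid A) {M M' : Type u} [AddCommGroup M]
  [Module A M] [AddCommGroup M'] [Module A M']

/-- a localization at `T₂` is a localization at a smaller submonoid with the same saturation -/
theorem isLocalizedModule_of_le_of_dvd (h : T₁ ≤ T₂) (h' : ∀ x : T₂, ∃ m : A, m * x ∈ T₁)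
    (f : M →ₗ[A] M') [IsLocalizedModule T₂ f] : IsLocalizedModule T₁ f where
  map_units x := IsLocalizedModule.map_units f (⟨x.1, h x.2⟩ : T₂)
  surj y := by
    obtain ⟨⟨m, x⟩, hx⟩ := IsLocalizedModule.surj T₂ f y
    obtain ⟨c, hc⟩ := h' x
    refine ⟨⟨c • m, ⟨c * x, hc⟩⟩, ?_⟩
    have hx' : (x : A) • y = f m := hx
    change (c * (x : A)) • y = f (c • m)
    rw [mul_smul, hx', map_smul]
  exists_of_eq {x₁ x₂} e := by
    obtain ⟨x, hx⟩ := IsLocalizedModule.exists_of_eq (S := T₂) e
    obtain ⟨c, hc⟩ := h' x
    refine ⟨⟨c * x, hc⟩, ?_⟩
    have hx' : (x : A) • x₁ = (x : A) • x₂ := hx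
    change (c * (x : A)) • x₁ = (c * (x : A)) • x₂
    rw [mul_smul, mul_smul, hx']

end Sat

section Main

variable {B A : Type u} [CommRing B] [CommRing A] [Algebra B A]
  (T : Submonoid B) (T' : Submonoid A)
  (M : Type u) [AddCommGroup M] [Module A M] [Module B M] [IsScalarTower B A M]

attribute [local instance 50] Groth.Agent.H32.ElemFPA.modLoc

/-- Let `B → A` be a ring map making `A` a finitely presented `B`-module, and let `T ⊆ B`,
`T' ⊆ A` be submonoids such that `T` maps into `T'` and every element of `T'` divides the image
of an element of `T`.  Then `M_T` is finitely presented over `B_T` iff `M_{T'}` is finitely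
presented over `A_{T'}`. -/
theorem finitePresentation_localizedModule_iff [Module.Finite B A]
    [Module.FinitePresentation B A]
    (hle : ∀ b ∈ T, algebraMap B A b ∈ T')
    (hdiv : ∀ x ∈ T', ∃ m : A, ∃ b ∈ T, m * x = algebraMap B A b) :
    Module.FinitePresentation (Localization T) (LocalizedModule T M) ↔
      Module.FinitePresentation (Localization T') (LocalizedModule T' M) := by
  have hunits : ∀ t : T, IsUnit (algebraMap B (Localization T') (t : B)) := by
    intro t
    rw [IsScalarTower.algebraMap_apply B A (Localization T')]
    exact IsLocalization.map_units (Localization T') (⟨algebraMap B A t, hle t t.2⟩ : T')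
  letI : Algebra (Localization T) (Localization T') :=
    (IsLocalization.lift (M := T) (g := algebraMap B (Localization T')) hunits).toAlgebra
  haveI : IsScalarTower B (Localization T) (Localization T') :=
    IsScalarTower.of_algebraMap_eq fun b => (IsLocalization.lift_eq hunits b).symm
  -- `T'` has the same saturation as the image of `T`
  have hT₁ : Algebra.algebraMapSubmonoid A T ≤ T' := by
    rintro _ ⟨b, hb, rfl⟩
    exact hle b hb
  have hT₂ : ∀ x : T', ∃ m : A, m * x ∈ Algebra.algebraMapSubmonoid A T := by
    intro x
    obtain ⟨m, b, hb, hmx⟩ := hdiv x.1 x.2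
    exact ⟨m, b, hb, hmx.symm⟩
  -- `M_{T'}` is the localization of the `B`-module `M` at `T`
  haveI h1 : IsLocalizedModule (Algebra.algebraMapSubmonoid A T)
      (LocalizedModule.mkLinearMap T' M) :=
    isLocalizedModule_of_le_of_dvd _ T' hT₁ hT₂ _
  haveI h2 : IsLocalizedModule T ((LocalizedModule.mkLinearMap T' M).restrictScalars B) :=
    IsLocalizedModule.restrictScalars T _
  let e₀ : LocalizedModule T M ≃ₗ[B] LocalizedModule T' M :=
    IsLocalizedModule.iso T ((LocalizedModule.mkLinearMap T' M).restrictScalars B)
  let e : LocalizedModule T M ≃ₗ[Localization T] LocalizedModule T' M :=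
    LinearEquiv.extendScalarsOfIsLocalization T (Localization T) e₀
  -- `A_{T'}` is the localization of the `B`-module `A` at `T`
  haveI h3 : IsLocalizedModule T' (Algebra.linearMap A (Localization T')) :=
    (isLocalizedModule_iff_isLocalization' T' (Localization T')).mpr inferInstance
  haveI h4 : IsLocalizedModule (Algebra.algebraMapSubmonoid A T)
      (Algebra.linearMap A (Localization T')) :=
    isLocalizedModule_of_le_of_dvd _ T' hT₁ hT₂ _
  haveI h5 : IsLocalizedModule T ((Algebra.linearMap A (Localization T')).restrictScalars B) :=
    IsLocalizedModule.restrictScalars T _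
  haveI hfin : Module.Finite (Localization T) (Localization T') :=
    Module.Finite.of_isLocalizedModule T
      ((Algebra.linearMap A (Localization T')).restrictScalars B)
  haveI hfp : Module.FinitePresentation (Localization T) (Localization T') :=
    FinitePresentation.of_isBaseChange
      ((Algebra.linearMap A (Localization T')).restrictScalars B)
      (IsLocalizedModule.isBaseChange T (Localization T) _)
  constructor
  · intro h
    haveI : Module.FinitePresentation (Localization T) (LocalizedModule T' M) :=
      Module.FinitePresentation.of_equiv e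
    exact Groth.Agent.H71.QCoh.finitePresentation_of_restrictScalars (Localization T)
      (Localization T') (LocalizedModule T' M)
  · intro h
    haveI : Module.FinitePresentation (Localization T) (LocalizedModule T' M) :=
      Module.FinitePresentation.trans (Localization T) (LocalizedModule T' M) (Localization T')
    exact Module.FinitePresentation.of_equiv e.symm

end Main

end Groth.Agent.H32.ElemFPB
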