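import Groth.Agent.H32.ElemFPB

/-!
# Finite presentation of localized modules: base change along a flat ring map
-/

set_option autoImplicit false
set_option linter.style.haveILetI false
universe u

open TensorProduct

namespace Groth.Agent.H32.ElemFPC

section

variable {A A' : Type u} [CommRing A] [CommRing A'] [Algebra A A']
  (T : Submonoid A) (T' : Submonoid A')
  {M M' : Type u} [AddCommGroup M] [Module A M] [AddCommGroup M'] [Module A' M'] [Module A M']
  [IsScalarTower A A' M']
  (φ : M →ₗ[A] M') (hφ : IsBaseChange A' φ)
  (hunits : ∀ t : T, IsUnit (algebraMap A (Localization T') (t : A)))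

include hφ hunits in
/-- finite presentation passes from `M_T` over `A_T` to `M'_{T'}` over `A'_{T'}` -/
theorem finitePresentation_loc
    (h : Module.FinitePresentation (Localization T) (LocalizedModule T M)) :
    Module.FinitePresentation (Localization T') (LocalizedModule T' M') := by
  letI : Algebra (Localization T) (Localization T') :=
    (IsLocalization.lift (M := T) (g := algebraMap A (Localization T')) hunits).toAlgebra
  haveI : IsScalarTower A (Localization T) (Localization T') :=
    IsScalarTower.of_algebraMap_eq fun b => (IsLocalization.lift_eq hunits b).symm
  exact Groth.Agent.H32.ElemFPA.finitePresentation_of_isBaseChange_loc T T' φ hφ h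

include hφ hunits in
/-- descent of finite presentation from `M'_{T'}` over `A'_{T'}` to `M_T` over `A_T` when
`A → A'` is flat and every prime of `A` disjoint from `T` lifts to a prime of `A'` disjoint from
`T'` -/
theorem finitePresentation_loc_desc [Module.Flat A A']
    (hsurj : ∀ (P : Ideal A) [P.IsPrime], Disjoint (T : Set A) (P : Set A) →
      ∃ P' : Ideal A', P'.IsPrime ∧ Disjoint (T' : Set A') (P' : Set A') ∧
        P'.comap (algebraMap A A') = P)
    (h : Module.FinitePresentation (Localization T') (LocalizedModule T' M')) :
    Module.FinitePresentation (Localization T) (LocalizedModule T M) := by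
  letI : Algebra (Localization T) (Localization T') :=
    (IsLocalization.lift (M := T) (g := algebraMap A (Localization T')) hunits).toAlgebra
  haveI : IsScalarTower A (Localization T) (Localization T') :=
    IsScalarTower.of_algebraMap_eq fun b => (IsLocalization.lift_eq hunits b).symm
  haveI : Module.Flat A (Localization T') := Module.Flat.trans A A' (Localization T')
  haveI : Module.Flat (Localization T) (Localization T') :=
    (Module.flat_iff_of_isLocalization (Localization T) T (Localization T')).mpr inferInstance
  haveI : Module.FaithfullyFlat (Localization T) (Localization T') := by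
    apply Module.FaithfullyFlat.of_comap_surjective
    intro P₁
    obtain ⟨hP, hdisj⟩ := (IsLocalization.isPrime_iff_isPrime_disjoint T (Localization T)
      P₁.asIdeal).mp P₁.2
    haveI := hP
    obtain ⟨P', hP', hdisj', hcomap⟩ := hsurj _ hdisj
    haveI := hP'
    have hQprime : (P'.map (algebraMap A' (Localization T'))).IsPrime :=
      IsLocalization.isPrime_of_isPrime_disjoint T' _ P' hP' hdisj'
    have hQcomap : (P'.map (algebraMap A' (Localization T'))).comap
        (algebraMap A' (Localization T')) = P' :=
      IsLocalization.comap_map_of_isPrime_disjoint T' _ hP' hdisj'
    refine ⟨⟨P'.map (algebraMap A' (Localization T')), hQprime⟩, ?_⟩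
    apply PrimeSpectrum.ext
    change (P'.map (algebraMap A' (Localization T'))).comap
      (algebraMap (Localization T) (Localization T')) = P₁.asIdeal
    rw [← IsLocalization.map_comap T (Localization T) P₁.asIdeal,
      ← IsLocalization.map_comap T (Localization T)
        ((P'.map (algebraMap A' (Localization T'))).comap
          (algebraMap (Localization T) (Localization T')))]
    congr 1
    change Ideal.comap (algebraMap A (Localization T))
      (Ideal.comap (algebraMap (Localization T) (Localization T'))
        (Ideal.map (algebraMap A' (Localization T')) P')) =
      Ideal.comap (algebraMap A (Localization T)) P₁.asIdeal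
    rw [Ideal.comap_comap, ← IsScalarTower.algebraMap_eq A (Localization T) (Localization T'),
      IsScalarTower.algebraMap_eq A A' (Localization T'), ← Ideal.comap_comap, hQcomap, hcomap]
  exact Groth.Agent.H32.ElemFPA.finitePresentation_of_isBaseChange_loc_desc T T' φ hφ h

end

end Groth.Agent.H32.ElemFPC
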