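import Groth.Agent.H32.ElemFPC
import Groth.Prelude.Def_FlatCA

/-!
# Finite presentation of localized modules: small auxiliary lemmas
-/

set_option autoImplicit false
set_option linter.style.haveILetI false
universe u

open TensorProduct AlgebraicGeometry CategoryTheory

namespace Groth.Agent.H32.ElemFPD

theorem finitePresentation_of_smoothRelDim (n : ℕ) (R D : Type u) [CommRing R] [CommRing D]
    [Algebra R D] (h : FlatCA.SmoothRelDim n R D) : Algebra.FinitePresentation R D := by
  haveI : SmoothOfRelativeDimension n (Spec.map (CommRingCat.ofHom (algebraMap R D))) := h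
  haveI : Smooth (Spec.map (CommRingCat.ofHom (algebraMap R D))) :=
    SmoothOfRelativeDimension.smooth n _
  haveI : LocallyOfFinitePresentation (Spec.map (CommRingCat.ofHom (algebraMap R D))) :=
    inferInstance
  have h1 := (HasRingHomProperty.Spec_iff (P := @LocallyOfFinitePresentation)).mp this
  exact RingHom.finitePresentation_algebraMap.mp h1

section

variable {A : Type u} [CommRing A]

/-- a surjective algebra of finite presentation is a finitely presented module -/
theorem finitePresentation_module_of_surjective (C : Type u) [CommRing C] [Algebra A C]
    [Algebra.FinitePresentation A C] (hsurj : Function.Surjective (algebraMap A C)) :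
    Module.FinitePresentation A C := by
  have hker := Algebra.FinitePresentation.ker_fG_of_surjective (Algebra.ofId A C) hsurj
  exact Module.finitePresentation_of_surjective (Algebra.linearMap A C) hsurj hker

variable (T : Submonoid A) {M M' : Type u} [AddCommGroup M] [Module A M] [AddCommGroup M']
  [Module A M']

theorem finitePresentation_of_linearEquiv (e : M ≃ₗ[A] M')
    (h : Module.FinitePresentation (Localization T) (LocalizedModule T M)) :
    Module.FinitePresentation (Localization T) (LocalizedModule T M') :=
  Module.FinitePresentation.of_equiv
    (IsLocalizedModule.mapEquiv T (LocalizedModule.mkLinearMap T M)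
      (LocalizedModule.mkLinearMap T M') (Localization T) e)

theorem isBaseChange_id (M : Type u) [AddCommGroup M] [Module A M] :
    IsBaseChange A (LinearMap.id : M →ₗ[A] M) :=
  IsBaseChange.of_equiv (TensorProduct.lid A M) (fun x => by simp)

/-- finite presentation passes to further localizations -/
theorem finitePresentation_of_le (T₁ T₂ : Submonoid A)
    (hunits : ∀ t : T₁, IsUnit (algebraMap A (Localization T₂) (t : A)))
    (h : Module.FinitePresentation (Localization T₁) (LocalizedModule T₁ M)) :
    Module.FinitePresentation (Localization T₂) (LocalizedModule T₂ M) :=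
  Groth.Agent.H32.ElemFPC.finitePresentation_loc (A := A) (A' := A) T₁ T₂
    (LinearMap.id : M →ₗ[A] M) (isBaseChange_id M) hunits h

theorem finitePresentation_powers_of_dvd (g m : A)
    (h : Module.FinitePresentation (Localization.Away g) (LocalizedModule (Submonoid.powers g) M)) :
    Module.FinitePresentation (Localization.Away (m * g))
      (LocalizedModule (Submonoid.powers (m * g)) M) := by
  apply finitePresentation_of_le (Submonoid.powers g) (Submonoid.powers (m * g)) _ h
  rintro ⟨_, n, rfl⟩
  rw [map_pow]
  apply IsUnit.pow
  have hu : IsUnit (algebraMap A (Localization (Submonoid.powers (m * g))) (m * g)) :=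
    IsLocalization.map_units _ (⟨m * g, Submonoid.mem_powers _⟩ : Submonoid.powers (m * g))
  rw [map_mul] at hu
  exact isUnit_of_mul_isUnit_right hu

theorem disjoint_powers_of_notMem (g : A) (P : Ideal A) [P.IsPrime] (hg : g ∉ P) :
    Disjoint (Submonoid.powers g : Set A) (P : Set A) := by
  rw [Set.disjoint_left]
  rintro _ ⟨n, rfl⟩ hn
  exact hg (Ideal.IsPrime.mem_of_pow_mem inferInstance n hn)

theorem notMem_of_disjoint_powers (g : A) (P : Ideal A)
    (h : Disjoint (Submonoid.powers g : Set A) (P : Set A)) : g ∉ P := fun hg =>
  Set.disjoint_left.mp h (Submonoid.mem_powers g) hg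

end

end Groth.Agent.H32.ElemFPD
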