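import Mathlib

set_option autoImplicit false
universe u
open TensorProduct CategoryTheory

namespace Groth.Agent.H32

/-- Two algebra maps out of an epi algebra agree. -/
theorem algHom_eq_of_isEpi {R S B : Type*} [CommRing R] [CommRing S] [CommRing B] [Algebra R S]
    [Algebra R B] [Algebra.IsEpi R S] (f g : S →ₐ[R] B) : f = g := by
  ext s
  have h := (Algebra.isEpi_iff_forall_one_tmul_eq R S).1 inferInstance s
  have := congrArg (Algebra.TensorProduct.lift f g (fun _ _ => Commute.all _ _)) h
  simpa using this.symm

/-- Two ring maps out of an epi algebra that agree on the base agree. -/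
theorem ringHom_eq_of_isEpi {R S B : Type*} [CommRing R] [CommRing S] [CommRing B] [Algebra R S]
    [Algebra.IsEpi R S] (f g : S →+* B)
    (h : f.comp (algebraMap R S) = g.comp (algebraMap R S)) : f = g := by
  let _ : Algebra R B := (f.comp (algebraMap R S)).toAlgebra
  let f' : S →ₐ[R] B := ⟨f, fun _ => rfl⟩
  let g' : S →ₐ[R] B := ⟨g, fun r => (RingHom.congr_fun h r).symm⟩
  have := algHom_eq_of_isEpi f' g'
  ext s
  exact AlgHom.congr_fun this s

/-- If any two ring maps out of `S` agreeing on `R` agree, then `S` is epi over `R`. -/
theorem isEpi_of_forall_ringHom_eq {R S : Type*} [CommRing R] [CommRing S] [Algebra R S]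
    (h : ∀ (f g : S →+* S ⊗[R] S), f.comp (algebraMap R S) = g.comp (algebraMap R S) → f = g) :
    Algebra.IsEpi R S := by
  rw [Algebra.isEpi_iff_forall_one_tmul_eq]
  intro a
  have := h (Algebra.TensorProduct.includeRight (R := R) (A := S) (B := S)).toRingHom
    (Algebra.TensorProduct.includeLeftRingHom) (by
      ext r
      change (1 : S) ⊗ₜ[R] algebraMap R S r = algebraMap R S r ⊗ₜ[R] (1 : S)
      simp only [Algebra.algebraMap_eq_smul_one, smul_tmul])
  exact RingHom.congr_fun this a

/-- Base change of an epi algebra is epi. -/
theorem isEpi_baseChange (R S A : Type*) [CommRing R] [CommRing S] [CommRing A] [Algebra R S]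
    [Algebra R A] [Algebra.IsEpi R S] : Algebra.IsEpi A (A ⊗[R] S) := by
  apply isEpi_of_forall_ringHom_eq
  intro f g e
  have h2 : f.comp (Algebra.TensorProduct.includeRight (R := R) (A := A) (B := S)).toRingHom =
      g.comp (Algebra.TensorProduct.includeRight (R := R) (A := A) (B := S)).toRingHom := by
    apply ringHom_eq_of_isEpi (R := R)
    ext r
    have hr : (Algebra.TensorProduct.includeRight (R := R) (A := A) (B := S)) (algebraMap R S r) =
        algebraMap A (A ⊗[R] S) (algebraMap R A r) := by
      rw [Algebra.TensorProduct.includeRight_apply, Algebra.TensorProduct.algebraMap_apply,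
        Algebra.algebraMap_eq_smul_one, Algebra.algebraMap_eq_smul_one r (A := A), Algebra.algebraMap_self,
        RingHom.id_apply, smul_tmul]
    simp only [RingHom.coe_comp, Function.comp_apply, AlgHom.toRingHom_eq_coe, RingHom.coe_coe]
    rw [hr]
    exact RingHom.congr_fun e _
  refine RingHom.ext fun x => ?_
  induction x using TensorProduct.induction_on with
  | zero => simp
  | tmul a s =>
    have : a ⊗ₜ[R] s = (algebraMap A (A ⊗[R] S) a) *
        (Algebra.TensorProduct.includeRight (R := R) (A := A) (B := S)) s := by
      simp [Algebra.TensorProduct.algebraMap_apply]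
    rw [this, map_mul, map_mul]
    congr 1
    · exact RingHom.congr_fun e a
    · exact RingHom.congr_fun h2 s
  | add x y hx hy => rw [map_add, map_add, hx, hy]

end Groth.Agent.H32
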