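import Groth.Agent.H32.FibBasic

set_option autoImplicit false
open CategoryTheory
universe v₃ u₃ v₂ u₂ v u

namespace Groth.Agent.H32

variable {C : Type u} [Category.{v} C] {𝒳 : BasedCategory.{v₂, u₂} C} {𝒴 : BasedCategory.{v₃, u₃} C}

/-- data of an equivalence over the base -/
structure EquivOverData (F : 𝒳 ⥤ᵇ 𝒴) where
  inv : 𝒴 ⥤ᵇ 𝒳
  unit : BasedFunctor.comp F inv ≅ BasedFunctor.id 𝒳
  counit : BasedFunctor.comp inv F ≅ BasedFunctor.id 𝒴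

theorem IsEquivOver.nonempty_data {F : 𝒳 ⥤ᵇ 𝒴} (h : FibCat.IsEquivOver F) :
    Nonempty (EquivOverData F) := by
  obtain ⟨G, ⟨η⟩, ⟨ε⟩⟩ := h
  exact ⟨⟨G, η, ε⟩⟩

namespace EquivOverData

variable {F : 𝒳 ⥤ᵇ 𝒴} (d : EquivOverData F)

/-- the underlying natural iso `F ⋙ G ≅ 𝟭` -/
def unitIso : F.toFunctor ⋙ d.inv.toFunctor ≅ 𝟭 𝒳.obj :=
  (BasedNatTrans.forgetful _ _).mapIso d.unit

/-- the underlying natural iso `G ⋙ F ≅ 𝟭` -/
def counitIso : d.inv.toFunctor ⋙ F.toFunctor ≅ 𝟭 𝒴.obj :=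
  (BasedNatTrans.forgetful _ _).mapIso d.counit

instance unit_isHomLift (a : 𝒳.obj) :
    𝒳.p.IsHomLift (𝟙 (𝒳.p.obj a)) (d.unitIso.hom.app a) :=
  d.unit.hom.isHomLift' a

instance counit_isHomLift (a : 𝒴.obj) :
    𝒴.p.IsHomLift (𝟙 (𝒴.p.obj a)) (d.counitIso.hom.app a) :=
  d.counit.hom.isHomLift' a

instance counit_inv_isHomLift (a : 𝒴.obj) :
    𝒴.p.IsHomLift (𝟙 (𝒴.p.obj a)) (d.counitIso.inv.app a) :=
  d.counit.inv.isHomLift' a

instance unit_inv_isHomLift (a : 𝒳.obj) :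
    𝒳.p.IsHomLift (𝟙 (𝒳.p.obj a)) (d.unitIso.inv.app a) :=
  d.unit.inv.isHomLift' a

/-- the underlying equivalence of categories -/
noncomputable def equivalence : 𝒳.obj ≌ 𝒴.obj :=
  CategoryTheory.Equivalence.mk F.toFunctor d.inv.toFunctor d.unitIso.symm d.counitIso

theorem isEquivalence (d : EquivOverData F) : F.toFunctor.IsEquivalence :=
  inferInstanceAs (d.equivalence.functor.IsEquivalence)

/-- the symmetric data -/
def symm : EquivOverData d.inv where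
  inv := F
  unit := d.counit
  counit := d.unit

end EquivOverData

theorem IsEquivOver.isEquivalence {F : 𝒳 ⥤ᵇ 𝒴} (h : FibCat.IsEquivOver F) :
    F.toFunctor.IsEquivalence := by
  obtain ⟨d⟩ := IsEquivOver.nonempty_data h
  exact d.isEquivalence

theorem map_isStronglyCartesian_of_equivOverData {F : 𝒳 ⥤ᵇ 𝒴} (d : EquivOverData F)
    {R S : C} (f : R ⟶ S) {a b : 𝒳.obj} (φ : a ⟶ b) [𝒳.p.IsStronglyCartesian f φ] :
    𝒴.p.IsStronglyCartesian f (F.map φ) := by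
  have hE : F.toFunctor.IsEquivalence := d.isEquivalence
  refine { universal_property' := ?_ }
  intro a' g φ' hφ'
  -- transport to `G a'`
  let ε : F.obj (d.inv.obj a') ⟶ a' := d.counitIso.hom.app a'
  let εi : a' ⟶ F.obj (d.inv.obj a') := d.counitIso.inv.app a'
  have hεεi : ε ≫ εi = 𝟙 _ := d.counitIso.hom_inv_id_app a'
  have hεiε : εi ≫ ε = 𝟙 _ := d.counitIso.inv_hom_id_app a'
  have hε : 𝒴.p.IsHomLift (𝟙 (𝒴.p.obj a')) ε := d.counit_isHomLift a'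
  have hεi : 𝒴.p.IsHomLift (𝟙 (𝒴.p.obj a')) εi := d.counit_inv_isHomLift a'
  let ψ : d.inv.obj a' ⟶ b := F.toFunctor.preimage (ε ≫ φ')
  have hψ : F.map ψ = ε ≫ φ' := F.toFunctor.map_preimage _
  have hl : 𝒴.p.IsHomLift (g ≫ f) (ε ≫ φ') := by
    have := IsHomLift.comp 𝒴.p (𝟙 (𝒴.p.obj a')) (g ≫ f) ε φ'
    simpa using this
  have hψl : 𝒳.p.IsHomLift (g ≫ f) ψ := by
    have : 𝒴.p.IsHomLift (g ≫ f) (F.map ψ) := by rw [hψ]; exact hl
    exact BasedFunctor.isHomLift_map F (g ≫ f) ψ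
  obtain ⟨χ₀, ⟨hχ₀, hχ₀'⟩, huniq⟩ :=
    Functor.IsStronglyCartesian.universal_property 𝒳.p f φ g (g ≫ f) rfl ψ
  refine ⟨εi ≫ F.map χ₀, ⟨?_, ?_⟩, ?_⟩
  · have := IsHomLift.comp 𝒴.p (𝟙 (𝒴.p.obj a')) g εi (F.map χ₀)
    simpa using this
  · rw [Category.assoc, ← F.map_comp, hχ₀', hψ, ← Category.assoc, hεiε, Category.id_comp]
  · rintro χ' ⟨h1, h2⟩
    let χ₀' : d.inv.obj a' ⟶ a := F.toFunctor.preimage (ε ≫ χ')
    have hχ₀' : F.map χ₀' = ε ≫ χ' := F.toFunctor.map_preimage _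
    have hl' : 𝒴.p.IsHomLift g (ε ≫ χ') := by
      have := IsHomLift.comp 𝒴.p (𝟙 (𝒴.p.obj a')) g ε χ'
      simpa using this
    have h3 : 𝒳.p.IsHomLift g χ₀' := by
      have : 𝒴.p.IsHomLift g (F.map χ₀') := by rw [hχ₀']; exact hl'
      exact BasedFunctor.isHomLift_map F g χ₀'
    have h4 : χ₀' ≫ φ = ψ := by
      apply F.toFunctor.map_injective
      rw [Functor.map_comp]
      rw [hχ₀', hψ, Category.assoc, h2]
    have h5 : χ₀' = χ₀ := huniq χ₀' ⟨h3, h4⟩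
    rw [← h5, hχ₀', ← Category.assoc, hεiε, Category.id_comp]

theorem isFibered_of_equivOverData {F : 𝒳 ⥤ᵇ 𝒴} (d : EquivOverData F) [𝒳.p.IsFibered] :
    𝒴.p.IsFibered := by
  apply Functor.IsFibered.of_exists_isStronglyCartesian
  intro a R f
  obtain ⟨b, φ, hφ⟩ := IsPreFibered.exists_isCartesian 𝒳.p (a := d.inv.obj a)
    (d.inv.w_obj a) f
  have hs : 𝒳.p.IsStronglyCartesian f φ := inferInstance
  have h1 : 𝒴.p.IsStronglyCartesian f (F.map φ) := map_isStronglyCartesian_of_equivOverData d f φ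
  let ε := d.counitIso.app a
  have hε : 𝒴.p.IsHomLift (𝟙 (𝒴.p.obj a)) ε.hom := d.counit_isHomLift a
  have h2 : 𝒴.p.IsStronglyCartesian (𝟙 (𝒴.p.obj a)) ε.hom := inferInstance
  have h3 : 𝒴.p.IsStronglyCartesian (f ≫ 𝟙 (𝒴.p.obj a)) (F.map φ ≫ ε.hom) := inferInstance
  rw [Category.comp_id] at h3
  exact ⟨_, _, h3⟩

end Groth.Agent.H32
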