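import Groth.Prelude.Def_W4stkcategoriessitesFib

set_option autoImplicit false
open CategoryTheory
universe v₂ u₂ v u

namespace Groth.Agent.H32

variable {C : Type u} [Category.{v} C] {S : Type u₂} [Category.{v₂} S] (p : S ⥤ C)

theorem isStronglyCartesian_of_fibGrpd (h : FibCat.IsFibGrpd p) {R T : C} (f : R ⟶ T)
    {a b : S} (φ : a ⟶ b) [hφ : p.IsHomLift f φ] : p.IsStronglyCartesian f φ := by
  obtain ⟨⟩ := hφ
  exact h.isStronglyCartesian φ

theorem isFibered_of_fibGrpd (h : FibCat.IsFibGrpd p) : p.IsFibered := by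
  apply Functor.IsFibered.of_exists_isStronglyCartesian
  intro a R f
  obtain ⟨y, φ, hφ⟩ := h.exists_lift f
  exact ⟨y, φ, isStronglyCartesian_of_fibGrpd p h f φ⟩

theorem isIso_of_fibGrpd (h : FibCat.IsFibGrpd p) {a b : S} (φ : a ⟶ b) [IsIso (p.map φ)] :
    IsIso φ := by
  have := h.isStronglyCartesian φ
  exact Functor.IsStronglyCartesian.isIso_of_base_isIso p (p.map φ) φ

theorem isIso_of_fibGrpd' (h : FibCat.IsFibGrpd p) {R T : C} (f : R ⟶ T) [IsIso f]
    {a b : S} (φ : a ⟶ b) [hφ : p.IsHomLift f φ] : IsIso φ := by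
  have := isStronglyCartesian_of_fibGrpd p h f φ
  exact Functor.IsStronglyCartesian.isIso_of_base_isIso p f φ

theorem isGroupoid_fiber_of_fibGrpd (h : FibCat.IsFibGrpd p) (U : C) :
    IsGroupoid (p.Fiber U) := by
  refine ⟨fun {X Y} f => ?_⟩
  have hf : p.IsHomLift (𝟙 U) f.1 := f.2
  have : IsIso f.1 := isIso_of_fibGrpd' p h (𝟙 U) f.1
  have hinv : p.IsHomLift (𝟙 U) (inv f.1) := by
    have := IsHomLift.lift_id_inv_isIso p U f.1
    simpa using this
  refine ⟨⟨⟨inv f.1, hinv⟩, ?_, ?_⟩⟩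
  · apply Functor.Fiber.hom_ext
    exact IsIso.hom_inv_id f.1
  · apply Functor.Fiber.hom_ext
    exact IsIso.inv_hom_id f.1

theorem fibGrpd_of_isFibered_of_isGroupoid [p.IsFibered] (hg : ∀ U : C, IsGroupoid (p.Fiber U)) :
    FibCat.IsFibGrpd p := by
  refine ⟨?_, ?_⟩
  · intro x V f
    obtain ⟨y, φ, hφ⟩ := IsPreFibered.exists_isCartesian p (a := x) rfl f
    exact ⟨y, φ, inferInstance⟩
  · intro y x φ
    obtain ⟨y', ψ, hψ⟩ := IsPreFibered.exists_isCartesian p (a := x) rfl (p.map φ)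
    have hψs : p.IsStronglyCartesian (p.map φ) ψ := inferInstance
    let χ := Functor.IsCartesian.map p (p.map φ) ψ φ
    have hχ : p.IsHomLift (𝟙 (p.obj y)) χ := inferInstance
    have hfac : χ ≫ ψ = φ := Functor.IsCartesian.fac p (p.map φ) ψ φ
    have hy' : p.obj y' = p.obj y := IsHomLift.domain_eq p (p.map φ) ψ
    let χ' : (Functor.Fiber.mk (p := p) (S := p.obj y) (a := y) rfl) ⟶ Functor.Fiber.mk (p := p) (S := p.obj y) (a := y') hy' := ⟨χ, hχ⟩
    have hiso : IsIso χ' := (hg (p.obj y)).all_isIso χ'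
    have hiso' : IsIso χ := by
      have := (Functor.Fiber.fiberInclusion (p := p) (S := p.obj y)).map_isIso χ'
      exact this
    have h1 : p.IsStronglyCartesian (𝟙 (p.obj y)) χ := inferInstance
    have h2 : p.IsStronglyCartesian (𝟙 (p.obj y) ≫ p.map φ) (χ ≫ ψ) := inferInstance
    rw [Category.id_comp, hfac] at h2
    exact h2

end Groth.Agent.H32
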