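import Mathlib
import Groth.Agent.H29.FibPd

/-!
# Projective dimension from the fibre, without Noetherian hypotheses

`A` a local `V`-algebra, flat over `V`, `p` an ideal of `V` with `pA ≤ 𝔪_A`.  For finitely presented
`A`-modules flat over `V`, assuming kernels of presentations of such modules are again finitely
presented, projective dimension can be read off modulo `p`.
-/

set_option autoImplicit false

namespace Groth.Agent.H32.FibPdVal

universe u

open CategoryTheory IsLocalRing

open Groth.Agent.H29.FibPd (fmap fmap_mk fmap_surjective fmap_exact projective_quot)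

variable {V A : Type u} [CommRing V] [CommRing A] [Algebra V A] (p : Ideal V)

/-- for `K ≤ F` with `F` and `F/K` flat over `V`: `K ∩ pF = pK` -/
theorem mem_smul_top_of_flat (F : Type u) [AddCommGroup F] [Module A F] [Module V F]
    [IsScalarTower V A F] [Module.Flat V F] (K : Submodule A F) (hK : Module.Flat V (F ⧸ K))
    (k : K) (hk : (k : F) ∈ ((p.map (algebraMap V A)) • ⊤ : Submodule A F)) :
    k ∈ ((p.map (algebraMap V A)) • ⊤ : Submodule A K) := by
  rw [Groth.Agent.H2.mem_map_smul_top_iff] at hk ⊢
  exact Groth.Agent.H29.FlatReg.mem_smul_of_flat_quotient F K hK p k hk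

theorem fmap_subtype_injective (F : Type u) [AddCommGroup F] [Module A F] [Module V F]
    [IsScalarTower V A F] [Module.Flat V F] (K : Submodule A F) (hK : Module.Flat V (F ⧸ K)) :
    Function.Injective (fmap (p.map (algebraMap V A)) K.subtype) := by
  rw [← LinearMap.ker_eq_bot, LinearMap.ker_eq_bot']
  intro y hy
  obtain ⟨k, rfl⟩ := Submodule.Quotient.mk_surjective _ y
  rw [fmap_mk, Submodule.Quotient.mk_eq_zero] at hy
  rw [Submodule.Quotient.mk_eq_zero]
  exact mem_smul_top_of_flat p F K hK k hy

variable [IsLocalRing A] (hI : p.map (algebraMap V A) ≤ maximalIdeal A) [Module.Flat V A]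

omit [Module.Flat V A] in
include hI in
theorem map_le_jacobson : p.map (algebraMap V A) ≤ Ideal.jacobson (⊥ : Ideal A) := by
  rw [IsLocalRing.jacobson_eq_maximalIdeal ⊥ bot_ne_top]
  exact hI

include hI in
/-- freeness lifts from the fibre for a finitely presented `A`-module flat over `V` -/
theorem free_of_free_fibre (N : Type u) [AddCommGroup N] [Module A N]
    [Module V N] [IsScalarTower V A N] [Module.FinitePresentation A N] [Module.Flat V N]
    [Module.Free (A ⧸ p.map (algebraMap V A))
      (N ⧸ ((p.map (algebraMap V A)) • ⊤ : Submodule A N))] : Module.Free A N := by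
  set I := p.map (algebraMap V A) with hIdef
  have hfin : Module.Finite (A ⧸ I) (N ⧸ (I • ⊤ : Submodule A N)) :=
    Module.Finite.of_restrictScalars_finite A _ _
  have hnt : Nontrivial (A ⧸ I) := by
    rw [Ideal.Quotient.nontrivial_iff]
    intro h
    have := hI
    rw [h] at this
    exact (IsLocalRing.maximalIdeal.isMaximal A).ne_top (top_le_iff.mp this)
  let bs := Module.finBasis (A ⧸ I) (N ⧸ (I • ⊤ : Submodule A N))
  set r := Module.finrank (A ⧸ I) (N ⧸ (I • ⊤ : Submodule A N)) with hr
  have hlift : ∀ i : Fin r, ∃ n : N,
      (Submodule.Quotient.mk n : N ⧸ (I • ⊤ : Submodule A N)) = bs i :=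
    fun i => Submodule.Quotient.mk_surjective _ _
  choose n hn using hlift
  let g : (Fin r → A) →ₗ[A] N := Fintype.linearCombination A n
  have hg_apply : ∀ c : Fin r → A, g c = ∑ i, c i • n i := fun c => rfl
  -- surjectivity
  have hsurj : Function.Surjective g := by
    rw [← LinearMap.range_eq_top]
    apply top_le_iff.mp
    refine Submodule.le_of_le_smul_of_le_jacobson_bot (I := I) Module.Finite.fg_top
      (map_le_jacobson p hI) ?_
    intro x _
    have hx := bs.sum_repr (Submodule.Quotient.mk x : N ⧸ (I • ⊤ : Submodule A N))
    have hc : ∀ i : Fin r, ∃ c : A,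
        Ideal.Quotient.mk I c = bs.repr (Submodule.Quotient.mk x) i :=
      fun i => Ideal.Quotient.mk_surjective _
    choose c hc' using hc
    have h1 : (Submodule.Quotient.mk (x - g c) : N ⧸ (I • ⊤ : Submodule A N)) = 0 := by
      rw [Submodule.Quotient.mk_sub, sub_eq_zero, hg_apply]
      conv_lhs => rw [← hx]
      change _ = Submodule.mkQ (I • ⊤ : Submodule A N) (∑ i, c i • n i)
      rw [map_sum]
      refine Finset.sum_congr rfl fun i _ => ?_
      rw [map_smul, Submodule.mkQ_apply, hn, ← hc']
      rfl
    rw [Submodule.Quotient.mk_eq_zero] at h1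
    have h2 : x = g c + (x - g c) := by abel
    rw [h2]
    exact Submodule.add_mem_sup (LinearMap.mem_range_self g c) h1
  -- kernel
  have hFflat : Module.Flat V (Fin r → A) := Module.Flat.trans V A (Fin r → A)
  have hquot : Module.Flat V ((Fin r → A) ⧸ LinearMap.ker g) :=
    Module.Flat.of_linearEquiv ((g.quotKerEquivOfSurjective hsurj).restrictScalars V)
  have hkerfg : (LinearMap.ker g).FG := Module.FinitePresentation.fg_ker g hsurj
  have hker : LinearMap.ker g = ⊥ := by
    apply Submodule.eq_bot_of_le_smul_of_le_jacobson_bot I _ hkerfg _ (map_le_jacobson p hI)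
    intro k hk
    have hk0 : ∑ i, k i • n i = 0 := hk
    have h3 : ∀ i, k i ∈ I := by
      have h4 : ∑ i, Ideal.Quotient.mk I (k i) • bs i = 0 := by
        have := congrArg (Submodule.mkQ (I • ⊤ : Submodule A N)) hk0
        rw [map_sum, map_zero] at this
        rw [← this]
        refine Finset.sum_congr rfl fun i _ => ?_
        rw [map_smul, Submodule.mkQ_apply, hn]
        rfl
      intro i
      have := Fintype.linearIndependent_iff.mp bs.linearIndependent _ h4 i
      exact Ideal.Quotient.eq_zero_iff_mem.mp this
    have h5 : k ∈ (I • ⊤ : Submodule A (Fin r → A)) := by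
      have : k = ∑ i, k i • (Pi.single i 1 : Fin r → A) := by
        funext j
        simp [Finset.sum_apply, Pi.single_apply]
      rw [this]
      exact Submodule.sum_mem _ fun i _ => Submodule.smul_mem_smul (h3 i) trivial
    have h6 := mem_smul_top_of_flat p (Fin r → A) (LinearMap.ker g) hquot ⟨k, hk⟩ h5
    have h7 : (I • ⊤ : Submodule A (LinearMap.ker g)).map (LinearMap.ker g).subtype =
        I • LinearMap.ker g := by
      rw [Submodule.map_smul'', Submodule.map_top, Submodule.range_subtype]
    rw [← h7]
    exact ⟨⟨k, hk⟩, h6, rfl⟩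
  exact Module.Free.of_equiv
    (LinearEquiv.ofBijective g ⟨LinearMap.ker_eq_bot.mp hker, hsurj⟩)

include hI in
/-- **Fibrewise bound for the projective dimension.** `hK` says that kernels of presentations of
finitely presented `V`-flat modules are finitely presented. -/
theorem hasProjectiveDimensionLT_of_fibre [IsLocalRing (A ⧸ p.map (algebraMap V A))]
    (hK : ∀ (N : Type u) [AddCommGroup N] [Module A N] [Module V N] [IsScalarTower V A N]
      [Module.FinitePresentation A N] [Module.Flat V N] (m : ℕ) (g : (Fin m → A) →ₗ[A] N),
      Function.Surjective g → Module.FinitePresentation A (LinearMap.ker g)) :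
    ∀ (j : ℕ) (N : Type u) [AddCommGroup N] [Module A N] [Module V N] [IsScalarTower V A N]
      [Module.FinitePresentation A N] [Module.Flat V N],
      HasProjectiveDimensionLT (ModuleCat.of (A ⧸ p.map (algebraMap V A))
        (N ⧸ ((p.map (algebraMap V A)) • ⊤ : Submodule A N))) (j + 1) →
      HasProjectiveDimensionLT (ModuleCat.of A N) (j + 1) := by
  intro j
  induction j with
  | zero =>
    intro N _ _ _ _ _ _ h
    rw [zero_add, ← projective_iff_hasProjectiveDimensionLT_one,
      ← IsProjective.iff_projective] at h ⊢
    have hfin : Module.Finite (A ⧸ p.map (algebraMap V A))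
        (N ⧸ ((p.map (algebraMap V A)) • ⊤ : Submodule A N)) :=
      Module.Finite.of_restrictScalars_finite A _ _
    have : Module.Free (A ⧸ p.map (algebraMap V A))
        (N ⧸ ((p.map (algebraMap V A)) • ⊤ : Submodule A N)) :=
      Module.free_of_flat_of_isLocalRing
    have : Module.Free A N := free_of_free_fibre p hI N
    infer_instance
  | succ j ih =>
    intro N _ _ _ _ _ _ h
    obtain ⟨m, g, hg⟩ := Module.Finite.exists_fin' A N
    let K := LinearMap.ker g
    have hKfp : Module.FinitePresentation A K := hK N m g hg
    have hexact : Function.Exact K.subtype g := LinearMap.exact_subtype_ker_map g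
    have hinj : Function.Injective K.subtype := Subtype.val_injective
    have hS := Groth.Agent.H29.GlDimL.shortExact_of_exact K.subtype g hinj hg hexact
    have hproj : Projective (ModuleCat.of A (Fin m → A)) :=
      (IsProjective.iff_projective _).mp inferInstance
    have hFflat : Module.Flat V (Fin m → A) := Module.Flat.trans V A (Fin m → A)
    have hKflat : Module.Flat V K :=
      Groth.Agent.H89.flat_of_exact_of_flat (K.subtype.restrictScalars V) (g.restrictScalars V)
        hinj hg hexact
    have hquot : Module.Flat V ((Fin m → A) ⧸ K) :=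
      Module.Flat.of_linearEquiv ((g.quotKerEquivOfSurjective hg).restrictScalars V)
    have hS' := Groth.Agent.H29.GlDimL.shortExact_of_exact
      (fmap (p.map (algebraMap V A)) K.subtype) (fmap (p.map (algebraMap V A)) g)
      (fmap_subtype_injective p (Fin m → A) K hquot) (fmap_surjective _ g hg)
      (fmap_exact _ K.subtype g hg hexact)
    have hproj' : Projective (ModuleCat.of (A ⧸ p.map (algebraMap V A))
        ((Fin m → A) ⧸ ((p.map (algebraMap V A)) • ⊤ : Submodule A (Fin m → A)))) :=
      (IsProjective.iff_projective _).mp (projective_quot _ _)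
    rw [hS.hasProjectiveDimensionLT_X₃_iff j hproj]
    rw [hS'.hasProjectiveDimensionLT_X₃_iff j hproj'] at h
    exact ih K h

end Groth.Agent.H32.FibPdVal
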