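import Groth.Agent.H32.Setoid

set_option autoImplicit false
open CategoryTheory CategoryTheory.Limits
universe v₄ u₄ v₃ u₃ v₂ u₂ v u

namespace Groth.Agent.H32

variable {C : Type u} [Category.{v} C] {𝒳 : BasedCategory.{v₂, u₂} C}
  {𝒴 : BasedCategory.{v₃, u₃} C}

theorem hom_eq_eqToHom_of_isDiscrete_fiber (hd : ∀ U : C, IsDiscrete (𝒴.p.Fiber U))
    {U : C} {x y : 𝒴.obj} (φ : x ⟶ y) (hφ : 𝒴.p.IsHomLift (𝟙 U) φ) :
    ∃ h : x = y, φ = eqToHom h := by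
  have hx : 𝒴.p.obj x = U := IsHomLift.domain_eq 𝒴.p (𝟙 U) φ
  have hy : 𝒴.p.obj y = U := IsHomLift.codomain_eq 𝒴.p (𝟙 U) φ
  let X : 𝒴.p.Fiber U := ⟨x, hx⟩
  let Y : 𝒴.p.Fiber U := ⟨y, hy⟩
  let m : X ⟶ Y := ⟨φ, hφ⟩
  have hXY : X = Y := (hd U).eq_of_hom m
  have hm : m = eqToHom hXY := by
    have := (hd U).subsingleton X Y
    exact Subsingleton.elim _ _
  have hxy : x = y := congrArg Subtype.val hXY
  refine ⟨hxy, ?_⟩
  have h1 : φ = (Functor.Fiber.fiberInclusion (p := 𝒴.p) (S := U)).map m := rfl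
  rw [h1, hm, eqToHom_map]
  rfl

theorem basedNatTrans_eq_eqToHom (hd : ∀ U : C, IsDiscrete (𝒴.p.Fiber U))
    {F G : 𝒳 ⥤ᵇ 𝒴} (α : F ⟶ G) : ∃ h : F = G, α = eqToHom h := by
  have key : ∀ a : 𝒳.obj, ∃ h : F.obj a = G.obj a, α.toNatTrans.app a = eqToHom h :=
    fun a => hom_eq_eqToHom_of_isDiscrete_fiber hd (α.toNatTrans.app a) (α.isHomLift' a)
  have hFG : F.toFunctor = G.toFunctor := by
    refine Functor.ext (fun a => (key a).choose) ?_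
    intro a b f
    have hn := α.toNatTrans.naturality f
    rw [(key a).choose_spec, (key b).choose_spec] at hn
    rw [← Category.assoc, ← hn]
    simp
  have h : F = G := by
    cases F; cases G
    simp only [BasedFunctor.mk.injEq]
    exact hFG
  subst h
  refine ⟨rfl, ?_⟩
  apply BasedNatTrans.homCategory.ext
  ext a
  obtain ⟨h, hh⟩ := key a
  rw [hh]
  simp

end Groth.Agent.H32

namespace Groth.Agent.H32

variable {C : Type u} [Category.{v} C] {𝒳 : BasedCategory.{v₂, u₂} C}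
  {𝒴 : BasedCategory.{v₃, u₃} C}

theorem hom_ext_of_thin_fiber (ht : ∀ U : C, Quiver.IsThin (𝒴.p.Fiber U))
    {U : C} {x y : 𝒴.obj} (φ ψ : x ⟶ y) (hφ : 𝒴.p.IsHomLift (𝟙 U) φ)
    (hψ : 𝒴.p.IsHomLift (𝟙 U) ψ) : φ = ψ := by
  have hx : 𝒴.p.obj x = U := IsHomLift.domain_eq 𝒴.p (𝟙 U) φ
  have hy : 𝒴.p.obj y = U := IsHomLift.codomain_eq 𝒴.p (𝟙 U) φ
  let X : 𝒴.p.Fiber U := ⟨x, hx⟩
  let Y : 𝒴.p.Fiber U := ⟨y, hy⟩
  let m : X ⟶ Y := ⟨φ, hφ⟩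
  let n : X ⟶ Y := ⟨ψ, hψ⟩
  have : m = n := (ht U X Y).elim m n
  exact congrArg Subtype.val this

theorem unique_iso_of_fiberwise_iso (h𝒴 : FibCat.IsFibSetoid 𝒴.p) (f g : 𝒳 ⥤ᵇ 𝒴)
    (hfg : ∀ (U : C) (x : 𝒳.p.Fiber U),
      Nonempty ((FibCat.fiberFunctor f U).obj x ≅ (FibCat.fiberFunctor g U).obj x)) :
    Nonempty (Unique (f ≅ g)) := by
  obtain ⟨hG, ht⟩ := h𝒴
  -- choose the components
  have hθ : ∀ x : 𝒳.obj, ∃ θ : f.obj x ≅ g.obj x, 𝒴.p.IsHomLift (𝟙 (𝒳.p.obj x)) θ.hom := by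
    intro x
    obtain ⟨e⟩ := hfg (𝒳.p.obj x) ⟨x, rfl⟩
    refine ⟨(Functor.Fiber.fiberInclusion (p := 𝒴.p) (S := 𝒳.p.obj x)).mapIso e, ?_⟩
    exact e.hom.2
  choose θ hθ' using hθ
  have hnat : ∀ {x x' : 𝒳.obj} (φ : x ⟶ x'),
      f.map φ ≫ (θ x').hom = (θ x).hom ≫ g.map φ := by
    intro x x' φ
    let h := 𝒳.p.map φ
    have h1 : 𝒴.p.IsHomLift h (g.map φ) := inferInstance
    have h2 : 𝒴.p.IsStronglyCartesian h (g.map φ) := isStronglyCartesian_of_fibGrpd 𝒴.p hG h _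
    have h3 : 𝒴.p.IsHomLift h (f.map φ) := inferInstance
    have := hθ' x'
    have h4 : 𝒴.p.IsHomLift h (f.map φ ≫ (θ x').hom) :=
      IsHomLift.comp_lift_id_right' 𝒴.p h (f.map φ) (𝒳.p.obj x') (θ x').hom
    obtain ⟨χ, ⟨hχ, hχ'⟩, -⟩ :=
      Functor.IsStronglyCartesian.universal_property 𝒴.p h (g.map φ) (𝟙 (𝒳.p.obj x)) h (by simp)
        (f.map φ ≫ (θ x').hom)
    have : χ = (θ x).hom := hom_ext_of_thin_fiber ht χ (θ x).hom hχ (hθ' x)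
    rw [← hχ', this]
  let e : f ≅ g := BasedNatIso.mkNatIso (NatIso.ofComponents θ (fun φ => hnat φ)) (fun a => hθ' a)
  refine ⟨{ default := e, uniq := ?_ }⟩
  intro e'
  apply Iso.ext
  apply BasedNatTrans.homCategory.ext
  ext a
  exact hom_ext_of_thin_fiber ht _ _ (e'.hom.isHomLift' a) (e.hom.isHomLift' a)

end Groth.Agent.H32
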