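import Mathlib
import Groth.Prelude.Def_FlatCA
import Groth.Agent.H6.NzdFiber

/-!
# Associated primes of fibre modules and prime avoidance in the fibre ring (helper32)
-/

set_option autoImplicit false
universe u

open TensorProduct

namespace Groth.Agent.H32.FiberAss

attribute [local instance] Algebra.TensorProduct.rightAlgebra

variable {R S : Type u} [CommRing R] [CommRing S] [Algebra R S]
  (N : Type u) [AddCommGroup N] [Module S N] [Module R N] [IsScalarTower R S N]
  (p : Ideal R) [p.IsPrime]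

/-- auxiliary: `κ(p) ⊗ S ≃ S ⊗ κ(p)`, `S`-linearly -/
noncomputable def fiberEquivAux : p.Fiber S ≃ₗ[S] S ⊗[R] p.ResidueField :=
  (Algebra.TensorProduct.commRight R S p.ResidueField).symm.toLinearEquiv

/-- auxiliary -/
noncomputable def fiberModEquivAux₁ : (p.Fiber S) ⊗[S] N ≃ₗ[S] N ⊗[S] (p.Fiber S) :=
  TensorProduct.comm S (p.Fiber S) N

/-- auxiliary -/
noncomputable def fiberModEquivAux₂ :=
  TensorProduct.congr (LinearEquiv.refl S N) (fiberEquivAux (S := S) p)

/-- auxiliary -/
noncomputable def fiberModEquivAux₃ :=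
  TensorProduct.AlgebraTensorModule.cancelBaseChange R S S N p.ResidueField

/-- the fibre module `(κ(p) ⊗ S) ⊗_S N` is `N ⊗_R κ(p)`, `S`-linearly. -/
noncomputable def fiberModEquiv : FlatCA.fiberMod p S N ≃ₗ[S] N ⊗[R] p.ResidueField :=
  (fiberModEquivAux₁ (S := S) N p) ≪≫ₗ (fiberModEquivAux₂ (S := S) N p) ≪≫ₗ
    (fiberModEquivAux₃ (S := S) N p)

/-- An element acting injectively on the fibre module is regular on `N ⊗_R κ(p)`. -/
theorem isSMulRegular_tensor_residueField {s : S}
    (hs : ∀ z : FlatCA.fiberMod p S N, s • z = 0 → z = 0) :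
    IsSMulRegular (N ⊗[R] p.ResidueField) s := by
  intro w₁ w₂ h
  have h' : s • (w₁ - w₂) = 0 := by
    rw [smul_sub]; exact sub_eq_zero.mpr h
  have h2 : s • (fiberModEquiv (S := S) N p).symm (w₁ - w₂) = 0 := by
    rw [← map_smul, h', map_zero]
  have h3 := hs _ h2
  have h4 : w₁ - w₂ = 0 := (LinearEquiv.map_eq_zero_iff _).mp h3
  exact sub_eq_zero.mp h4

variable [Algebra.FiniteType R S]

instance isNoetherianRing_fiber_of_finiteType : IsNoetherianRing (p.Fiber S) :=
  Algebra.FiniteType.isNoetherianRing p.ResidueField _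

instance finite_fiberMod [Module.Finite S N] :
    Module.Finite (p.Fiber S) (FlatCA.fiberMod p S N) :=
  inferInstanceAs (Module.Finite (p.Fiber S) ((p.Fiber S) ⊗[S] N))

omit [Algebra.FiniteType R S] in
/-- a prime of the fibre ring is the extension of its contraction -/
theorem fiberIdeal_comap (P : Ideal (p.Fiber S)) [P.IsPrime] :
    FlatCA.fiberIdeal p (P.comap (algebraMap S (p.Fiber S))) = P := by
  apply le_antisymm
  · exact Ideal.map_comap_le
  · intro x hx
    obtain ⟨r, hr, s, hrs⟩ := Ideal.Fiber.exists_smul_eq_one_tmul p x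
    have h1 : (1 : p.ResidueField) ⊗ₜ[R] s ∈ P := by
      rw [← hrs]
      exact Submodule.smul_of_tower_mem P r hx
    have h2 : s ∈ P.comap (algebraMap S (p.Fiber S)) := h1
    have h3 : (1 : p.ResidueField) ⊗ₜ[R] s ∈
        FlatCA.fiberIdeal p (P.comap (algebraMap S (p.Fiber S))) :=
      Ideal.mem_map_of_mem _ h2
    have hu : IsUnit (algebraMap R p.ResidueField r) := by
      rw [isUnit_iff_ne_zero, Ne, Ideal.algebraMap_residueField_eq_zero]
      exact hr
    obtain ⟨c, hc⟩ := hu.exists_left_inv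
    have h4 : x = (c ⊗ₜ[R] (1 : S)) * (r • x) := by
      rw [Algebra.smul_def, ← mul_assoc]
      have : (c ⊗ₜ[R] (1 : S)) * algebraMap R (p.Fiber S) r = 1 := by
        rw [Algebra.TensorProduct.algebraMap_apply, Algebra.TensorProduct.tmul_mul_tmul, mul_one]
        rw [hc]; rfl
      rw [this, one_mul]
    rw [h4, hrs]
    exact Ideal.mul_mem_left _ _ h3

omit [Module R N] [IsScalarTower R S N] in
/-- prime avoidance in the fibre ring: an ideal of `S` not contained in the contraction of any
associated prime of the fibre module contains an element regular on the fibre module. -/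
theorem exists_mem_regular_of_forall_not_le [Module.Finite S N] (I : Ideal S)
    (hI : ∀ P ∈ associatedPrimes (p.Fiber S) (FlatCA.fiberMod p S N),
      ¬ I ≤ P.comap (algebraMap S (p.Fiber S))) :
    ∃ s ∈ I, ∀ z : FlatCA.fiberMod p S N, s • z = 0 → z = 0 := by
  classical
  have hfin := associatedPrimes.finite (p.Fiber S) (FlatCA.fiberMod p S N)
  have hnot : ¬ ((I : Set S) ⊆ ⋃ P ∈ ((hfin.toFinset : Finset (Ideal (p.Fiber S))) :
      Set (Ideal (p.Fiber S))),
      ((fun P : Ideal (p.Fiber S) => P.comap (algebraMap S (p.Fiber S))) P : Set S)) := by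
    intro hsub
    obtain ⟨P, hP, hle⟩ := (Ideal.subset_union_prime
      (f := fun P : Ideal (p.Fiber S) => P.comap (algebraMap S (p.Fiber S))) ⊥ ⊥
      (fun P hP _ _ => by
        have : P.IsPrime := (hfin.mem_toFinset.mp hP).1
        exact Ideal.comap_isPrime _ _)).mp hsub
    exact hI P (hfin.mem_toFinset.mp hP) hle
  rw [Set.not_subset] at hnot
  obtain ⟨s, hsI, hs⟩ := hnot
  refine ⟨s, hsI, ?_⟩
  intro z hz
  by_contra hz0
  apply hs
  have hU := biUnion_associatedPrimes_eq_zero_divisors (p.Fiber S) (FlatCA.fiberMod p S N)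
  have := Groth.Agent.H6.NzdFiber.isScalarTower_fiberMod (S := S) N p
  have hmem : algebraMap S (p.Fiber S) s ∈
      {r : p.Fiber S | ∃ x : FlatCA.fiberMod p S N, x ≠ 0 ∧ r • x = 0} :=
    ⟨z, hz0, by rw [algebraMap_smul]; exact hz⟩
  rw [← hU] at hmem
  simp only [Set.mem_iUnion, SetLike.mem_coe, exists_prop] at hmem
  obtain ⟨P, hP, hsP⟩ := hmem
  simp only [Set.mem_iUnion, SetLike.mem_coe, exists_prop]
  exact ⟨P, hfin.mem_toFinset.mpr hP, hsP⟩

end Groth.Agent.H32.FiberAss
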