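import Groth.Agent.H32.EquivOver

set_option autoImplicit false
open CategoryTheory
universe v₃ u₃ v₂ u₂ v u

namespace Groth.Agent.H32

variable {C : Type u} [Category.{v} C] {𝒳 : BasedCategory.{v₂, u₂} C} {𝒴 : BasedCategory.{v₃, u₃} C}

theorem fiberFunctor_faithful_of_faithful (G : 𝒳 ⥤ᵇ 𝒴) [G.toFunctor.Faithful] (U : C) :
    (FibCat.fiberFunctor G U).Faithful := by
  refine ⟨fun {X Y} φ ψ h => ?_⟩
  apply Functor.Fiber.hom_ext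
  apply G.toFunctor.map_injective
  exact congrArg Subtype.val h

theorem faithful_of_fiberFunctor_faithful (G : 𝒳 ⥤ᵇ 𝒴) (h𝒳 : FibCat.IsFibGrpd 𝒳.p)
    (h𝒴 : FibCat.IsFibGrpd 𝒴.p) (h : ∀ U : C, (FibCat.fiberFunctor G U).Faithful) :
    G.toFunctor.Faithful := by
  refine ⟨fun {a b} φ ψ hφψ => ?_⟩
  let f := 𝒳.p.map φ
  have h1 : 𝒴.p.IsHomLift f (G.map ψ) := by
    have : 𝒴.p.IsHomLift f (G.map φ) := inferInstance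
    have e : G.map φ = G.map ψ := hφψ
    rw [← e]; exact this
  have h2 : 𝒳.p.IsHomLift f ψ := BasedFunctor.isHomLift_map G f ψ
  have h3 : 𝒳.p.IsStronglyCartesian f ψ := isStronglyCartesian_of_fibGrpd 𝒳.p h𝒳 f ψ
  have h4 : 𝒴.p.IsStronglyCartesian f (G.map ψ) := isStronglyCartesian_of_fibGrpd 𝒴.p h𝒴 f _
  -- factor φ through ψ
  obtain ⟨χ, ⟨hχ, hχ'⟩, -⟩ :=
    Functor.IsStronglyCartesian.universal_property 𝒳.p f ψ (𝟙 (𝒳.p.obj a)) f (by simp) φ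
  have h5 : G.map χ = 𝟙 (G.obj a) := by
    have hGχ : 𝒴.p.IsHomLift (𝟙 (𝒳.p.obj a)) (G.map χ) := inferInstance
    have hid : 𝒴.p.IsHomLift (𝟙 (𝒳.p.obj a)) (𝟙 (G.obj a)) := inferInstance
    apply Functor.IsStronglyCartesian.ext 𝒴.p f (G.map ψ) (𝟙 (𝒳.p.obj a))
    rw [← G.map_comp, hχ', Category.id_comp]
    exact hφψ
  -- use faithfulness on the fibre
  let X : 𝒳.p.Fiber (𝒳.p.obj a) := ⟨a, rfl⟩
  let χ' : X ⟶ X := ⟨χ, hχ⟩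
  have h6 : χ' = 𝟙 X := by
    apply (h (𝒳.p.obj a)).map_injective
    apply Functor.Fiber.hom_ext
    change G.map χ = G.map (𝟙 a)
    rw [h5, G.map_id]
  have h7 : χ = 𝟙 a := congrArg Subtype.val h6
  rw [← hχ', h7, Category.id_comp]

theorem fiberFunctor_full_of_full_faithful (G : 𝒳 ⥤ᵇ 𝒴) [G.toFunctor.Full] [G.toFunctor.Faithful]
    (U : C) : (FibCat.fiberFunctor G U).Full := by
  refine ⟨fun {X Y} ψ => ?_⟩
  let φ : X.1 ⟶ Y.1 := G.toFunctor.preimage ψ.1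
  have hφ : G.map φ = ψ.1 := G.toFunctor.map_preimage ψ.1
  have h1 : 𝒴.p.IsHomLift (𝟙 U) (G.map φ) := by rw [hφ]; exact ψ.2
  have h2 : 𝒳.p.IsHomLift (𝟙 U) φ := BasedFunctor.isHomLift_map G (𝟙 U) φ
  refine ⟨⟨φ, h2⟩, ?_⟩
  apply Functor.Fiber.hom_ext
  exact hφ

theorem full_of_fiberFunctor_full (G : 𝒳 ⥤ᵇ 𝒴) (h𝒳 : FibCat.IsFibGrpd 𝒳.p)
    (h𝒴 : FibCat.IsFibGrpd 𝒴.p) (h : ∀ U : C, (FibCat.fiberFunctor G U).Full) :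
    G.toFunctor.Full := by
  refine ⟨fun {a b} ψ => ?_⟩
  -- the base morphism
  have ha : 𝒴.p.obj (G.obj a) = 𝒳.p.obj a := G.w_obj a
  have hb : 𝒴.p.obj (G.obj b) = 𝒳.p.obj b := G.w_obj b
  let f : 𝒳.p.obj a ⟶ 𝒳.p.obj b := eqToHom ha.symm ≫ 𝒴.p.map ψ ≫ eqToHom hb
  have hψ : 𝒴.p.IsHomLift f ψ := IsHomLift.of_fac 𝒴.p f ψ ha hb rfl
  obtain ⟨a', φ₀, hφ₀⟩ := h𝒳.exists_lift (x := b) f
  have h1 : 𝒴.p.IsHomLift f (G.map φ₀) := inferInstance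
  have h2 : 𝒴.p.IsStronglyCartesian f (G.map φ₀) := isStronglyCartesian_of_fibGrpd 𝒴.p h𝒴 f _
  obtain ⟨χ, ⟨hχ, hχ'⟩, -⟩ :=
    Functor.IsStronglyCartesian.universal_property 𝒴.p f (G.map φ₀) (𝟙 (𝒳.p.obj a)) f (by simp) ψ
  have ha' : 𝒳.p.obj a' = 𝒳.p.obj a := IsHomLift.domain_eq 𝒳.p f φ₀
  let X : 𝒳.p.Fiber (𝒳.p.obj a) := ⟨a, rfl⟩
  let X' : 𝒳.p.Fiber (𝒳.p.obj a) := ⟨a', ha'⟩
  let χ' : (FibCat.fiberFunctor G (𝒳.p.obj a)).obj X ⟶ (FibCat.fiberFunctor G (𝒳.p.obj a)).obj X' :=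
    ⟨χ, hχ⟩
  obtain ⟨χ₀, hχ₀⟩ := (h (𝒳.p.obj a)).map_surjective χ'
  have h3 : G.map χ₀.1 = χ := congrArg Subtype.val hχ₀
  refine ⟨χ₀.1 ≫ φ₀, ?_⟩
  rw [Functor.map_comp]
  change G.map χ₀.1 ≫ G.map φ₀ = ψ
  rw [h3, hχ']

end Groth.Agent.H32

namespace Groth.Agent.H32

variable {C : Type u} [Category.{v} C] {𝒳 : BasedCategory.{v₂, u₂} C} {𝒴 : BasedCategory.{v₃, u₃} C}

theorem fiberFunctor_essSurj_of_isEquivalence (G : 𝒳 ⥤ᵇ 𝒴) (h𝒳 : FibCat.IsFibGrpd 𝒳.p)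
    (h𝒴 : FibCat.IsFibGrpd 𝒴.p) [G.toFunctor.IsEquivalence] (U : C) :
    (FibCat.fiberFunctor G U).EssSurj := by
  refine ⟨fun Y => ?_⟩
  let x := G.toFunctor.objPreimage Y.1
  let θ : G.obj x ≅ Y.1 := G.toFunctor.objObjPreimageIso Y.1
  have hx : 𝒴.p.obj (G.obj x) = 𝒳.p.obj x := G.w_obj x
  let f : 𝒳.p.obj x ⟶ U := eqToHom hx.symm ≫ 𝒴.p.map θ.hom ≫ eqToHom Y.2
  have hθ : 𝒴.p.IsHomLift f θ.hom := IsHomLift.of_fac 𝒴.p f θ.hom hx Y.2 rfl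
  have hf : IsIso f := by dsimp only [f]; infer_instance
  obtain ⟨x', φ, hφ⟩ := h𝒳.exists_lift (x := x) (inv f)
  have hx' : 𝒳.p.obj x' = U := IsHomLift.domain_eq 𝒳.p (inv f) φ
  let X' : 𝒳.p.Fiber U := ⟨x', hx'⟩
  have h1 : 𝒴.p.IsHomLift (inv f) (G.map φ) := inferInstance
  have h2 : 𝒴.p.IsHomLift (𝟙 U) (G.map φ ≫ θ.hom) := by
    have := IsHomLift.comp 𝒴.p (inv f) f (G.map φ) θ.hom
    simpa using this
  let m : (FibCat.fiberFunctor G U).obj X' ⟶ Y := ⟨G.map φ ≫ θ.hom, h2⟩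
  have := isGroupoid_fiber_of_fibGrpd 𝒴.p h𝒴 U
  exact ⟨X', ⟨asIso m⟩⟩

theorem essSurj_of_fiberFunctor_essSurj (G : 𝒳 ⥤ᵇ 𝒴)
    (h : ∀ U : C, (FibCat.fiberFunctor G U).EssSurj) : G.toFunctor.EssSurj := by
  refine ⟨fun y => ?_⟩
  let Y : 𝒴.p.Fiber (𝒴.p.obj y) := ⟨y, rfl⟩
  obtain ⟨X, ⟨e⟩⟩ := (h (𝒴.p.obj y)).mem_essImage Y
  exact ⟨X.1, ⟨(Functor.Fiber.fiberInclusion (p := 𝒴.p) (S := 𝒴.p.obj y)).mapIso e⟩⟩

theorem isEquivalence_iff_fiberFunctor (G : 𝒳 ⥤ᵇ 𝒴) (h𝒳 : FibCat.IsFibGrpd 𝒳.p)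
    (h𝒴 : FibCat.IsFibGrpd 𝒴.p) :
    G.toFunctor.IsEquivalence ↔ ∀ U : C, (FibCat.fiberFunctor G U).IsEquivalence := by
  constructor
  · intro h U
    exact { faithful := fiberFunctor_faithful_of_faithful G U
            full := fiberFunctor_full_of_full_faithful G U
            essSurj := fiberFunctor_essSurj_of_isEquivalence G h𝒳 h𝒴 U }
  · intro h
    exact { faithful := faithful_of_fiberFunctor_faithful G h𝒳 h𝒴 (fun U => (h U).faithful)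
            full := full_of_fiberFunctor_full G h𝒳 h𝒴 (fun U => (h U).full)
            essSurj := essSurj_of_fiberFunctor_essSurj G (fun U => (h U).essSurj) }

end Groth.Agent.H32
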