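import Mathlib

/-!
# The section of `C_h ⊗ C → C_h` is cut out by an idempotent when `C_h` is unramified (helper32)

For an `A`-algebra `C`, `h : C` with `C_h` (essentially of finite type and) formally unramified over
`A`, the kernel of the multiplication map `σ : C_h ⊗[A] C → C_h` is idempotent; if moreover `C` is a
finitely presented `A`-algebra, it is generated by an idempotent element.
-/

set_option autoImplicit false
universe u
open scoped TensorProduct

namespace Groth.Agent.H32.FittEtale

variable {A C : Type u} [CommRing A] [CommRing C] [Algebra A C] (h : C)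

/-- the multiplication map `σ : C_h ⊗[A] C → C_h` -/
noncomputable def sigma :
    Localization.Away h ⊗[A] C →ₐ[Localization.Away h] Localization.Away h :=
  Algebra.TensorProduct.productLeftAlgHom (AlgHom.id _ _)
    (IsScalarTower.toAlgHom A C (Localization.Away h))

@[simp]
theorem sigma_tmul (x : Localization.Away h) (c : C) :
    sigma (A := A) h (x ⊗ₜ[A] c) = x * algebraMap C (Localization.Away h) c := rfl

theorem sigma_surjective : Function.Surjective (sigma (A := A) h) := fun x =>
  ⟨x ⊗ₜ[A] 1, by simp⟩

/-- the localization map `φ : C_h ⊗[A] C → C_h ⊗[A] C_h` -/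
noncomputable def phi :
    Localization.Away h ⊗[A] C →ₐ[Localization.Away h]
      Localization.Away h ⊗[A] Localization.Away h :=
  Algebra.TensorProduct.map (AlgHom.id _ _) (IsScalarTower.toAlgHom A C (Localization.Away h))

@[simp]
theorem phi_tmul (x : Localization.Away h) (c : C) :
    phi (A := A) h (x ⊗ₜ[A] c) = x ⊗ₜ[A] algebraMap C (Localization.Away h) c := rfl

theorem lmul'_phi (d : Localization.Away h ⊗[A] C) :
    Algebra.TensorProduct.lmul' A (phi (A := A) h d) = sigma (A := A) h d := by
  induction d using TensorProduct.induction_on with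
  | zero => simp
  | tmul x c => simp
  | add a b ha hb => simp only [map_add, ha, hb]

theorem exists_pow_mul_eq_phi (t : Localization.Away h ⊗[A] Localization.Away h) :
    ∃ (n : ℕ) (τ : Localization.Away h ⊗[A] C),
      ((1 : Localization.Away h) ⊗ₜ[A] algebraMap C (Localization.Away h) h) ^ n * t =
        phi (A := A) h τ := by
  induction t using TensorProduct.induction_on with
  | zero => exact ⟨0, 0, by simp⟩
  | tmul x y =>
    obtain ⟨⟨c, s⟩, hcs⟩ := IsLocalization.surj (Submonoid.powers h) y
    obtain ⟨n, hn⟩ := s.2
    refine ⟨n, x ⊗ₜ[A] c, ?_⟩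
    rw [phi_tmul, Algebra.TensorProduct.tmul_pow, one_pow, Algebra.TensorProduct.tmul_mul_tmul,
      one_mul, ← map_pow]
    congr 1
    rw [mul_comm]
    have : (s : C) = h ^ n := hn.symm
    rw [← this]
    exact hcs
  | add a b ha hb =>
    obtain ⟨n, τ, h1⟩ := ha
    obtain ⟨m, τ', h2⟩ := hb
    refine ⟨n + m, ((1 : Localization.Away h) ⊗ₜ[A] h) ^ m * τ +
      ((1 : Localization.Away h) ⊗ₜ[A] h) ^ n * τ', ?_⟩
    rw [map_add, map_mul, map_mul, map_pow, map_pow, phi_tmul, ← h1, ← h2]
    ring

theorem exists_pow_mul_eq_zero_of_phi_eq_zero (d : Localization.Away h ⊗[A] C)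
    (hd : phi (A := A) h d = 0) :
    ∃ m : ℕ, ((1 : Localization.Away h) ⊗ₜ[A] h) ^ m * d = 0 := by
  let g : C →ₗ[C] Localization.Away h := Algebra.linearMap C (Localization.Away h)
  let ψ : C ⊗[A] Localization.Away h →ₗ[C] Localization.Away h ⊗[A] Localization.Away h :=
    TensorProduct.AlgebraTensorModule.rTensor A (Localization.Away h) g
  haveI : IsLocalizedModule (Submonoid.powers h) ψ := inferInstance
  have h1 : ∀ d : Localization.Away h ⊗[A] C,
      ψ (TensorProduct.comm A (Localization.Away h) C d) =
        TensorProduct.comm A (Localization.Away h) (Localization.Away h) (phi (A := A) h d) := by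
    intro d
    induction d using TensorProduct.induction_on with
    | zero => simp
    | tmul x c => rfl
    | add a b ha hb => simp only [map_add, ha, hb]
  have h2 : ∀ (c : C) (y : C ⊗[A] Localization.Away h),
      (TensorProduct.comm A (Localization.Away h) C).symm (c • y) =
        ((1 : Localization.Away h) ⊗ₜ[A] c) *
          (TensorProduct.comm A (Localization.Away h) C).symm y := by
    intro c y
    induction y using TensorProduct.induction_on with
    | zero => simp
    | tmul c' x =>
      rw [TensorProduct.smul_tmul', TensorProduct.comm_symm_tmul, TensorProduct.comm_symm_tmul,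
        Algebra.TensorProduct.tmul_mul_tmul, one_mul, smul_eq_mul]
    | add a b ha hb => simp only [smul_add, map_add, ha, hb, mul_add]
  have h3 : ψ (TensorProduct.comm A (Localization.Away h) C d) = ψ 0 := by
    rw [h1, hd, map_zero, map_zero]
  obtain ⟨s, hs⟩ := IsLocalizedModule.exists_of_eq (S := Submonoid.powers h) h3
  obtain ⟨m, hm⟩ := s.2
  refine ⟨m, ?_⟩
  have h4 : (h ^ m) • (TensorProduct.comm A (Localization.Away h) C d) = 0 := by
    have : (s : C) • (TensorProduct.comm A (Localization.Away h) C d) =
        (s : C) • (0 : C ⊗[A] Localization.Away h) := hs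
    rw [smul_zero] at this
    have hs' : (s : C) = h ^ m := hm.symm
    rw [← hs']
    exact this
  have h5 := h2 (h ^ m) (TensorProduct.comm A (Localization.Away h) C d)
  rw [h4, map_zero, LinearEquiv.symm_apply_apply] at h5
  rw [Algebra.TensorProduct.tmul_pow, one_pow]
  exact h5.symm

theorem isIdempotentElem_ker_sigma [Algebra.EssFiniteType A (Localization.Away h)]
    [Algebra.FormallyUnramified A (Localization.Away h)] :
    IsIdempotentElem (RingHom.ker (sigma (A := A) h)) := by
  refine le_antisymm Ideal.mul_le_right ?_
  intro k hk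
  rw [RingHom.mem_ker] at hk
  let t := Algebra.FormallyUnramified.elem A (Localization.Away h)
  have hφk : phi (A := A) h k ∈ KaehlerDifferential.ideal A (Localization.Away h) := by
    rw [KaehlerDifferential.ideal, RingHom.mem_ker]
    exact (lmul'_phi h k).trans hk
  have ht : phi (A := A) h k * t = 0 := by
    rw [← KaehlerDifferential.span_range_eq_ideal] at hφk
    generalize phi (A := A) h k = y at hφk
    induction hφk using Submodule.span_induction with
    | mem x hx =>
      obtain ⟨s, rfl⟩ := hx
      exact Algebra.FormallyUnramified.one_tmul_sub_tmul_one_mul_elem (R := A)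
        (S := Localization.Away h) s
    | zero => rw [zero_mul]
    | add x y _ _ hx hy => rw [add_mul, hx, hy, add_zero]
    | smul a x _ hx => rw [smul_eq_mul, mul_assoc, hx, mul_zero]
  obtain ⟨n, τ, hτ⟩ := exists_pow_mul_eq_phi (A := A) h t
  have h1 : phi (A := A) h (τ * k) = 0 := by
    rw [map_mul, ← hτ, mul_assoc, mul_comm t, ht, mul_zero]
  obtain ⟨m, hm⟩ := exists_pow_mul_eq_zero_of_phi_eq_zero (A := A) h (τ * k) h1
  have hστ : sigma (A := A) h τ = (algebraMap C (Localization.Away h) h) ^ n := by
    rw [← lmul'_phi, ← hτ, map_mul, map_pow, Algebra.TensorProduct.lmul'_apply_tmul, one_mul,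
      Algebra.FormallyUnramified.lmul_elem, mul_one]
  obtain ⟨u, hu⟩ := ((IsLocalization.Away.algebraMap_isUnit (S := Localization.Away h) h).pow
    (m + n)).exists_left_inv
  let v : Localization.Away h ⊗[A] C :=
    algebraMap (Localization.Away h) (Localization.Away h ⊗[A] C) u *
      (((1 : Localization.Away h) ⊗ₜ[A] h) ^ m * τ)
  have hσv : sigma (A := A) h v = 1 := by
    rw [map_mul, AlgHom.commutes, map_mul, map_pow, sigma_tmul, one_mul, hστ, ← pow_add]
    exact hu
  have hvk : v * k = 0 := by
    rw [mul_assoc, mul_assoc, hm, mul_zero]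
  have hk' : k = (1 - v) * k := by
    rw [sub_mul, one_mul, hvk, sub_zero]
  rw [hk']
  refine Ideal.mul_mem_mul ?_ ?_
  · rw [RingHom.mem_ker, map_sub, map_one, hσv, sub_self]
  · rw [RingHom.mem_ker]
    exact hk

/-- If `C` is finitely presented over `A` and `C_h` is unramified over `A`, the kernel of
`σ : C_h ⊗[A] C → C_h` is generated by an idempotent. -/
theorem exists_idempotent_ker_sigma [Algebra.FinitePresentation A C]
    [Algebra.EssFiniteType A (Localization.Away h)]
    [Algebra.FormallyUnramified A (Localization.Away h)] :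
    ∃ e : Localization.Away h ⊗[A] C, IsIdempotentElem e ∧
      RingHom.ker (sigma (A := A) h) = Ideal.span {e} := by
  have hfg : (RingHom.ker (sigma (A := A) h).toRingHom).FG :=
    Algebra.FinitePresentation.ker_fG_of_surjective (sigma (A := A) h) (sigma_surjective h)
  exact (Ideal.isIdempotentElem_iff_of_fg _ hfg).mp (isIdempotentElem_ker_sigma h)

end Groth.Agent.H32.FittEtale
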