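import Mathlib
import Groth.Agent.Lead.Fitting
import Groth.Agent.Lead.FittingLoc
import Groth.Agent.H87.FittSum
import Groth.Prelude.Def_FlatCA

/-!
# Zeroth Fitting ideal of a finite algebra split by an idempotent (helper32)
-/

set_option autoImplicit false
universe u
open scoped TensorProduct

namespace Groth.Agent.H32.FittSplit

open Groth.Agent.Lead

theorem fittingZero_eq (R : Type u) [CommRing R] (M : Type u) [AddCommGroup M] [Module R M] :
    FlatCA.fittingZero R M = Fitt.ideal R M 0 := by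
  unfold FlatCA.fittingZero Fitt.ideal
  congr 1
  ext d
  constructor
  · rintro ⟨n, x, a, hx, hrel, rfl⟩
    exact ⟨n, x, a, hx, fun i _ => hrel i, rfl⟩
  · rintro ⟨n, x, a, hx, hrel, rfl⟩
    exact ⟨n, x, a, hx, fun i => hrel i (by simp), rfl⟩

variable {R X : Type u} [CommRing R] [CommRing X] [Algebra R X] [Module.Finite R X]

/-- If the finite `R`-algebra `X` has an idempotent `e` such that `X ⧸ (e) ≅ R ⧸ 𝔟`, then
`Fit₀(X) = 𝔟 * Fit₀(X ⧸ (1 - e))`. -/
theorem fitt_zero_eq_mul (𝔟 : Ideal R) (e : X) (he : IsIdempotentElem e) (θ : X →ₐ[R] R ⧸ 𝔟)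
    (hθ : Function.Surjective θ) (hker : RingHom.ker θ = Ideal.span {e}) :
    Fitt.ideal R X 0 = 𝔟 * Fitt.ideal R (X ⧸ Ideal.span {1 - e}) 0 := by
  let E := AlgEquiv.prodQuotientOfIsIdempotentElem R he he.one_sub (by ring)
    (by rw [mul_sub, mul_one, he.eq, sub_self])
  have h1 : Fitt.ideal R X 0 =
      Fitt.ideal R ((X ⧸ Ideal.span {e}) × (X ⧸ Ideal.span {1 - e})) 0 :=
    fitt_ideal_congr E.toLinearEquiv 0
  have h2 := Groth.Agent.H87.FittSum.fitt_prod R (X ⧸ Ideal.span {e}) (X ⧸ Ideal.span {1 - e}) 0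
  rw [Finset.sum_range_one, Nat.sub_zero] at h2
  let E1 : (X ⧸ Ideal.span {e}) ≃ₐ[R] R ⧸ 𝔟 :=
    (Ideal.quotientEquivAlgOfEq R hker.symm).trans (Ideal.quotientKerAlgEquivOfSurjective hθ)
  have h3 : Fitt.ideal R (X ⧸ Ideal.span {e}) 0 = 𝔟 := by
    rw [fitt_ideal_congr E1.toLinearEquiv 0, fitt_ideal_zero_quotient]
  rw [h1, h2, h3]

end Groth.Agent.H32.FittSplit
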