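import Mathlib
import Groth.Agent.H32.FittEtaleIdem
import Groth.Agent.H32.FittSplit

/-!
# Zeroth Fitting ideal of `C ⧸ J` over `A`, extended to the étale locus `C_h` (helper32)

`Fit₀_A(C ⧸ J) · C_h = J C_h · Fit₀_{C_h}(Q)` for a finite `C_h`-module `Q`.
-/

set_option autoImplicit false
universe u
open scoped TensorProduct

namespace Groth.Agent.H32.FittEtale

open Groth.Agent.Lead Groth.Agent.H32.FittSplit

variable {A C : Type u} [CommRing A] [CommRing C] [Algebra A C] (h : C)

section

variable (J : Ideal C)

/-- the reduction map `ρ : C_h ⊗[A] C → C_h ⊗[A] (C ⧸ J)` -/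
noncomputable def rho :
    Localization.Away h ⊗[A] C →ₐ[Localization.Away h] Localization.Away h ⊗[A] (C ⧸ J) :=
  Algebra.TensorProduct.map (AlgHom.id _ _) (Ideal.Quotient.mkₐ A J)

@[simp]
theorem rho_tmul (x : Localization.Away h) (c : C) :
    rho (A := A) h J (x ⊗ₜ[A] c) = x ⊗ₜ[A] Ideal.Quotient.mk J c := rfl

theorem rho_surjective : Function.Surjective (rho (A := A) h J) := by
  intro z
  induction z using TensorProduct.induction_on with
  | zero => exact ⟨0, map_zero _⟩
  | tmul x c =>
    obtain ⟨c, rfl⟩ := Ideal.Quotient.mk_surjective c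
    exact ⟨x ⊗ₜ[A] c, rfl⟩
  | add a b ha hb =>
    obtain ⟨a', rfl⟩ := ha
    obtain ⟨b', rfl⟩ := hb
    exact ⟨a' + b', map_add _ _ _⟩

theorem ker_rho : RingHom.ker (rho (A := A) h J) =
    J.map (Algebra.TensorProduct.includeRight :
      C →ₐ[A] Localization.Away h ⊗[A] C) := by
  have h1 := Algebra.TensorProduct.lTensor_ker (A := Localization.Away h)
    (Ideal.Quotient.mkₐ A J) (Ideal.Quotient.mkₐ_surjective A J)
  have h0 : RingHom.ker (Ideal.Quotient.mkₐ A J) = J := by
    ext x
    rw [RingHom.mem_ker]
    exact Ideal.Quotient.eq_zero_iff_mem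
  rw [h0] at h1
  rw [← h1]
  ext x
  rw [RingHom.mem_ker, RingHom.mem_ker]
  have : ∀ x : Localization.Away h ⊗[A] C, rho (A := A) h J x =
      Algebra.TensorProduct.map (AlgHom.id A (Localization.Away h)) (Ideal.Quotient.mkₐ A J) x := by
    intro x
    induction x using TensorProduct.induction_on with
    | zero => simp
    | tmul x c => rfl
    | add a b ha hb => simp only [map_add, ha, hb]
  rw [this]

theorem exists_mem_map_includeRight (y : Localization.Away h)
    (hy : y ∈ J.map (algebraMap C (Localization.Away h))) :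
    ∃ d' ∈ J.map (Algebra.TensorProduct.includeRight : C →ₐ[A] Localization.Away h ⊗[A] C),
      sigma (A := A) h d' = y := by
  unfold Ideal.map at hy
  induction hy using Submodule.span_induction with
  | mem x hx =>
    obtain ⟨j, hj, rfl⟩ := hx
    exact ⟨(1 : Localization.Away h) ⊗ₜ[A] j, Ideal.mem_map_of_mem _ hj, by simp⟩
  | zero => exact ⟨0, zero_mem _, map_zero _⟩
  | add x y _ _ hx hy =>
    obtain ⟨a, ha, rfl⟩ := hx
    obtain ⟨b, hb, rfl⟩ := hy
    exact ⟨a + b, add_mem ha hb, map_add _ _ _⟩
  | smul a x _ hx =>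
    obtain ⟨b, hb, rfl⟩ := hx
    refine ⟨(a ⊗ₜ[A] (1 : C)) * b, Ideal.mul_mem_left _ _ hb, ?_⟩
    rw [map_mul, sigma_tmul, map_one, mul_one, smul_eq_mul]

/-- the map `θ : C_h ⊗[A] (C ⧸ J) → C_h ⧸ J C_h` induced by multiplication -/
noncomputable def theta :
    Localization.Away h ⊗[A] (C ⧸ J) →ₐ[Localization.Away h]
      Localization.Away h ⧸ J.map (algebraMap C (Localization.Away h)) :=
  Algebra.TensorProduct.productLeftAlgHom
    (Ideal.Quotient.mkₐ (Localization.Away h) (J.map (algebraMap C (Localization.Away h))))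
    (Ideal.quotientMapₐ (J.map (algebraMap C (Localization.Away h)))
      (IsScalarTower.toAlgHom A C (Localization.Away h)) Ideal.le_comap_map)

theorem theta_rho (d : Localization.Away h ⊗[A] C) :
    theta (A := A) h J (rho (A := A) h J d) =
      Ideal.Quotient.mk (J.map (algebraMap C (Localization.Away h))) (sigma (A := A) h d) := by
  induction d using TensorProduct.induction_on with
  | zero => simp
  | tmul x c =>
    rw [rho_tmul, sigma_tmul, map_mul]
    rfl
  | add a b ha hb => simp only [map_add, ha, hb]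

theorem theta_surjective : Function.Surjective (theta (A := A) h J) := by
  intro y
  obtain ⟨x, rfl⟩ := Ideal.Quotient.mk_surjective y
  refine ⟨rho (A := A) h J (x ⊗ₜ[A] 1), ?_⟩
  rw [theta_rho, sigma_tmul, map_one, mul_one]

theorem ker_theta (e₀ : Localization.Away h ⊗[A] C)
    (hker : RingHom.ker (sigma (A := A) h) = Ideal.span {e₀}) :
    RingHom.ker (theta (A := A) h J) = Ideal.span {rho (A := A) h J e₀} := by
  apply le_antisymm
  · intro z hz
    obtain ⟨d, rfl⟩ := rho_surjective h J z
    rw [RingHom.mem_ker, theta_rho, Ideal.Quotient.eq_zero_iff_mem] at hz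
    obtain ⟨d', hd', hdd'⟩ := exists_mem_map_includeRight (A := A) h J _ hz
    have h2 : d - d' ∈ Ideal.span {e₀} := by
      rw [← hker, RingHom.mem_ker, map_sub, hdd', sub_self]
    obtain ⟨a, ha⟩ := Ideal.mem_span_singleton'.mp h2
    have h3 : rho (A := A) h J d' = 0 := by
      rw [← RingHom.mem_ker, ker_rho]
      exact hd'
    have h4 : rho (A := A) h J d = rho (A := A) h J a * rho (A := A) h J e₀ := by
      rw [← map_mul, ha, map_sub, h3, sub_zero]
    rw [h4]
    exact Ideal.mul_mem_left _ _ (Ideal.subset_span rfl)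
  · rw [Ideal.span_le, Set.singleton_subset_iff, SetLike.mem_coe, RingHom.mem_ker, theta_rho]
    have : e₀ ∈ RingHom.ker (sigma (A := A) h) := by
      rw [hker]
      exact Ideal.subset_span rfl
    rw [RingHom.mem_ker] at this
    rw [this, map_zero]

end

/-- **Main lemma.**  `Fit₀_A(C ⧸ J) · C_h = J C_h · J'`, with `J'` finitely generated when `C ⧸ J` is
a finitely presented `A`-module. -/
theorem exists_fitt_map_eq_mul [Module.Finite A C] [Algebra.FinitePresentation A C]
    [Algebra.EssFiniteType A (Localization.Away h)]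
    [Algebra.FormallyUnramified A (Localization.Away h)] (J : Ideal C) :
    ∃ J' : Ideal (Localization.Away h),
      (Fitt.ideal A (C ⧸ J) 0).map (algebraMap A (Localization.Away h)) =
        J.map (algebraMap C (Localization.Away h)) * J' ∧
      (Module.FinitePresentation A (C ⧸ J) → J'.FG) := by
  obtain ⟨e₀, he₀, hker⟩ := exists_idempotent_ker_sigma (A := A) h
  let e := rho (A := A) h J e₀
  have he : IsIdempotentElem e := he₀.map _
  haveI : Module.Finite (Localization.Away h) (Localization.Away h ⊗[A] (C ⧸ J)) := inferInstance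
  have h1 := fitt_zero_eq_mul (R := Localization.Away h)
    (X := Localization.Away h ⊗[A] (C ⧸ J)) (J.map (algebraMap C (Localization.Away h))) e he
    (theta h J) (theta_surjective h J) (ker_theta h J e₀ hker)
  have h2 := fitt_ideal_baseChange (R := A) (R' := Localization.Away h) (M := C ⧸ J) 0
  refine ⟨Fitt.ideal _ ((Localization.Away h ⊗[A] (C ⧸ J)) ⧸ Ideal.span {1 - e}) 0, ?_, ?_⟩
  · rw [← h2, h1]
  · intro hfp
    haveI : Module.FinitePresentation (Localization.Away h)
        (Localization.Away h ⊗[A] (C ⧸ J)) := inferInstance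
    let π : (Localization.Away h ⊗[A] (C ⧸ J)) →ₗ[Localization.Away h]
        (Localization.Away h ⊗[A] (C ⧸ J)) ⧸ Ideal.span {1 - e} :=
      (Ideal.Quotient.mkₐ (Localization.Away h) (Ideal.span {1 - e})).toLinearMap
    have hπ : Function.Surjective π :=
      Ideal.Quotient.mkₐ_surjective (Localization.Away h) (Ideal.span {1 - e})
    have hk : LinearMap.ker π =
        LinearMap.range (LinearMap.mulLeft (Localization.Away h) (1 - e)) := by
      ext x
      rw [LinearMap.mem_ker, LinearMap.mem_range]
      change Ideal.Quotient.mk _ x = 0 ↔ _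
      rw [Ideal.Quotient.eq_zero_iff_mem, Ideal.mem_span_singleton']
      constructor
      · rintro ⟨a, ha⟩
        exact ⟨a, by rw [LinearMap.mulLeft_apply, mul_comm, ha]⟩
      · rintro ⟨a, ha⟩
        exact ⟨a, by rw [← ha, LinearMap.mulLeft_apply, mul_comm]⟩
    have hfg : (LinearMap.ker π).FG := by
      rw [hk, LinearMap.range_eq_map]
      exact (Module.Finite.fg_top).map _
    haveI : Module.FinitePresentation (Localization.Away h)
        ((Localization.Away h ⊗[A] (C ⧸ J)) ⧸ Ideal.span {1 - e}) :=
      Module.finitePresentation_of_surjective π hπ hfg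
    exact fitt_ideal_fg 0

end Groth.Agent.H32.FittEtale
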