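import Mathlib
import Groth.Agent.H32.FittEtale

/-!
# Étale-local factorization of an ideal extended from the base (helper32)

For `A → B` étale, `J ⊆ B` finitely generated with `a ∈ √J`, and a prime `q` of `B`: there are a
finitely generated `I ⊆ A` with `a ∈ √I`, `g ∉ q` and a finitely generated `J' ⊆ B_g` with
`I B_g = J B_g · J'`.
-/

set_option autoImplicit false
set_option linter.style.haveILetI false
universe u
open scoped TensorProduct

namespace Groth.Agent.H32.FittEtale

open Groth.Agent.Lead Groth.Agent.H32.FittSplit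

/-- A finitely generated ideal of a localization is the extension of a finitely generated ideal. -/
theorem exists_fg_ideal_map_eq {R S : Type*} [CommRing R] [CommRing S] [Algebra R S]
    (M : Submonoid R) [IsLocalization M S] (J : Ideal S) (hJ : J.FG) :
    ∃ I : Ideal R, I.FG ∧ I.map (algebraMap R S) = J := by
  induction J, hJ using Submodule.fg_induction with
  | singleton y =>
    obtain ⟨⟨c, s⟩, hcs⟩ := IsLocalization.surj M y
    refine ⟨Ideal.span {c}, ⟨{c}, by simp⟩, ?_⟩
    rw [Ideal.map_span, Set.image_singleton, ← hcs]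
    exact Ideal.span_singleton_mul_right_unit (IsLocalization.map_units S s) y
  | sup J₁ J₂ _ _ h1 h2 =>
    obtain ⟨I₁, hI₁, rfl⟩ := h1
    obtain ⟨I₂, hI₂, rfl⟩ := h2
    exact ⟨I₁ ⊔ I₂, Submodule.FG.sup hI₁ hI₂, Ideal.map_sup _ _ _⟩

/-- `C ⧸ J` is a finitely presented `A`-module when `C` is finite and finitely presented over `A`
and `J` is finitely generated. -/
theorem finitePresentation_quotient {A C : Type*} [CommRing A] [CommRing C] [Algebra A C]
    [Module.Finite A C] [Module.FinitePresentation A C] (J : Ideal C) (hJ : J.FG) :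
    Module.FinitePresentation A (C ⧸ J) := by
  let π : C →ₗ[A] C ⧸ J := (Ideal.Quotient.mkₐ A J).toLinearMap
  have hπ : Function.Surjective π := Ideal.Quotient.mkₐ_surjective A J
  have hk : LinearMap.ker π = J.restrictScalars A := by
    ext x
    rw [LinearMap.mem_ker, Submodule.restrictScalars_mem]
    exact Ideal.Quotient.eq_zero_iff_mem
  have hfg : (LinearMap.ker π).FG := by
    rw [hk]
    haveI : Module.Finite C J := Module.Finite.iff_fg.mpr hJ
    haveI : Module.Finite A J := Module.Finite.trans C J
    exact Module.Finite.iff_fg.mp ‹Module.Finite A J›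
  exact Module.finitePresentation_of_surjective π hπ hfg

/-- The finite-free-with-étale-locus case. -/
theorem exists_ideal_map_eq_mul_of_finite {A C : Type u} [CommRing A] [CommRing C] [Algebra A C]
    [Module.Finite A C] [Module.FinitePresentation A C] (h : C)
    [Algebra.Etale A (Localization.Away h)] (a : A) (J₂ : Ideal (Localization.Away h))
    (hJ₂ : J₂.FG) (ha : algebraMap A (Localization.Away h) a ∈ J₂.radical) :
    ∃ (I : Ideal A) (J' : Ideal (Localization.Away h)), I.FG ∧ a ∈ I.radical ∧ J'.FG ∧
      I.map (algebraMap A (Localization.Away h)) = J₂ * J' := by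
  obtain ⟨m, hm⟩ := ha
  obtain ⟨J₀, hJ₀fg, hJ₀⟩ := exists_fg_ideal_map_eq (Submonoid.powers h) J₂ hJ₂
  let JC : Ideal C := J₀ ⊔ Ideal.span {algebraMap A C (a ^ m)}
  have hmap : JC.map (algebraMap C (Localization.Away h)) = J₂ := by
    rw [Ideal.map_sup, hJ₀, Ideal.map_span, Set.image_singleton, sup_eq_left, Ideal.span_le,
      Set.singleton_subset_iff, SetLike.mem_coe,
      ← IsScalarTower.algebraMap_apply A C (Localization.Away h), map_pow]
    exact hm
  have hfg : JC.FG := Submodule.FG.sup hJ₀fg ⟨{algebraMap A C (a ^ m)}, by simp⟩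
  haveI : Algebra.FinitePresentation A C := inferInstance
  obtain ⟨J', h1, h2⟩ := exists_fitt_map_eq_mul (A := A) h JC
  haveI hfp : Module.FinitePresentation A (C ⧸ JC) := finitePresentation_quotient JC hfg
  refine ⟨Fitt.ideal A (C ⧸ JC) 0, J', fitt_ideal_fg 0, ?_, h2 hfp, by rw [h1, hmap]⟩
  obtain ⟨n, x, hx⟩ := Module.Finite.exists_fin (R := A) (M := C ⧸ JC)
  have hr : a ^ m ∈ Module.annihilator A (C ⧸ JC) := by
    rw [Module.mem_annihilator]
    intro y
    obtain ⟨c, rfl⟩ := Ideal.Quotient.mk_surjective y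
    rw [← Ideal.Quotient.mkₐ_eq_mk A, ← map_smul, Ideal.Quotient.mkₐ_eq_mk,
      Ideal.Quotient.eq_zero_iff_mem, Algebra.smul_def]
    exact Ideal.mul_mem_right _ _ (Ideal.mem_sup_right (Ideal.subset_span rfl))
  refine ⟨m * n, ?_⟩
  rw [pow_mul]
  exact pow_mem_fitt_ideal_zero x hx hr

/-- **Étale-local factorization.** -/
theorem exists_ideal_mul_eq_extend {A B : Type u} [CommRing A] [CommRing B] [Algebra A B]
    [Algebra.Etale A B] (a : A) (J : Ideal B) (hJ : J.FG) (hJa : algebraMap A B a ∈ J.radical)
    (q : Ideal B) [q.IsPrime] :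
    ∃ (I : Ideal A) (g : B) (J' : Ideal (Localization.Away g)), I.FG ∧ a ∈ I.radical ∧ g ∉ q ∧
      J'.FG ∧ I.map (algebraMap A (Localization.Away g)) =
        J.map (algebraMap B (Localization.Away g)) * J' := by
  haveI : Algebra.FormallyEtale B (Localization.AtPrime q) :=
    Algebra.FormallyEtale.of_isLocalization q.primeCompl
  haveI : Algebra.IsEtaleAt A q := Algebra.FormallyEtale.comp A B _
  obtain ⟨f, hfq, hstd⟩ := Algebra.IsEtaleAt.exists_isStandardEtale (R := A) q
  let P : StandardEtalePresentation A (Localization.Away f) :=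
    hstd.nonempty_standardEtalePresentation.some
  let h : AdjoinRoot P.f := AdjoinRoot.mk P.f P.g
  let Ψ : Localization.Away f ≃ₐ[A] Localization.Away h :=
    P.equivRing.trans P.P.equivAwayAdjoinRoot
  haveI : Module.Finite A (AdjoinRoot P.f) := P.monic_f.finite_adjoinRoot
  haveI : Module.Free A (AdjoinRoot P.f) := P.monic_f.free_adjoinRoot
  haveI : Module.FinitePresentation A (AdjoinRoot P.f) :=
    Module.finitePresentation_of_projective A _
  haveI : Algebra.Etale A (Localization.Away h) := Algebra.Etale.of_equiv Ψ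
  let ψ : Localization.Away f →+* Localization.Away h := Ψ.toAlgHom.toRingHom
  let ψ' : Localization.Away h →+* Localization.Away f := Ψ.symm.toAlgHom.toRingHom
  have hψψ : ψ'.comp ψ = RingHom.id _ := RingHom.ext fun x => Ψ.symm_apply_apply x
  have hψA : ψ'.comp (algebraMap A (Localization.Away h)) = algebraMap A (Localization.Away f) :=
    RingHom.ext fun x => Ψ.symm.commutes x
  let J₁ := J.map (algebraMap B (Localization.Away f))
  have hJ₂ : (J₁.map ψ).FG := (hJ.map _).map _
  have ha : algebraMap A (Localization.Away h) a ∈ (J₁.map ψ).radical := by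
    obtain ⟨m, hm⟩ := hJa
    refine ⟨m, ?_⟩
    have h0 : algebraMap A (Localization.Away h) a ^ m =
        ψ (algebraMap B (Localization.Away f) ((algebraMap A B a) ^ m)) := by
      rw [map_pow, map_pow, ← IsScalarTower.algebraMap_apply A B (Localization.Away f)]
      change _ = (Ψ (algebraMap A (Localization.Away f) a)) ^ m
      rw [Ψ.commutes]
    rw [h0]
    exact Ideal.mem_map_of_mem _ (Ideal.mem_map_of_mem _ hm)
  obtain ⟨I, J'', hI, haI, hJ'', heq⟩ :=
    exists_ideal_map_eq_mul_of_finite h a (J₁.map ψ) hJ₂ ha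
  refine ⟨I, f, J''.map ψ', hI, haI, hfq, hJ''.map _, ?_⟩
  have h1 := congrArg (Ideal.map ψ') heq
  rw [Ideal.map_map, Ideal.map_mul, Ideal.map_map, hψψ, Ideal.map_id, hψA] at h1
  exact h1

end Groth.Agent.H32.FittEtale
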