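import Mathlib
import Groth.Agent.H71.FlatOver.StalkBC
import Groth.Agent.H1.FlatDescSub
import Groth.Agent.H70.FlatAtBC.Basic

/-!
# Descent of flatness at a prime along a flat local base change (helper32)

* `exists_prime_over_pushout`: in a pushout square of rings, two primes of `S` and `R'` with the
  same contraction to `R` come from a prime of `S'`.
* `flat_localizedModule_of_baseChange`: if `T_Q` is flat over `S` (`Q` over `q`) and the
  localization at `Q` of the base change of `M` is flat over `R`, then `M_q` is flat over `R`.
-/

set_option autoImplicit false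
set_option linter.style.haveILetI false
universe u
open scoped TensorProduct

namespace Groth.Agent.H32.FlatAtDescent

section Prime

variable {R S R' S' : Type u} [CommRing R] [CommRing S] [CommRing R'] [CommRing S']
  [Algebra R S] [Algebra R R'] [Algebra S S'] [Algebra R' S'] [Algebra R S'] [IsScalarTower R S S']
  [IsScalarTower R R' S'] [Algebra.IsPushout R S R' S']

theorem exists_prime_over_pushout (q : Ideal S) [q.IsPrime] (p' : Ideal R') [p'.IsPrime]
    (h : q.comap (algebraMap R S) = p'.comap (algebraMap R R')) :
    ∃ (Q : Ideal S') (_ : Q.IsPrime), Q.comap (algebraMap S S') = q ∧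
      Q.comap (algebraMap R' S') = p' := by
  let e : S ⊗[R] R' ≃ₐ[S] S' := Algebra.IsPushout.equiv R S R' S'
  obtain ⟨Q₀, hQ1, hQ2⟩ := Groth.Agent.H1.FlatDescSub.exists_prime_tensorProduct R S R'
    ⟨q, inferInstance⟩ ⟨p', inferInstance⟩ (PrimeSpectrum.ext h)
  refine ⟨Q₀.asIdeal.comap (e.symm : S' →+* S ⊗[R] R'), inferInstance, ?_, ?_⟩
  · rw [Ideal.comap_comap]
    have h1 : ((e.symm : S' →+* S ⊗[R] R')).comp (algebraMap S S') =
        algebraMap S (S ⊗[R] R') := RingHom.ext fun s => e.symm.commutes s
    rw [h1]
    exact congrArg PrimeSpectrum.asIdeal hQ1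
  · rw [Ideal.comap_comap]
    have h1 : ((e.symm : S' →+* S ⊗[R] R')).comp (algebraMap R' S') =
        (Algebra.TensorProduct.includeRight (R := R) (A := S) (B := R')).toRingHom := by
      refine RingHom.ext fun r => ?_
      change e.symm (algebraMap R' S' r) = (1 : S) ⊗ₜ[R] r
      rw [AlgEquiv.symm_apply_eq]
      change _ = Algebra.IsPushout.equiv R S R' S' ((1 : S) ⊗ₜ[R] r)
      rw [Algebra.IsPushout.equiv_tmul, map_one, one_mul]
    rw [h1]
    exact congrArg PrimeSpectrum.asIdeal hQ2

/-- In a pushout square, if `R'_{p'}` is flat over `R` and `Q` lies over `p'`, then `S'_Q` is flat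
over `S`. -/
theorem flat_localization_of_pushout (Q : Ideal S') [Q.IsPrime]
    (h : Module.Flat R (Localization.AtPrime (Q.comap (algebraMap R' S')))) :
    Module.Flat S (Localization.AtPrime Q) := by
  haveI : Algebra.IsPushout R R' S S' := Algebra.IsPushout.symm inferInstance
  have h1 : Module.Flat R (LocalizedModule (Q.comap (algebraMap R' S')).primeCompl R') := h
  have h2 : Module.Flat S
      (S ⊗[R] LocalizedModule (Q.comap (algebraMap R' S')).primeCompl R') := inferInstance
  have h3 : Module.Flat S (LocalizedModule Q.primeCompl S') :=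
    Groth.Agent.H70.FlatAtBC.flat_localizedModule_of_flat_tensor (R := R) (S := R') (R' := S)
      (S' := S') (M := R') (M' := S') (Algebra.linearMap R' S') (IsBaseChange.linearMap R' S') Q h2
  exact h3

end Prime

section Desc

variable {R S T : Type u} [CommRing R] [CommRing S] [CommRing T] [Algebra R S] [Algebra S T]
  [Algebra R T] [IsScalarTower R S T]
  {M N : Type u} [AddCommGroup M] [Module S M] [Module R M] [IsScalarTower R S M]
  [AddCommGroup N] [Module T N] [Module S N] [IsScalarTower S T N] [Module R N]
  [IsScalarTower R T N]

/-- If `Q` lies over `q`, `T_Q` is flat over `S`, and the localization at `Q` of the base change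
`N = T ⊗_S M` is flat over `R`, then `M_q` is flat over `R`. -/
theorem flat_localizedModule_of_baseChange (f : M →ₗ[S] N) (hf : IsBaseChange T f)
    (q : Ideal S) [q.IsPrime] (Q : Ideal T) [Q.IsPrime] [Q.LiesOver q]
    [Module.Flat S (Localization.AtPrime Q)]
    (h : Module.Flat R (LocalizedModule Q.primeCompl N)) :
    Module.Flat R (LocalizedModule q.primeCompl M) := by
  letI : Algebra (Localization.AtPrime q) (Localization.AtPrime Q) :=
    Localization.AtPrime.algebraOfLiesOver q Q
  haveI : IsScalarTower S (Localization.AtPrime q) (Localization.AtPrime Q) := inferInstance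
  haveI : IsScalarTower R (Localization.AtPrime q) (Localization.AtPrime Q) := inferInstance
  haveI : IsScalarTower S (Localization.AtPrime Q) (LocalizedModule Q.primeCompl N) :=
    ⟨fun s x m => by
      rw [← algebraMap_smul T s x, ← algebraMap_smul T s (x • m), smul_assoc]⟩
  haveI : IsScalarTower R (Localization.AtPrime Q) (LocalizedModule Q.primeCompl N) :=
    ⟨fun s x m => by
      rw [← algebraMap_smul T s x, ← algebraMap_smul T s (x • m), smul_assoc]⟩
  haveI : Module.Flat (Localization.AtPrime q) (Localization.AtPrime Q) :=
    (Module.flat_iff_of_isLocalization (Localization.AtPrime q) q.primeCompl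
      (Localization.AtPrime Q)).mpr inferInstance
  haveI : IsLocalHom (algebraMap (Localization.AtPrime q) (Localization.AtPrime Q)) :=
    Localization.isLocalHom_localRingHom q Q (algebraMap S T) Ideal.LiesOver.over
  haveI : Module.FaithfullyFlat (Localization.AtPrime q) (Localization.AtPrime Q) :=
    Module.FaithfullyFlat.of_flat_of_isLocalHom
  let gN := LocalizedModule.mkLinearMap q.primeCompl M
  let gQ : T ⊗[S] M →ₗ[T] LocalizedModule Q.primeCompl N :=
    (LocalizedModule.mkLinearMap Q.primeCompl N) ∘ₗ hf.equiv.toLinearMap
  haveI : IsLocalizedModule Q.primeCompl gQ := IsLocalizedModule.of_linearEquiv_right _ _ hf.equiv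
  let e := Groth.Agent.H71.FlatOver.stalkBaseChangeEquiv (A := S) (B := T)
    (Aq := Localization.AtPrime q) (Bp := Localization.AtPrime Q) q.primeCompl Q.primeCompl gN gQ
  exact Groth.Agent.H71.FlatOver.flat_of_equiv_baseChange_of_faithfullyFlat (R := R) e

end Desc

section Trans

variable {R R' T : Type u} [CommRing R] [CommRing R'] [CommRing T] [Algebra R R'] [Algebra R' T]
  [Algebra R T] [IsScalarTower R R' T]
  {N : Type u} [AddCommGroup N] [Module T N] [Module R' N] [IsScalarTower R' T N] [Module R N]
  [IsScalarTower R T N]

/-- If `Q` lies over `p'`, `R'_{p'}` is flat over `R` and `N_Q` is flat over `R'`, then `N_Q` is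
flat over `R`. -/
theorem flat_localizedModule_trans (p' : Ideal R') [p'.IsPrime] (Q : Ideal T) [Q.IsPrime]
    [Q.LiesOver p'] [Module.Flat R (Localization.AtPrime p')]
    (h : Module.Flat R' (LocalizedModule Q.primeCompl N)) :
    Module.Flat R (LocalizedModule Q.primeCompl N) := by
  letI : Algebra (Localization.AtPrime p') (Localization.AtPrime Q) :=
    Localization.AtPrime.algebraOfLiesOver p' Q
  letI : Module (Localization.AtPrime p') (LocalizedModule Q.primeCompl N) :=
    Module.compHom _ (algebraMap (Localization.AtPrime p') (Localization.AtPrime Q))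
  haveI : IsScalarTower R (Localization.AtPrime Q) (LocalizedModule Q.primeCompl N) :=
    ⟨fun s x m => by
      rw [← algebraMap_smul T s x, ← algebraMap_smul T s (x • m), smul_assoc]⟩
  haveI : IsScalarTower R' (Localization.AtPrime p') (LocalizedModule Q.primeCompl N) :=
    IsScalarTower.of_algebraMap_smul fun r m => by
      change algebraMap (Localization.AtPrime p') (Localization.AtPrime Q)
        (algebraMap R' _ r) • m = r • m
      rw [← IsScalarTower.algebraMap_apply R' (Localization.AtPrime p') (Localization.AtPrime Q),
        algebraMap_smul]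
  haveI : IsScalarTower R (Localization.AtPrime p') (LocalizedModule Q.primeCompl N) :=
    IsScalarTower.of_algebraMap_smul fun r m => by
      change algebraMap (Localization.AtPrime p') (Localization.AtPrime Q)
        (algebraMap R _ r) • m = r • m
      rw [← IsScalarTower.algebraMap_apply R (Localization.AtPrime p') (Localization.AtPrime Q),
        algebraMap_smul]
  haveI : Module.Flat (Localization.AtPrime p') (LocalizedModule Q.primeCompl N) :=
    (Module.flat_iff_of_isLocalization (Localization.AtPrime p') p'.primeCompl _).mpr h
  exact Module.Flat.trans R (Localization.AtPrime p') _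

end Trans

end Groth.Agent.H32.FlatAtDescent
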