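import Mathlib

set_option autoImplicit false
universe u
open TensorProduct LinearMap

namespace Groth.Agent.H32

section
variable {R : Type*} [CommRing R]
variable {M₁ M₂ M₃ Q₁ Q₂ Q₃ : Type*}
  [AddCommGroup M₁] [Module R M₁] [AddCommGroup M₂] [Module R M₂] [AddCommGroup M₃] [Module R M₃]
  [AddCommGroup Q₁] [Module R Q₁] [AddCommGroup Q₂] [Module R Q₂] [AddCommGroup Q₃] [Module R Q₃]

/-- A 3×3 diagram chase for tensor products. -/
theorem rTensor_injective_of_three_by_three
    (f : M₁ →ₗ[R] M₂) (g : M₂ →ₗ[R] M₃) (a : Q₁ →ₗ[R] Q₂) (b : Q₂ →ₗ[R] Q₃)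
    (hfg : Function.Exact f g) (hg : Function.Surjective g)
    (hab : Function.Exact a b) (hb : Function.Surjective b)
    (h1 : Function.Injective (a.lTensor M₃)) (h2 : Function.Injective (f.rTensor Q₂)) :
    Function.Injective (f.rTensor Q₃) := by
  rw [injective_iff_map_eq_zero]
  intro x hx
  obtain ⟨y, rfl⟩ := LinearMap.lTensor_surjective M₁ hb x
  have hy' : b.lTensor M₂ (f.rTensor Q₂ y) = 0 := by
    rw [← LinearMap.comp_apply, LinearMap.lTensor_comp_rTensor, ← LinearMap.rTensor_comp_lTensor]
    exact hx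
  obtain ⟨z, hz⟩ := (lTensor_exact M₂ hab hb _).1 hy'
  have hz' : g.rTensor Q₁ z = 0 := by
    apply h1
    rw [map_zero, ← LinearMap.comp_apply, LinearMap.lTensor_comp_rTensor,
      ← LinearMap.rTensor_comp_lTensor, LinearMap.comp_apply, hz, ← LinearMap.comp_apply,
      ← LinearMap.rTensor_comp, hfg.linearMap_comp_eq_zero, LinearMap.rTensor_zero]
    rfl
  obtain ⟨w, hw⟩ := (rTensor_exact Q₁ hfg hg _).1 hz'
  have hwy : a.lTensor M₁ w = y := by
    apply h2
    rw [← LinearMap.comp_apply, LinearMap.rTensor_comp_lTensor, ← LinearMap.lTensor_comp_rTensor,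
      LinearMap.comp_apply, hw, hz]
  rw [← hwy, ← LinearMap.comp_apply, ← LinearMap.lTensor_comp, hab.linearMap_comp_eq_zero,
    LinearMap.lTensor_zero]
  rfl

/-- The mirrored version. -/
theorem lTensor_injective_of_three_by_three
    (f : M₁ →ₗ[R] M₂) (g : M₂ →ₗ[R] M₃) (a : Q₁ →ₗ[R] Q₂) (b : Q₂ →ₗ[R] Q₃)
    (hfg : Function.Exact f g) (hg : Function.Surjective g)
    (hab : Function.Exact a b) (hb : Function.Surjective b)
    (h1 : Function.Injective (a.rTensor M₃)) (h2 : Function.Injective (f.lTensor Q₂)) :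
    Function.Injective (f.lTensor Q₃) := by
  have h1' : Function.Injective (a.lTensor M₃) := by
    have : a.lTensor M₃ = (TensorProduct.comm R Q₂ M₃).toLinearMap ∘ₗ a.rTensor M₃ ∘ₗ
        (TensorProduct.comm R M₃ Q₁).toLinearMap := by
      ext; simp
    rw [this]
    exact (TensorProduct.comm R Q₂ M₃).injective.comp
      (h1.comp (TensorProduct.comm R M₃ Q₁).injective)
  have h2' : Function.Injective (f.rTensor Q₂) := by
    have : f.rTensor Q₂ = (TensorProduct.comm R Q₂ M₂).toLinearMap ∘ₗ f.lTensor Q₂ ∘ₗ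
        (TensorProduct.comm R M₁ Q₂).toLinearMap := by
      ext; simp
    rw [this]
    exact (TensorProduct.comm R Q₂ M₂).injective.comp
      (h2.comp (TensorProduct.comm R M₁ Q₂).injective)
  have h3 := rTensor_injective_of_three_by_three f g a b hfg hg hab hb h1' h2'
  have : f.lTensor Q₃ = (TensorProduct.comm R M₂ Q₃).toLinearMap ∘ₗ f.rTensor Q₃ ∘ₗ
      (TensorProduct.comm R Q₃ M₁).toLinearMap := by
    ext; simp
  rw [this]
  exact (TensorProduct.comm R M₂ Q₃).injective.comp
    (h3.comp (TensorProduct.comm R Q₃ M₁).injective)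

/-- Key lemma: a short exact sequence with flat cokernel stays left exact after tensoring. -/
theorem rTensor_injective_of_flat_coker
    (f : M₁ →ₗ[R] M₂) (g : M₂ →ₗ[R] M₃) (hf : Function.Injective f)
    (hfg : Function.Exact f g) (hg : Function.Surjective g) [Module.Flat R M₃]
    (Q : Type*) [AddCommGroup Q] [Module R Q] :
    Function.Injective (f.rTensor Q) := by
  -- free presentation of Q
  have hπ : Function.Surjective (Finsupp.linearCombination R (_root_.id : Q → Q)) :=
    Finsupp.linearCombination_id_surjective R Q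
  have hιπ : Function.Exact (LinearMap.ker (Finsupp.linearCombination R (_root_.id : Q → Q))).subtype
      (Finsupp.linearCombination R (_root_.id : Q → Q)) := LinearMap.exact_subtype_ker_map _
  refine rTensor_injective_of_three_by_three
    (Q₁ := LinearMap.ker (Finsupp.linearCombination R (_root_.id : Q → Q))) (Q₂ := Q →₀ R) f g
    (LinearMap.ker (Finsupp.linearCombination R (_root_.id : Q → Q))).subtype
    (Finsupp.linearCombination R (_root_.id : Q → Q)) hfg hg hιπ hπ ?_ ?_
  · exact Module.Flat.lTensor_preserves_injective_linearMap _ (Submodule.injective_subtype _)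
  · exact Module.Flat.rTensor_preserves_injective_linearMap f hf

theorem lTensor_injective_of_flat_coker
    (f : M₁ →ₗ[R] M₂) (g : M₂ →ₗ[R] M₃) (hf : Function.Injective f)
    (hfg : Function.Exact f g) (hg : Function.Surjective g) [Module.Flat R M₃]
    (Q : Type*) [AddCommGroup Q] [Module R Q] :
    Function.Injective (f.lTensor Q) := by
  have h3 := rTensor_injective_of_flat_coker f g hf hfg hg Q
  have : f.lTensor Q = (TensorProduct.comm R M₂ Q).toLinearMap ∘ₗ f.rTensor Q ∘ₗ
      (TensorProduct.comm R Q M₁).toLinearMap := by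
    ext; simp
  rw [this]
  exact (TensorProduct.comm R M₂ Q).injective.comp
    (h3.comp (TensorProduct.comm R Q M₁).injective)

end

end Groth.Agent.H32
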