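import Mathlib
import Groth.Prelude.Def_FlatCA
import Groth.Agent.H32.ThreeByThree

/-!
# Universal injectivity of multiplication by elements regular on the closed fibre (helper32)

General lemmas used for Stacks 05FS / 05FT style statements.
-/

set_option autoImplicit false
universe u

open TensorProduct IsLocalRing

namespace Groth.Agent.H32.NzdUnivInj

attribute [local instance] Algebra.TensorProduct.rightAlgebra

section general

variable {S : Type*} [CommRing S] {F : Type*} [CommRing F] [Algebra S F]
  {N : Type*} [AddCommGroup N] [Module S N]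

/-- For a surjective algebra `S → F`: `1 ⊗ x = 0` in `F ⊗_S N` iff `x ∈ (ker) • N`. -/
theorem one_tmul_eq_zero_iff_of_surjective (hF : Function.Surjective (algebraMap S F)) (x : N) :
    (1 : F) ⊗ₜ[S] x = 0 ↔ x ∈ (RingHom.ker (algebraMap S F)) • (⊤ : Submodule S N) := by
  set I : Ideal S := RingHom.ker (algebraMap S F) with hI
  have hex : Function.Exact (Submodule.subtype I : I →ₗ[S] S) (Algebra.linearMap S F) := by
    intro y
    constructor
    · intro hy
      exact ⟨⟨y, hy⟩, rfl⟩
    · rintro ⟨z, rfl⟩
      exact z.2
  have hsurj : Function.Surjective (Algebra.linearMap S F) := hF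
  have hex' := rTensor_exact N hex hsurj
  have h1 : (Algebra.linearMap S F).rTensor N ((1 : S) ⊗ₜ[S] x) = (1 : F) ⊗ₜ[S] x := by
    simp
  constructor
  · intro h
    rw [← h1] at h
    obtain ⟨y, hy⟩ := (hex' _).mp h
    have hy' : x = TensorProduct.lid S N ((Submodule.subtype I).rTensor N y) := by
      rw [hy]; simp
    rw [hy']
    clear hy hy' h
    induction y using TensorProduct.induction_on with
    | zero => simp
    | tmul a n =>
      simp only [LinearMap.rTensor_tmul, Submodule.subtype_apply, TensorProduct.lid_tmul]
      exact Submodule.smul_mem_smul a.2 Submodule.mem_top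
    | add y z hy hz =>
      rw [map_add, map_add]
      exact add_mem hy hz
  · intro h
    refine Submodule.smul_induction_on h ?_ ?_
    · intro a ha n _
      have : (1 : F) ⊗ₜ[S] (a • n) = (a • (1 : F)) ⊗ₜ[S] n := by
        rw [TensorProduct.smul_tmul]
      rw [this, Algebra.smul_def, mul_one]
      have ha' : algebraMap S F a = 0 := ha
      rw [ha', TensorProduct.zero_tmul]
    · intro y z hy hz
      rw [TensorProduct.tmul_add, hy, hz, add_zero]

end general

section fiber

variable {R S : Type u} [CommRing R] [CommRing S] [Algebra R S]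

/-- The kernel of `S → κ(p) ⊗_R S` for a maximal ideal `p` is `pS`. -/
theorem ker_algebraMap_fiber (p : Ideal R) [p.IsMaximal] :
    RingHom.ker (algebraMap S (p.Fiber S)) = p.map (algebraMap R S) := by
  apply le_antisymm
  · intro s hs
    have hs' : (1 : p.ResidueField) ⊗ₜ[R] s = 0 := hs
    -- `κ ≃ R/p`
    let e₁ : (R ⧸ p) ≃ₗ[R] p.ResidueField :=
      LinearEquiv.ofBijective (Algebra.linearMap (R ⧸ p) p.ResidueField |>.restrictScalars R)
        p.bijective_algebraMap_quotient_residueField
    let e₂ : p.ResidueField ⊗[R] S ≃ₗ[R] (R ⧸ p) ⊗[R] S :=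
      TensorProduct.congr e₁.symm (LinearEquiv.refl R S)
    let e₃ : (R ⧸ p) ⊗[R] S ≃ₗ[R] S ⧸ (p • ⊤ : Submodule R S) :=
      TensorProduct.quotTensorEquivQuotSMul S p
    have h1 : e₁.symm (1 : p.ResidueField) = (1 : R ⧸ p) := by
      rw [LinearEquiv.symm_apply_eq]
      simp [e₁]
    have h2 : e₃ (e₂ ((1 : p.ResidueField) ⊗ₜ[R] s)) = Submodule.Quotient.mk s := by
      simp only [e₂, TensorProduct.congr_tmul, h1, LinearEquiv.refl_apply, e₃]
      have h1' : (1 : R ⧸ p) = Ideal.Quotient.mk p 1 := rfl
      rw [h1']
      exact TensorProduct.quotTensorEquivQuotSMul_mk_tmul _ _ _ |>.trans (by simp)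
    rw [hs', map_zero, map_zero] at h2
    have h3 : s ∈ (p • ⊤ : Submodule R S) := (Submodule.Quotient.mk_eq_zero _).mp h2.symm
    rw [Ideal.smul_top_eq_map] at h3
    exact h3
  · rw [Ideal.map_le_iff_le_comap]
    intro r hr
    change algebraMap S (p.Fiber S) (algebraMap R S r) = 0
    change (1 : p.ResidueField) ⊗ₜ[R] (algebraMap R S r) = 0
    rw [Algebra.algebraMap_eq_smul_one, ← TensorProduct.smul_tmul, Algebra.smul_def, mul_one]
    have : algebraMap R p.ResidueField r = 0 := by
      rw [Ideal.algebraMap_residueField_eq_zero]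
      exact hr
    rw [this, TensorProduct.zero_tmul]

variable (N : Type u) [AddCommGroup N] [Module S N] [Module R N] [IsScalarTower R S N]

theorem algebraMap_fiber_surjective (p : Ideal R) [p.IsMaximal] :
    Function.Surjective (algebraMap S (p.Fiber S)) :=
  TensorProduct.mk_surjective _ _ _ (Ideal.algebraMap_residueField_surjective _)

omit [Module R N] [IsScalarTower R S N] in
/-- `1 ⊗ x = 0` in the fibre module over a maximal ideal iff `x ∈ pS • N`. -/
theorem one_tmul_fiberMod_eq_zero_iff (p : Ideal R) [p.IsMaximal] (x : N) :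
    ((1 : p.Fiber S) ⊗ₜ[S] x : (p.Fiber S) ⊗[S] N) = 0 ↔
      x ∈ (p.map (algebraMap R S)) • (⊤ : Submodule S N) := by
  rw [one_tmul_eq_zero_iff_of_surjective (algebraMap_fiber_surjective p), ker_algebraMap_fiber]

variable [IsLocalRing R]

omit [Module R N] [IsScalarTower R S N] in
/-- Elements of `nzdFiber` reflect membership in `𝔪S • N`. -/
theorem mem_smul_top_of_smul_mem_of_mem_nzdFiber [Module R N] [IsScalarTower R S N]
    {s : S} (hs : s ∈ FlatCA.nzdFiber R S N) (x : N)
    (hx : s • x ∈ ((maximalIdeal R).map (algebraMap R S)) • (⊤ : Submodule S N)) :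
    x ∈ ((maximalIdeal R).map (algebraMap R S)) • (⊤ : Submodule S N) := by
  rw [← one_tmul_fiberMod_eq_zero_iff] at hx ⊢
  have hs' := (mem_nonZeroSMulDivisors_iff.mp hs)
    (((1 : (maximalIdeal R).Fiber S) ⊗ₜ[S] x : ((maximalIdeal R).Fiber S) ⊗[S] N))
  apply hs'
  change s • ((1 : (maximalIdeal R).Fiber S) ⊗ₜ[S] x : ((maximalIdeal R).Fiber S) ⊗[S] N) = 0
  rw [← TensorProduct.tmul_smul]
  exact hx

end fiber

section univInj

variable {R : Type u} [CommRing R]

/-- An injective map with flat cokernel is universally injective. -/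
theorem univInj_of_injective_of_flat_coker {M N : Type u} [AddCommGroup M] [Module R M]
    [AddCommGroup N] [Module R N] (f : M →ₗ[R] N) (hf : Function.Injective f)
    (hfl : Module.Flat R (N ⧸ LinearMap.range f)) : FlatCA.UnivInj R f := by
  intro Q _ _
  exact Groth.Agent.H32.lTensor_injective_of_flat_coker f (LinearMap.range f).mkQ hf
    (LinearMap.exact_map_mkQ_range f) (Submodule.mkQ_surjective _) Q

variable {S : Type u} [CommRing S] [Algebra R S]
  (N : Type u) [AddCommGroup N] [Module S N] [Module R N] [IsScalarTower R S N]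

/-- If every element of a submonoid `T ⊆ S` acts `R`-universally injectively on `N` then
`N → T⁻¹N` is `R`-universally injective. -/
theorem univInj_mkLinearMap (T : Submonoid S)
    (h : ∀ s ∈ T, FlatCA.UnivInj R ((LinearMap.lsmul S N s).restrictScalars R)) :
    FlatCA.UnivInj R ((LocalizedModule.mkLinearMap T N).restrictScalars R) := by
  intro Q _ _
  have hloc : IsLocalizedModule T
      (AlgebraTensorModule.rTensor R Q (LocalizedModule.mkLinearMap T N)) := inferInstance
  -- injectivity of rTensor
  have hr : Function.Injective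
      (AlgebraTensorModule.rTensor R Q (LocalizedModule.mkLinearMap T N)) := by
    rw [injective_iff_map_eq_zero]
    intro z hz
    obtain ⟨c, hc⟩ := (IsLocalizedModule.eq_zero_iff T _).mp hz
    have hc' : ((LinearMap.lsmul S N c.1).restrictScalars R).rTensor Q z = 0 := by
      rw [← hc]
      clear hc hz
      induction z using TensorProduct.induction_on with
      | zero => simp
      | tmul n q =>
        simp only [LinearMap.rTensor_tmul, LinearMap.coe_restrictScalars, LinearMap.lsmul_apply]
        rfl
      | add y z hy hz => rw [map_add, smul_add, hy, hz]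
    have hinj : Function.Injective (((LinearMap.lsmul S N c.1).restrictScalars R).rTensor Q) := by
      have h3 := h c.1 c.2 Q
      have : ((LinearMap.lsmul S N c.1).restrictScalars R).rTensor Q =
          (TensorProduct.comm R Q N).toLinearMap ∘ₗ
            ((LinearMap.lsmul S N c.1).restrictScalars R).lTensor Q ∘ₗ
              (TensorProduct.comm R N Q).toLinearMap := by
        ext; simp
      rw [this]
      exact (TensorProduct.comm R Q N).injective.comp
        (h3.comp (TensorProduct.comm R N Q).injective)
    exact hinj (by rw [hc', map_zero])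
  have : ((LocalizedModule.mkLinearMap T N).restrictScalars R).lTensor Q =
      (TensorProduct.comm R (LocalizedModule T N) Q).toLinearMap ∘ₗ
        ((AlgebraTensorModule.rTensor R Q (LocalizedModule.mkLinearMap T N)).restrictScalars R) ∘ₗ
          (TensorProduct.comm R Q N).toLinearMap := by
    ext; simp
  rw [this]
  exact (TensorProduct.comm R (LocalizedModule T N) Q).injective.comp
    (hr.comp (TensorProduct.comm R Q N).injective)

end univInj

end Groth.Agent.H32.NzdUnivInj
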