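import Mathlib
import Groth.Prelude.Def_FlatCA
import Groth.Agent.H6.NzdLoc
import Groth.Agent.H6.NzdFiber
import Groth.Agent.H32.NzdUnivInj

/-!
# Universal injectivity of `N → S' ⊗_S N` for flat `S'` covering the associated primes of the
closed fibre (helper32)
-/

set_option autoImplicit false
universe u

open TensorProduct IsLocalRing

namespace Groth.Agent.H32.FlatCoverUnivInj

attribute [local instance] Algebra.TensorProduct.rightAlgebra

section step1

variable {S S' X : Type*} [CommRing S] [CommRing S'] [Algebra S S'] [Module.Flat S S']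
  [AddCommGroup X] [Module S X]

/-- If `1 ⊗ x = 0` in `S' ⊗_S X` with `S'` flat, then the annihilator of `x` generates the unit
ideal of `S'`. -/
theorem map_ker_toSpanSingleton_eq_top (x : X) (hx : (1 : S') ⊗ₜ[S] x = 0) :
    Ideal.map (algebraMap S S') (LinearMap.ker (LinearMap.toSpanSingleton S X x) : Ideal S) = ⊤ := by
  set I : Ideal S := LinearMap.ker (LinearMap.toSpanSingleton S X x) with hI
  let fbar : (S ⧸ I) →ₗ[S] X := Submodule.liftQ I (LinearMap.toSpanSingleton S X x) le_rfl
  have hinj : Function.Injective fbar := by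
    rw [← LinearMap.ker_eq_bot]
    exact Submodule.ker_liftQ_eq_bot _ _ _ le_rfl
  have hinj' : Function.Injective (fbar.lTensor S') :=
    Module.Flat.lTensor_preserves_injective_linearMap fbar hinj
  have h1 : (1 : S') ⊗ₜ[S] (Ideal.Quotient.mk I 1 : S ⧸ I) = 0 := by
    apply hinj'
    rw [map_zero, LinearMap.lTensor_tmul]
    have : fbar (Ideal.Quotient.mk I 1) = x := by
      change (Submodule.liftQ I (LinearMap.toSpanSingleton S X x) le_rfl) (Submodule.Quotient.mk 1) = x
      rw [Submodule.liftQ_apply]
      simp
    rw [this, hx]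
  have h2 := congrArg (TensorProduct.tensorQuotEquivQuotSMul S' I) h1
  rw [TensorProduct.tensorQuotEquivQuotSMul_tmul_mk, map_zero, one_smul,
    Submodule.Quotient.mk_eq_zero, Ideal.smul_top_eq_map] at h2
  exact (Ideal.eq_top_iff_one _).mpr h2

end step1

section step2

variable {S : Type*} {F : Type*} {M : Type*} [CommRing S] [CommRing F] [Algebra S F]
  [AddCommGroup M] [Module S M] [Module F M] [IsScalarTower S F M]

/-- prime avoidance: an ideal missing the non-zero-divisors on `M` lies in an associated prime -/
theorem exists_le_associatedPrime_of_disjoint (hφ : Function.Surjective (algebraMap S F))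
    [IsNoetherianRing F] [Module.Finite F M] (I : Ideal S)
    (hd : Disjoint (I : Set S) (nonZeroSMulDivisors S M)) :
    ∃ q ∈ associatedPrimes S M, I ≤ q := by
  classical
  have hU := Groth.Agent.H6.NzdLoc.biUnion_associatedPrimes_eq_zero_divisors
    (S := S) (F := F) (M := M) hφ
  have hfin := Groth.Agent.H6.NzdLoc.finite_associatedPrimes (S := S) (F := F) (M := M) hφ
  have hsub : (I : Set S) ⊆ ⋃ p ∈ ((hfin.toFinset : Finset (Ideal S)) : Set (Ideal S)),
      ((fun p : Ideal S => p) p : Set S) := by
    intro s hs
    have hns : s ∉ nonZeroSMulDivisors S M := fun h => (Set.disjoint_left.mp hd) hs h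
    have : s ∈ {s : S | ∃ x : M, x ≠ 0 ∧ s • x = 0} := by
      rw [mem_nonZeroSMulDivisors_iff] at hns
      push Not at hns
      obtain ⟨m, hm, hm0⟩ := hns
      exact ⟨m, hm0, hm⟩
    rw [← hU] at this
    simpa using this
  obtain ⟨q', hq', hle⟩ := (Ideal.subset_union_prime (f := fun p : Ideal S => p) ⊥ ⊥
    (fun p hp _ _ => (hfin.mem_toFinset.mp hp).1)).mp hsub
  exact ⟨q', hfin.mem_toFinset.mp hq', hle⟩

end step2

section noeth

variable {R S : Type u} [CommRing R] [CommRing S] [Algebra R S]

/-- The fibre rings of an algebra essentially of finite presentation are Noetherian. -/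
theorem isNoetherianRing_fiber (hS : FlatCA.EssFinitePresentation R S) (p : Ideal R) [p.IsPrime] :
    IsNoetherianRing (p.Fiber S) := by
  obtain ⟨S₀, _, _, _, _, M, hfp, hloc⟩ := hS
  have h0 : IsNoetherianRing (p.ResidueField ⊗[R] S₀) :=
    Algebra.FiniteType.isNoetherianRing p.ResidueField _
  have h1 : IsNoetherianRing (S₀ ⊗[R] p.ResidueField) :=
    isNoetherianRing_of_ringEquiv _
      (Algebra.TensorProduct.comm R p.ResidueField S₀).toRingEquiv
  have h2 : IsLocalization (Algebra.algebraMapSubmonoid (S₀ ⊗[R] p.ResidueField) M)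
      (S ⊗[S₀] (S₀ ⊗[R] p.ResidueField)) := inferInstance
  have h3 : IsNoetherianRing (S ⊗[S₀] (S₀ ⊗[R] p.ResidueField)) :=
    IsLocalization.isNoetherianRing (Algebra.algebraMapSubmonoid (S₀ ⊗[R] p.ResidueField) M) _ h1
  have h4 : IsNoetherianRing (S ⊗[R] p.ResidueField) :=
    isNoetherianRing_of_ringEquiv _
      (Algebra.TensorProduct.cancelBaseChange R S₀ S S p.ResidueField).toRingEquiv
  exact isNoetherianRing_of_ringEquiv _
    (Algebra.TensorProduct.comm R S p.ResidueField).toRingEquiv

end noeth

section main

variable {R S S' : Type u} [CommRing R] [IsLocalRing R] [CommRing S] [CommRing S'] [Algebra R S]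
  [Algebra S S'] [Algebra R S'] [IsScalarTower R S S'] [Module.Flat S S']
  (N : Type u) [AddCommGroup N] [Module S N] [Module R N] [IsScalarTower R S N]

theorem univInj_mk_of_flat_cover [IsNoetherianRing ((maximalIdeal R).Fiber S)] [Module.Finite S N]
    (hkey : ∀ s ∈ FlatCA.nzdFiber R S N,
      FlatCA.UnivInj R ((LinearMap.lsmul S N s).restrictScalars R))
    (h : ∀ q ∈ associatedPrimes S (FlatCA.fiberMod (maximalIdeal R) S N),
      ∃ q' : Ideal S', q'.IsPrime ∧ q'.comap (algebraMap S S') = q) :
    FlatCA.UnivInj R ((TensorProduct.mk S S' N 1).restrictScalars R) := by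
  intro Q _ _
  rw [injective_iff_map_eq_zero]
  intro z hz
  set f : N →ₗ[R] S' ⊗[S] N := (TensorProduct.mk S S' N 1).restrictScalars R with hf
  set x : N ⊗[R] Q := TensorProduct.comm R Q N z with hx
  have hcomm : ∀ (g : N →ₗ[R] S' ⊗[S] N) (w : Q ⊗[R] N),
      g.rTensor Q (TensorProduct.comm R Q N w) = TensorProduct.comm R Q _ (g.lTensor Q w) := by
    intro g w
    induction w using TensorProduct.induction_on with
    | zero => simp
    | tmul q n => simp
    | add a b ha hb => simp only [map_add, ha, hb]
  have hcomm' : ∀ (g : N →ₗ[R] N) (w : Q ⊗[R] N),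
      g.rTensor Q (TensorProduct.comm R Q N w) = TensorProduct.comm R Q _ (g.lTensor Q w) := by
    intro g w
    induction w using TensorProduct.induction_on with
    | zero => simp
    | tmul q n => simp
    | add a b ha hb => simp only [map_add, ha, hb]
  have h2 : f.rTensor Q x = 0 := by
    rw [hx, hcomm, hz, map_zero]
  have h3 : ∀ y : N ⊗[R] Q,
      TensorProduct.AlgebraTensorModule.assoc R S S S' N Q (f.rTensor Q y) = (1 : S') ⊗ₜ[S] y := by
    intro y
    induction y using TensorProduct.induction_on with
    | zero => simp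
    | tmul n q =>
      simp only [hf, LinearMap.rTensor_tmul, LinearMap.coe_restrictScalars, TensorProduct.mk_apply,
        TensorProduct.AlgebraTensorModule.assoc_tmul]
    | add a b ha hb => rw [map_add, map_add, ha, hb, TensorProduct.tmul_add]
  have h1 : (1 : S') ⊗ₜ[S] x = 0 := by
    rw [← h3, h2, map_zero]
  have hI := map_ker_toSpanSingleton_eq_top (S := S) (S' := S') x h1
  set I : Ideal S := LinearMap.ker (LinearMap.toSpanSingleton S (N ⊗[R] Q) x) with hIdef
  -- find `s ∈ I` regular on the closed fibre
  have hex : ∃ s ∈ I, s ∈ FlatCA.nzdFiber R S N := by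
    by_contra hcon
    have hd : Disjoint (I : Set S) (FlatCA.nzdFiber R S N : Set S) := by
      rw [Set.disjoint_left]
      intro s hs hs'
      exact hcon ⟨s, hs, hs'⟩
    haveI := Groth.Agent.H6.NzdFiber.isScalarTower_fiberMod (S := S) N (maximalIdeal R)
    haveI : Module.Finite ((maximalIdeal R).Fiber S) (FlatCA.fiberMod (maximalIdeal R) S N) :=
      inferInstanceAs (Module.Finite ((maximalIdeal R).Fiber S)
        (((maximalIdeal R).Fiber S) ⊗[S] N))
    obtain ⟨q, hq, hle⟩ := exists_le_associatedPrime_of_disjoint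
      (F := (maximalIdeal R).Fiber S) (M := FlatCA.fiberMod (maximalIdeal R) S N)
      (Groth.Agent.H6.NzdFiber.algebraMap_fiber_surjective (S := S) (maximalIdeal R)) I hd
    obtain ⟨q', hq'prime, hq'⟩ := h q hq
    have : I.map (algebraMap S S') ≤ q' := by
      rw [Ideal.map_le_iff_le_comap, hq']
      exact hle
    rw [hI] at this
    exact hq'prime.ne_top (top_le_iff.mp this)
  obtain ⟨s, hsI, hs⟩ := hex
  have hsx : s • x = 0 := by
    have := LinearMap.mem_ker.mp hsI
    simpa using this
  have hsx' : ((LinearMap.lsmul S N s).restrictScalars R).rTensor Q x = 0 := by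
    rw [← hsx]
    generalize x = y
    induction y using TensorProduct.induction_on with
    | zero => simp
    | tmul n q =>
      simp only [LinearMap.rTensor_tmul, LinearMap.coe_restrictScalars, LinearMap.lsmul_apply]
      rfl
    | add a b ha hb => rw [map_add, smul_add, ha, hb]
  rw [hx, hcomm'] at hsx'
  have h5 : ((LinearMap.lsmul S N s).restrictScalars R).lTensor Q z = 0 := by
    have := (TensorProduct.comm R Q N).injective (hsx'.trans (map_zero _).symm)
    exact this
  exact hkey s hs Q (h5.trans (map_zero _).symm)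

end main

end Groth.Agent.H32.FlatCoverUnivInj
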