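import Mathlib
import Groth.Prelude.Def_FlatCA
import Groth.Agent.S2107
import Groth.Agent.H70.RegFibre.EssFP
import Groth.Agent.H70.RegFibre.Fibre
import Groth.Agent.H32.ThreeByThree

/-!
# Fibrewise regular elements act universally injectively on flat stalks (helper32)

`R → S` of finite presentation, `N` a finitely presented `S`-module, `q` a prime of `S` over `p`
with `N_q` flat over `R`.  If `s ∈ S` is regular on `N ⊗_R κ(p)` then multiplication by `s` on
`N_q` is `R`-universally injective.
-/

set_option autoImplicit false
set_option linter.style.haveILetI false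
universe u

open TensorProduct

namespace Groth.Agent.H32.LocalUnivInj

open Groth.Agent.H70.RegFibre

theorem univInj_lsmul_localizedModule {R S : Type u} [CommRing R] [CommRing S] [Algebra R S]
    [Algebra.FinitePresentation R S]
    (N : Type u) [AddCommGroup N] [Module S N] [Module R N] [IsScalarTower R S N]
    [Module.FinitePresentation S N]
    (p : Ideal R) [p.IsPrime] (q : Ideal S) [q.IsPrime] [q.LiesOver p]
    (hflat : Module.Flat R (LocalizedModule q.primeCompl N))
    (s : S) (hs : IsSMulRegular (N ⊗[R] p.ResidueField) s) :
    FlatCA.UnivInj R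
      ((LinearMap.lsmul S (LocalizedModule q.primeCompl N) s).restrictScalars R) := by
  let R' := Localization.AtPrime p
  let S' := Localization.AtPrime q
  letI : Algebra R' S' := Localization.AtPrime.algebraOfLiesOver p q
  let N' := LocalizedModule q.primeCompl N
  letI : Module R' N' := Module.compHom N' (algebraMap R' S')
  haveI : IsScalarTower R' S' N' := ⟨fun r s n => by
    change (r • s) • n = (algebraMap R' S' r) • (s • n)
    rw [Algebra.smul_def, mul_smul]⟩
  haveI : IsScalarTower R R' N' := ⟨fun a r n => by
    change (algebraMap R' S' (a • r)) • n = a • ((algebraMap R' S' r) • n)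
    rw [← smul_assoc]
    congr 1
    rw [Algebra.smul_def, map_mul, ← IsScalarTower.algebraMap_apply R R' S', Algebra.smul_def]⟩
  have hS := isEssFinitePresentation_atPrime p q
  haveI : Module.Flat R' N' := (Module.flat_iff_of_isLocalization R' p.primeCompl N').mpr hflat
  obtain ⟨e5⟩ := exists_fibreEquiv N p q
  set m : Ideal S' := (IsLocalRing.maximalIdeal R').map (algebraMap R' S') with hm
  -- regularity on the localized fibre
  have hregL : IsSMulRegular (LocalizedModule q.primeCompl (N ⊗[R] p.ResidueField)) s := by
    have := IsSMulRegular.of_isLocalizedModule (S := S') q.primeCompl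
      (LocalizedModule.mkLinearMap q.primeCompl (N ⊗[R] p.ResidueField)) hs
    intro a b hab
    apply this
    simpa [algebraMap_smul] using hab
  let u : N' →ₗ[S'] N' := LinearMap.lsmul S' N' (algebraMap S S' s)
  have hu : ∀ y : N', u y ∈ m • (⊤ : Submodule S' N') → y ∈ m • (⊤ : Submodule S' N') := by
    intro y hy
    have h1 : (Submodule.Quotient.mk (u y) : N' ⧸ (m • ⊤ : Submodule S' N')) = 0 :=
      (Submodule.Quotient.mk_eq_zero _).mpr hy
    have h2 : s • (Submodule.Quotient.mk y : N' ⧸ (m • ⊤ : Submodule S' N')) = 0 := by
      rw [← h1, ← Submodule.Quotient.mk_smul]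
      congr 1
      change s • y = (algebraMap S S' s) • y
      rw [algebraMap_smul]
    have h3 : s • e5.symm (Submodule.Quotient.mk y) = 0 := by
      rw [← map_smul, h2, map_zero]
    have h4 : e5.symm (Submodule.Quotient.mk y) = 0 :=
      hregL (show s • e5.symm (Submodule.Quotient.mk y) = s • 0 by rw [h3, smul_zero])
    have h5 : (Submodule.Quotient.mk y : N' ⧸ (m • ⊤ : Submodule S' N')) = 0 :=
      (LinearEquiv.map_eq_zero_iff _).mp h4
    exact (Submodule.Quotient.mk_eq_zero _).mp h5
  obtain ⟨hinj, hfl⟩ := Groth.Agent.S2107.result (M := N') (N := N') hS u hu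
  haveI : Module.Flat R (N' ⧸ LinearMap.range u) := Module.Flat.trans R R' _
  intro Q _ _
  refine Groth.Agent.H32.lTensor_injective_of_flat_coker
    ((LinearMap.lsmul S N' s).restrictScalars R)
    ((LinearMap.range u).mkQ.restrictScalars R) ?_ ?_ ?_ Q
  · intro a b hab
    apply hinj
    change (algebraMap S S' s) • a = (algebraMap S S' s) • b
    rw [algebraMap_smul, algebraMap_smul]
    exact hab
  · intro y
    constructor
    · intro hy
      have : y ∈ LinearMap.range u := (Submodule.Quotient.mk_eq_zero _).mp hy
      obtain ⟨z, rfl⟩ := this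
      refine ⟨z, ?_⟩
      change s • z = (algebraMap S S' s) • z
      rw [algebraMap_smul]
    · rintro ⟨z, rfl⟩
      refine (Submodule.Quotient.mk_eq_zero _).mpr ⟨z, ?_⟩
      change (algebraMap S S' s) • z = s • z
      rw [algebraMap_smul]
  · exact Submodule.mkQ_surjective _

end Groth.Agent.H32.LocalUnivInj
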