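import Mathlib
import Groth.Prelude.Def_FlatCA
import Groth.Agent.H1.FlatLocusLoc
import Groth.Agent.H32.FlatCoverUnivInj
import Groth.Agent.H32.FiberAss
import Groth.Agent.H32.LocalUnivInj

/-!
# Universal injectivity of `N → S' ⊗_S N`, global finitely presented case (helper32)

Stacks 05FU-style: `S` finitely presented over `R`, `N` finitely presented over `S` and flat over
`R`, `S'` flat over `S` with every point of the relative assassin of `N` in the image of
`Spec S' → Spec S`.
-/

set_option autoImplicit false
set_option linter.style.haveILetI false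
universe u

open TensorProduct

namespace Groth.Agent.H32.FlatCoverGlobal

attribute [local instance] Algebra.TensorProduct.rightAlgebra

section red

variable {R S S' : Type u} [CommRing R] [CommRing S] [CommRing S'] [Algebra R S]
  [Algebra S S'] [Algebra R S'] [IsScalarTower R S S'] [Module.Flat S S']
  (N : Type u) [AddCommGroup N] [Module S N] [Module R N] [IsScalarTower R S N]

/-- Reduction: it suffices to kill elements whose annihilator generates the unit ideal of `S'`. -/
theorem univInj_mk_of_forall_eq_zero
    (H : ∀ (Q : Type u) [AddCommGroup Q] [Module R Q] (x : N ⊗[R] Q),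
      Ideal.map (algebraMap S S')
        (LinearMap.ker (LinearMap.toSpanSingleton S (N ⊗[R] Q) x) : Ideal S) = ⊤ → x = 0) :
    FlatCA.UnivInj R ((TensorProduct.mk S S' N 1).restrictScalars R) := by
  intro Q _ _
  rw [injective_iff_map_eq_zero]
  intro z hz
  set f : N →ₗ[R] S' ⊗[S] N := (TensorProduct.mk S S' N 1).restrictScalars R with hf
  set x : N ⊗[R] Q := TensorProduct.comm R Q N z with hx
  have hcomm : ∀ (g : N →ₗ[R] S' ⊗[S] N) (w : Q ⊗[R] N),
      g.rTensor Q (TensorProduct.comm R Q N w) = TensorProduct.comm R Q _ (g.lTensor Q w) := by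
    intro g w
    induction w using TensorProduct.induction_on with
    | zero => simp
    | tmul q n => simp
    | add a b ha hb => simp only [map_add, ha, hb]
  have h2 : f.rTensor Q x = 0 := by
    rw [hx, hcomm, hz, map_zero]
  have h3 : ∀ y : N ⊗[R] Q,
      TensorProduct.AlgebraTensorModule.assoc R S S S' N Q (f.rTensor Q y) = (1 : S') ⊗ₜ[S] y := by
    intro y
    induction y using TensorProduct.induction_on with
    | zero => simp
    | tmul n q =>
      simp only [hf, LinearMap.rTensor_tmul, LinearMap.coe_restrictScalars, TensorProduct.mk_apply,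
        TensorProduct.AlgebraTensorModule.assoc_tmul]
    | add a b ha hb => rw [map_add, map_add, ha, hb, TensorProduct.tmul_add]
  have h1 : (1 : S') ⊗ₜ[S] x = 0 := by
    rw [← h3, h2, map_zero]
  have hI := Groth.Agent.H32.FlatCoverUnivInj.map_ker_toSpanSingleton_eq_top (S := S) (S' := S') x h1
  have hx0 : x = 0 := H Q x hI
  have : TensorProduct.comm R Q N z = 0 := hx0
  exact (LinearEquiv.map_eq_zero_iff _).mp this

end red

section main

variable {R S S' : Type u} [CommRing R] [CommRing S] [CommRing S'] [Algebra R S]
  [Algebra S S'] [Algebra R S'] [IsScalarTower R S S'] [Algebra.FinitePresentation R S]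
  [Module.Flat S S']
  (N : Type u) [AddCommGroup N] [Module S N] [Module R N] [IsScalarTower R S N]
  [Module.FinitePresentation S N] [Module.Flat R N]

theorem univInj_mk_of_flat_cover_global
    (h : ∀ (p : Ideal R) (q : Ideal S) [p.IsPrime] [q.IsPrime] [q.LiesOver p],
      FlatCA.fiberIdeal p q ∈ associatedPrimes (p.Fiber S) (FlatCA.fiberMod p S N) →
      ∃ q' : Ideal S', q'.IsPrime ∧ q'.comap (algebraMap S S') = q) :
    FlatCA.UnivInj R ((TensorProduct.mk S S' N 1).restrictScalars R) := by
  apply univInj_mk_of_forall_eq_zero
  intro Q _ _ x hI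
  by_contra hx0
  set I : Ideal S := LinearMap.ker (LinearMap.toSpanSingleton S (N ⊗[R] Q) x) with hIdef
  have hmemI : ∀ t : S, t ∈ I ↔ t • x = 0 := by
    intro t
    rw [hIdef, LinearMap.mem_ker, LinearMap.toSpanSingleton_apply]
  have hIne : I ≠ ⊤ := by
    intro htop
    apply hx0
    have : (1 : S) ∈ I := by rw [htop]; trivial
    simpa using (hmemI 1).mp this
  obtain ⟨q, hqmax, hIq⟩ := Ideal.exists_le_maximal I hIne
  haveI : q.IsPrime := hqmax.isPrime
  set p : Ideal R := q.under R with hp
  haveI : p.IsPrime := Ideal.IsPrime.under R q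
  haveI : q.LiesOver p := ⟨rfl⟩
  -- the claim: `I` lies in the contraction of an associated prime of the fibre module
  have hclaim : ∃ P ∈ associatedPrimes (p.Fiber S) (FlatCA.fiberMod p S N),
      I ≤ P.comap (algebraMap S (p.Fiber S)) := by
    by_contra hcon
    push Not at hcon
    obtain ⟨s, hsI, hsreg⟩ :=
      Groth.Agent.H32.FiberAss.exists_mem_regular_of_forall_not_le N p I hcon
    have hsreg' := Groth.Agent.H32.FiberAss.isSMulRegular_tensor_residueField N p hsreg
    have hflatq : Module.Flat R (LocalizedModule q.primeCompl N) :=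
      Groth.Agent.H1.FlatLocus.flat_of_isLocalizedModule_algebra (R := R) q.primeCompl
        (LocalizedModule.mkLinearMap q.primeCompl N)
    have hUI := Groth.Agent.H32.LocalUnivInj.univInj_lsmul_localizedModule N p q hflatq s hsreg'
    -- localize `x`
    let φ := AlgebraTensorModule.rTensor R Q (LocalizedModule.mkLinearMap q.primeCompl N)
    have hloc : IsLocalizedModule q.primeCompl φ := inferInstance
    have hsx : s • x = 0 := (hmemI s).mp hsI
    have h1 : s • φ x = 0 := by rw [← map_smul, hsx, map_zero]
    have h2 : ((LinearMap.lsmul S (LocalizedModule q.primeCompl N) s).restrictScalars R).rTensor Q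
        (φ x) = 0 := by
      rw [← h1]
      generalize φ x = y
      induction y using TensorProduct.induction_on with
      | zero => simp
      | tmul n q =>
        simp only [LinearMap.rTensor_tmul, LinearMap.coe_restrictScalars, LinearMap.lsmul_apply]
        rfl
      | add a b ha hb => rw [map_add, smul_add, ha, hb]
    have hinj : Function.Injective
        (((LinearMap.lsmul S (LocalizedModule q.primeCompl N) s).restrictScalars R).rTensor Q) := by
      have h3 := hUI Q
      have : ((LinearMap.lsmul S (LocalizedModule q.primeCompl N) s).restrictScalars R).rTensor Q =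
          (TensorProduct.comm R Q (LocalizedModule q.primeCompl N)).toLinearMap ∘ₗ
            ((LinearMap.lsmul S (LocalizedModule q.primeCompl N) s).restrictScalars R).lTensor Q ∘ₗ
              (TensorProduct.comm R (LocalizedModule q.primeCompl N) Q).toLinearMap := by
        ext; simp
      rw [this]
      exact (TensorProduct.comm R Q _).injective.comp
        (h3.comp (TensorProduct.comm R _ Q).injective)
    have h4 : φ x = 0 := hinj (by rw [h2, map_zero])
    obtain ⟨t, ht⟩ := (IsLocalizedModule.eq_zero_iff q.primeCompl φ).mp h4
    have : (t : S) ∈ I := (hmemI t).mpr ht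
    exact t.2 (hIq this)
  obtain ⟨P, hP, hle⟩ := hclaim
  haveI : P.IsPrime := hP.1
  set q₁ : Ideal S := P.comap (algebraMap S (p.Fiber S)) with hq₁
  haveI : q₁.IsPrime := Ideal.comap_isPrime _ _
  haveI : q₁.LiesOver p := by
    constructor
    have h1 : p = P.under R := Ideal.LiesOver.over
    rw [h1, hq₁]
    change Ideal.comap (algebraMap R (p.Fiber S)) P =
      Ideal.comap (algebraMap R S) (Ideal.comap (algebraMap S (p.Fiber S)) P)
    rw [Ideal.comap_comap]
    congr 1
    ext r
    simp [Algebra.TensorProduct.algebraMap_apply, Algebra.algebraMap_eq_smul_one,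
      TensorProduct.smul_tmul]
  have hass : FlatCA.fiberIdeal p q₁ ∈
      associatedPrimes (p.Fiber S) (FlatCA.fiberMod p S N) := by
    rw [hq₁, Groth.Agent.H32.FiberAss.fiberIdeal_comap]
    exact hP
  obtain ⟨q', hq'prime, hq'⟩ := h p q₁ hass
  have : Ideal.map (algebraMap S S') I ≤ q' := by
    rw [Ideal.map_le_iff_le_comap, hq']
    exact hle
  rw [hI] at this
  exact hq'prime.ne_top (top_le_iff.mp this)

end main

end Groth.Agent.H32.FlatCoverGlobal
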