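import Groth.Agent.H32.MLDom

set_option autoImplicit false
universe u
open TensorProduct

namespace Groth.Agent.H32

section
variable {R : Type u} [CommRing R]

/-- components of `piRightHom` -/
theorem piRightHom_apply_eq_lTensor_proj {M : Type u} [AddCommGroup M] [Module R M] {ι : Type u}
    (Q : ι → Type u) [∀ i, AddCommGroup (Q i)] [∀ i, Module R (Q i)] (z : M ⊗[R] (∀ i, Q i))
    (α : ι) :
    TensorProduct.piRightHom R R M Q z α = (LinearMap.proj α).lTensor M z := by
  induction z using TensorProduct.induction_on with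
  | zero => simp
  | tmul m q => simp
  | add a b ha hb => simp only [map_add, Pi.add_apply, ha, hb]

/-- for flat `M`, an element of `F ⊗ M` killed by `lam ⊗ M` comes from `ker lam ⊗ M` -/
theorem mem_range_ker_subtype_rTensor_of_flat {M : Type u} [AddCommGroup M] [Module R M]
    [Module.Flat R M] {F Q : Type u} [AddCommGroup F] [Module R F] [AddCommGroup Q] [Module R Q]
    (lam : F →ₗ[R] Q) (x : F ⊗[R] M) (hx : lam.rTensor M x = 0) :
    x ∈ LinearMap.range ((LinearMap.ker lam).subtype.rTensor M) :=
  (Module.Flat.rTensor_exact M (LinearMap.exact_subtype_ker_map lam) x).1 hx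

theorem rTensor_eq_zero_of_mem_range_of_le_ker {M : Type u} [AddCommGroup M] [Module R M]
    {F Q : Type u} [AddCommGroup F] [Module R F] [AddCommGroup Q] [Module R Q]
    (lam : F →ₗ[R] Q) (F' : Submodule R F) (hF' : F' ≤ LinearMap.ker lam) (x : F ⊗[R] M)
    (hx : x ∈ LinearMap.range (F'.subtype.rTensor M)) : lam.rTensor M x = 0 := by
  obtain ⟨x₀, rfl⟩ := hx
  rw [← LinearMap.comp_apply, ← LinearMap.rTensor_comp]
  have : lam ∘ₗ F'.subtype = 0 := by
    ext y
    exact LinearMap.mem_ker.1 (hF' y.2)
  rw [this, LinearMap.rTensor_zero, LinearMap.zero_apply]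

/-- For a flat Mittag-Leffler module `M` and `x ∈ F ⊗ M` there is a smallest submodule `F'` of `F`
with `x` in the image of `F' ⊗ M`, and it is finitely generated. -/
theorem exists_smallest_submodule_of_flat_mittagLeffler {M : Type u} [AddCommGroup M] [Module R M]
    [Module.Flat R M] (hM : CAlg.IsMittagLeffler R M)
    {F : Type u} [AddCommGroup F] [Module R F] (x : F ⊗[R] M) :
    ∃ F' : Submodule R F, F'.FG ∧ x ∈ LinearMap.range (F'.subtype.rTensor M) ∧
      ∀ F'' : Submodule R F, x ∈ LinearMap.range (F''.subtype.rTensor M) → F' ≤ F'' := by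
  classical
  let I : Set (Submodule R F) := {F' | x ∈ LinearMap.range (F'.subtype.rTensor M)}
  let lam : F →ₗ[R] (∀ α : I, F ⧸ α.1) := LinearMap.pi (fun α => α.1.mkQ)
  have hker : LinearMap.ker lam = sInf I := by
    rw [LinearMap.ker_pi, sInf_eq_iInf']
    congr 1
    funext α
    exact Submodule.ker_mkQ _
  have hlam : lam.rTensor M x = 0 := by
    apply (TensorProduct.comm R _ M).injective
    rw [map_zero]
    apply hM I (fun α => F ⧸ α.1)
    rw [map_zero]
    funext α
    rw [piRightHom_apply_eq_lTensor_proj, Pi.zero_apply, LinearMap.lTensor_comm,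
      ← LinearMap.comp_apply, ← LinearMap.rTensor_comp]
    have hcomp : LinearMap.proj α ∘ₗ lam = α.1.mkQ := by
      ext y
      rfl
    rw [hcomp, rTensor_eq_zero_of_mem_range_of_le_ker α.1.mkQ α.1 (Submodule.ker_mkQ _).ge x α.2,
      map_zero]
  have hmem : x ∈ LinearMap.range ((sInf I).subtype.rTensor M) := by
    have := mem_range_ker_subtype_rTensor_of_flat lam x hlam
    rw [hker] at this
    exact this
  have hmin : ∀ F'' : Submodule R F, x ∈ LinearMap.range (F''.subtype.rTensor M) → sInf I ≤ F'' :=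
    fun F'' h => sInf_le h
  refine ⟨sInf I, ?_, hmem, hmin⟩
  -- finite generation
  obtain ⟨x₀, hx₀⟩ := hmem
  obtain ⟨P, hP, x₁, hx₁⟩ := TensorProduct.exists_of_fg x₀
  let F₁ : Submodule R F := P.map (sInf I).subtype
  let e : P →ₗ[R] F₁ := ((sInf I).subtype ∘ₗ P.subtype).codRestrict F₁
    (fun y => ⟨y.1, y.2, rfl⟩)
  have he : F₁.subtype ∘ₗ e = (sInf I).subtype ∘ₗ P.subtype :=
    LinearMap.subtype_comp_codRestrict _ _ _
  have hF₁ : x ∈ LinearMap.range (F₁.subtype.rTensor M) := by
    refine ⟨e.rTensor M x₁, ?_⟩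
    rw [← LinearMap.comp_apply, ← LinearMap.rTensor_comp, he, LinearMap.rTensor_comp,
      LinearMap.comp_apply, hx₁, hx₀]
  have heq : sInf I = F₁ := le_antisymm (hmin F₁ hF₁) (Submodule.map_subtype_le _ _)
  rw [heq]
  exact hP.map _

/-- Converse: a flat module with the smallest-submodule property for finite free modules is
Mittag-Leffler. -/
theorem isMittagLeffler_of_flat_of_exists_smallest {M : Type u} [AddCommGroup M] [Module R M]
    [Module.Flat R M]
    (H : ∀ (n : ℕ) (x : (Fin n → R) ⊗[R] M), ∃ F' : Submodule R (Fin n → R),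
        x ∈ LinearMap.range (F'.subtype.rTensor M) ∧
        ∀ F'' : Submodule R (Fin n → R), x ∈ LinearMap.range (F''.subtype.rTensor M) → F' ≤ F'') :
    CAlg.IsMittagLeffler R M := by
  intro A Q _ _
  rw [injective_iff_map_eq_zero]
  intro z hz
  obtain ⟨n, lam, x', rfl⟩ := exists_fin_lTensor_eq z
  obtain ⟨F', hxF', hmin⟩ := H n (TensorProduct.comm R M _ x')
  have hle : F' ≤ LinearMap.ker lam := by
    intro y hy
    rw [LinearMap.mem_ker]
    funext α
    rw [Pi.zero_apply]
    have h1 : (LinearMap.proj α ∘ₗ lam).rTensor M (TensorProduct.comm R M _ x') = 0 := by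
      rw [LinearMap.rTensor_comm]
      have := congrFun hz α
      rw [piRightHom_apply_eq_lTensor_proj, ← LinearMap.comp_apply, ← LinearMap.lTensor_comp,
        Pi.zero_apply] at this
      rw [this, map_zero]
    have h2 := hmin _ (mem_range_ker_subtype_rTensor_of_flat _ _ h1) hy
    exact LinearMap.mem_ker.1 h2
  have h3 := rTensor_eq_zero_of_mem_range_of_le_ker lam F' hle _ hxF'
  rw [LinearMap.rTensor_comm] at h3
  exact (TensorProduct.comm R M _).injective (h3.trans (map_zero _).symm)

end

end Groth.Agent.H32
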