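import Groth.Agent.H47.IntModel
import Groth.Agent.S4848

/-!
# Noetherian model of a flat finitely presented algebra

A flat finitely presented `R`-algebra `S` is the base change of a flat finitely presented algebra
`S₀` over a ring `R₀` of finite type over `ℤ`.
-/

set_option autoImplicit false
set_option linter.style.haveILetI false
universe u

open TensorProduct

namespace Groth.Agent.H32.FlatModelAlg

open Groth.Agent.H47.IntModel

attribute [local instance] Algebra.TensorProduct.rightAlgebra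

theorem descent4848 : Descent4848.{u} := by
  intro A₀ _ ι _ G _ _ g A _ _ _ _ hcolim B₀ _ _ _ M₀ _ _ _ _ _
  exact Groth.Agent.S4848.result G g A hcolim (B₀ := B₀) M₀

theorem exists_flat_model (R S : Type u) [CommRing R] [CommRing S] [Algebra R S]
    [Algebra.FinitePresentation R S] [Module.Flat R S] :
    ∃ (R₀ : Type u) (_ : CommRing R₀) (_ : Algebra R₀ R) (S₀ : Type u) (_ : CommRing S₀)
      (_ : Algebra R₀ S₀) (_ : Algebra S₀ S) (_ : Algebra R₀ S) (_ : IsScalarTower R₀ R S)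
      (_ : IsScalarTower R₀ S₀ S),
      Algebra.FiniteType ℤ R₀ ∧ Algebra.FinitePresentation R₀ S₀ ∧ Module.Flat R₀ S₀ ∧
        Algebra.IsPushout R₀ R S₀ S := by
  obtain ⟨A₀, S₀, _, _, e, M₀, _, _, hA₀fg, hfp, -, -⟩ :=
    Groth.Agent.H49.ModuleModel.exists_model R S S
  letI algS₀S : Algebra S₀ S := ((e.symm.toRingEquiv.toRingHom).comp
          Algebra.TensorProduct.includeRight.toRingHom).toAlgebra
  have hmapS₀ : ∀ y : S₀, algebraMap S₀ S y = e.symm (1 ⊗ₜ y) := fun _ => rfl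
  haveI t1 : IsScalarTower A₀ S₀ S := IsScalarTower.of_algebraMap_eq fun a => by
    rw [hmapS₀, Algebra.algebraMap_eq_smul_one (A := S₀), ← TensorProduct.smul_tmul]
    have h1 : ((a • (1:R)) ⊗ₜ[A₀] (1:S₀)) = algebraMap R (R ⊗[A₀] S₀) (algebraMap A₀ R a) := by
      rw [Algebra.TensorProduct.algebraMap_apply, Algebra.algebraMap_eq_smul_one (A := R)]
      rfl
    rw [h1, e.symm.commutes, ← IsScalarTower.algebraMap_apply]
  haveI po : Algebra.IsPushout A₀ R S₀ S :=
    ⟨IsBaseChange.of_equiv e.symm.toLinearEquiv (fun x => rfl)⟩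
  haveI : Algebra.FiniteType ℤ A₀ := (Subalgebra.fg_iff_finiteType A₀).mp hA₀fg
  haveI : IsNoetherianRing A₀ := Algebra.FiniteType.isNoetherianRing ℤ A₀
  -- flatness of `R ⊗[A₀] S₀`
  have hflatR : Module.Flat R (R ⊗[A₀] S₀) :=
    Module.Flat.of_linearEquiv e.symm.toLinearEquiv
  obtain ⟨i, hi⟩ := (descent4848 (B₀ := S₀) (fun i : Idx A₀ R => (i.1 : Type u)) (trans A₀ R) R
    (isDirectedColimit A₀ R) S₀).mp hflatR
  haveI : Algebra.FiniteType ℤ i.1 := (Subalgebra.fg_iff_finiteType i.1).mp i.2.1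
  haveI : IsScalarTower A₀ i.1 S := IsScalarTower.of_algebraMap_eq fun x => by
    rw [IsScalarTower.algebraMap_apply A₀ R S]
    rfl
  -- the stage
  letI algS₁S : Algebra (i.1 ⊗[A₀] S₀) S := (toS A₀ i.1 S₀ S).toRingHom.toAlgebra
  have hmap : ∀ z : i.1 ⊗[A₀] S₀, algebraMap (i.1 ⊗[A₀] S₀) S z = toS A₀ i.1 S₀ S z := fun _ => rfl
  haveI t1' : IsScalarTower (↥i.1) ((↥i.1) ⊗[A₀] S₀) S := IsScalarTower.of_algebraMap_eq fun (x : ↥i.1) => by
    rw [hmap, Algebra.TensorProduct.algebraMap_apply, toS,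
      Algebra.TensorProduct.productMap_apply_tmul]
    simp
  haveI t2 : IsScalarTower S₀ ((↥i.1) ⊗[A₀] S₀) S := IsScalarTower.of_algebraMap_eq fun (x : S₀) => by
    rw [hmap]
    show _ = toS A₀ i.1 S₀ S (1 ⊗ₜ x)
    rw [toS, Algebra.TensorProduct.productMap_apply_tmul]
    simp
  haveI t3 : IsScalarTower (↥A₀) ((↥i.1) ⊗[A₀] S₀) S := IsScalarTower.of_algebraMap_eq fun (x : ↥A₀) => by
    rw [hmap, AlgHom.commutes]
  have hpo : Algebra.IsPushout i.1 R (i.1 ⊗[A₀] S₀) S :=
    (Algebra.IsPushout.comp_iff A₀ i.1 S₀ (i.1 ⊗[A₀] S₀) (T := R) (T' := S)).mp inferInstance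
  exact ⟨i.1, inferInstance, inferInstance, i.1 ⊗[A₀] S₀, inferInstance, inferInstance, algS₁S,
    inferInstance, inferInstance, t1', inferInstance, inferInstance, hi, hpo⟩

end Groth.Agent.H32.FlatModelAlg
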