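import Groth.Agent.H32.EquivOver

set_option autoImplicit false
open CategoryTheory CategoryTheory.Limits
universe v₄ u₄ v₃ u₃ v₂ u₂ v u

namespace Groth.Agent.H32

variable {C : Type u} [Category.{v} C] {𝒳 : BasedCategory.{v₂, u₂} C}
  {𝒴 : BasedCategory.{v₃, u₃} C} {𝒮 : BasedCategory.{v₄, u₄} C}
  (F : 𝒳 ⥤ᵇ 𝒮) (G : 𝒴 ⥤ᵇ 𝒮)

/-- transfer a hom lift of the first component to the fibre product -/
theorem fp_isHomLift_of_fst {z z' : (FibCat.fp F G).obj} (m : z' ⟶ z) {R S : C} (f : R ⟶ S)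
    [h : 𝒳.p.IsHomLift f m.hom.fst] : (FibCat.fp F G).p.IsHomLift f m := by
  have h1 := IsHomLift.domain_eq 𝒳.p f m.hom.fst
  have h2 := IsHomLift.codomain_eq 𝒳.p f m.hom.fst
  have h3 := IsHomLift.fac 𝒳.p f m.hom.fst
  exact IsHomLift.of_fac (FibCat.fp F G).p f m h1 h2 h3

theorem fp_fst_isHomLift {z z' : (FibCat.fp F G).obj} (m : z' ⟶ z) {R S : C} (f : R ⟶ S)
    [h : (FibCat.fp F G).p.IsHomLift f m] : 𝒳.p.IsHomLift f m.hom.fst := by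
  have h1 := IsHomLift.domain_eq (FibCat.fp F G).p f m
  have h2 := IsHomLift.codomain_eq (FibCat.fp F G).p f m
  have h3 := IsHomLift.fac (FibCat.fp F G).p f m
  exact IsHomLift.of_fac 𝒳.p f m.hom.fst h1 h2 h3

theorem fp_snd_isHomLift {z z' : (FibCat.fp F G).obj} (m : z' ⟶ z) {R S : C} (f : R ⟶ S)
    [h : (FibCat.fp F G).p.IsHomLift f m] : 𝒴.p.IsHomLift f m.hom.snd := by
  have h1 : 𝒴.p.IsHomLift ((FibCat.fp F G).p.map m) m.hom.snd := FibCat.fp_isHomLift_snd F G m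
  have e := IsHomLift.fac (FibCat.fp F G).p f m
  rw [e]
  infer_instance

theorem fp_iso_isHomLift (z : (FibCat.fp F G).obj) :
    𝒮.p.IsHomLift (𝟙 (𝒳.p.obj z.obj.fst)) z.obj.iso.hom := z.property

theorem fp_iso_inv_isHomLift (z : (FibCat.fp F G).obj) :
    𝒮.p.IsHomLift (𝟙 (𝒳.p.obj z.obj.fst)) z.obj.iso.inv := by
  have := fp_iso_isHomLift F G z
  exact IsHomLift.lift_id_inv 𝒮.p _ z.obj.iso

/-- strongly cartesian morphisms of the fibre product, componentwise criterion -/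
theorem fp_isStronglyCartesian {z z' : (FibCat.fp F G).obj} (m : z' ⟶ z) {R S : C} (f : R ⟶ S)
    [h1 : 𝒳.p.IsStronglyCartesian f m.hom.fst] [h2 : 𝒴.p.IsStronglyCartesian f m.hom.snd]
    [h3 : 𝒮.p.IsStronglyCartesian f (G.map m.hom.snd)] :
    (FibCat.fp F G).p.IsStronglyCartesian f m := by
  have hl : (FibCat.fp F G).p.IsHomLift f m := fp_isHomLift_of_fst F G m f
  refine { toIsHomLift := hl, universal_property' := ?_ }
  intro z'' g m' hm'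
  have hm'1 : 𝒳.p.IsHomLift (g ≫ f) m'.hom.fst := fp_fst_isHomLift F G m' (g ≫ f)
  have hm'2 : 𝒴.p.IsHomLift (g ≫ f) m'.hom.snd := fp_snd_isHomLift F G m' (g ≫ f)
  obtain ⟨a', ⟨ha', ha''⟩, huniqa⟩ :=
    Functor.IsStronglyCartesian.universal_property 𝒳.p f m.hom.fst g (g ≫ f) rfl m'.hom.fst
  obtain ⟨b', ⟨hb', hb''⟩, huniqb⟩ :=
    Functor.IsStronglyCartesian.universal_property 𝒴.p f m.hom.snd g (g ≫ f) rfl m'.hom.snd
  have hz' := fp_iso_isHomLift F G z'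
  have hz'' := fp_iso_isHomLift F G z''
  have hw : F.map a' ≫ z'.obj.iso.hom = z''.obj.iso.hom ≫ G.map b' := by
    have hFa' : 𝒮.p.IsHomLift g (F.map a') := inferInstance
    have hGb' : 𝒮.p.IsHomLift g (G.map b') := inferInstance
    have hL : 𝒮.p.IsHomLift g (F.map a' ≫ z'.obj.iso.hom) :=
      IsHomLift.comp_lift_id_right' 𝒮.p g (F.map a') (𝒳.p.obj z'.obj.fst) z'.obj.iso.hom
    have hR : 𝒮.p.IsHomLift g (z''.obj.iso.hom ≫ G.map b') :=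
      IsHomLift.comp_lift_id_left' 𝒮.p (𝒳.p.obj z''.obj.fst) z''.obj.iso.hom g (G.map b')
    apply Functor.IsStronglyCartesian.ext 𝒮.p f (G.map m.hom.snd) g
    rw [Category.assoc, Category.assoc, ← G.map_comp, hb'', ← m.hom.w, ← Category.assoc,
      ← F.map_comp, ha'', m'.hom.w]
  let m'' : z'' ⟶ z' := ObjectProperty.homMk ⟨a', b', hw⟩
  refine ⟨m'', ⟨?_, ?_⟩, ?_⟩
  · have : 𝒳.p.IsHomLift g m''.hom.fst := ha'
    exact fp_isHomLift_of_fst F G m'' g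
  · apply ObjectProperty.hom_ext
    apply CategoricalPullback.hom_ext
    · exact ha''
    · exact hb''
  · rintro n ⟨hn1, hn2⟩
    apply ObjectProperty.hom_ext
    apply CategoricalPullback.hom_ext
    · apply huniqa
      refine ⟨fp_fst_isHomLift F G n g, ?_⟩
      have := congrArg (fun t => t.hom.fst) hn2
      exact this
    · apply huniqb
      refine ⟨fp_snd_isHomLift F G n g, ?_⟩
      have := congrArg (fun t => t.hom.snd) hn2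
      exact this

/-- existence of lifts in the fibre product from componentwise lifts -/
theorem fp_exists_lift (z : (FibCat.fp F G).obj) {V : C} (f : V ⟶ 𝒳.p.obj z.obj.fst)
    {x' : 𝒳.obj} (φ : x' ⟶ z.obj.fst) [hφ : 𝒳.p.IsHomLift f φ]
    {y' : 𝒴.obj} (ψ : y' ⟶ z.obj.snd) [hψ : 𝒴.p.IsHomLift f ψ]
    [hs : 𝒮.p.IsStronglyCartesian f (G.map ψ)]
    (hiso : ∀ θ' : F.obj x' ⟶ G.obj y', 𝒮.p.IsHomLift (𝟙 V) θ' →
      θ' ≫ G.map ψ = F.map φ ≫ z.obj.iso.hom → IsIso θ') :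
    ∃ (z' : (FibCat.fp F G).obj) (m : z' ⟶ z) (hx : z'.obj.fst = x') (hy : z'.obj.snd = y'),
      m.hom.fst = eqToHom hx ≫ φ ∧ m.hom.snd = eqToHom hy ≫ ψ := by
  have hz := fp_iso_isHomLift F G z
  have hFφ : 𝒮.p.IsHomLift f (F.map φ) := inferInstance
  have hl : 𝒮.p.IsHomLift f (F.map φ ≫ z.obj.iso.hom) :=
    IsHomLift.comp_lift_id_right' 𝒮.p f (F.map φ) (𝒳.p.obj z.obj.fst) z.obj.iso.hom
  obtain ⟨θ', ⟨hθ', hθ''⟩, -⟩ :=
    Functor.IsStronglyCartesian.universal_property 𝒮.p f (G.map ψ) (𝟙 V) f (by simp)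
      (F.map φ ≫ z.obj.iso.hom)
  have hθiso : IsIso θ' := hiso θ' hθ' hθ''
  have hV : 𝒳.p.obj x' = V := IsHomLift.domain_eq 𝒳.p f φ
  subst hV
  let z' : (FibCat.fp F G).obj := ⟨⟨x', y', asIso θ'⟩, hθ'⟩
  let m : z' ⟶ z := ObjectProperty.homMk ⟨φ, ψ, hθ''.symm⟩
  exact ⟨z', m, rfl, rfl, by simp [m], by simp [m]⟩

end Groth.Agent.H32

namespace Groth.Agent.H32

variable {C : Type u} [Category.{v} C] {𝒳 : BasedCategory.{v₂, u₂} C}
  {𝒴 : BasedCategory.{v₃, u₃} C} {𝒮 : BasedCategory.{v₄, u₄} C}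
  (F : 𝒳 ⥤ᵇ 𝒮) (G : 𝒴 ⥤ᵇ 𝒮)

theorem fp_snd_obj_eq (z : (FibCat.fp F G).obj) :
    𝒴.p.obj z.obj.snd = 𝒳.p.obj z.obj.fst := by
  have h := fp_iso_isHomLift F G z
  have h1 := IsHomLift.codomain_eq 𝒮.p (𝟙 (𝒳.p.obj z.obj.fst)) z.obj.iso.hom
  rw [← h1]
  exact (G.w_obj z.obj.snd).symm

theorem isFibGrpd_fp (h𝒳 : FibCat.IsFibGrpd 𝒳.p) (h𝒴 : FibCat.IsFibGrpd 𝒴.p)
    (h𝒮 : FibCat.IsFibGrpd 𝒮.p) : FibCat.IsFibGrpd (FibCat.fp F G).p := by
  refine ⟨?_, ?_⟩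
  · intro z V f
    change V ⟶ 𝒳.p.obj z.obj.fst at f
    obtain ⟨x', φ, hφ⟩ := h𝒳.exists_lift (x := z.obj.fst) f
    have hy := fp_snd_obj_eq F G z
    obtain ⟨y', ψ, hψ'⟩ := h𝒴.exists_lift (x := z.obj.snd) (f ≫ eqToHom hy.symm)
    have hψ : 𝒴.p.IsHomLift f ψ := (IsHomLift.lift_comp_eqToHom_iff 𝒴.p f ψ hy.symm).mp hψ'
    have hGψ : 𝒮.p.IsHomLift f (G.map ψ) := inferInstance
    have hs : 𝒮.p.IsStronglyCartesian f (G.map ψ) := isStronglyCartesian_of_fibGrpd 𝒮.p h𝒮 f _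
    obtain ⟨z', m, hx, hy', hm1, hm2⟩ := fp_exists_lift F G z f φ ψ
      (fun θ' hθ' _ => isIso_of_fibGrpd' 𝒮.p h𝒮 (𝟙 V) θ')
    refine ⟨z', m, ?_⟩
    have : 𝒳.p.IsHomLift f m.hom.fst := by rw [hm1]; infer_instance
    exact fp_isHomLift_of_fst F G m f
  · intro z' z m
    have h1 : 𝒳.p.IsStronglyCartesian ((FibCat.fp F G).p.map m) m.hom.fst :=
      h𝒳.isStronglyCartesian m.hom.fst
    have h2l : 𝒴.p.IsHomLift ((FibCat.fp F G).p.map m) m.hom.snd := FibCat.fp_isHomLift_snd F G m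
    have h2 : 𝒴.p.IsStronglyCartesian ((FibCat.fp F G).p.map m) m.hom.snd :=
      isStronglyCartesian_of_fibGrpd 𝒴.p h𝒴 _ _
    have h3l : 𝒮.p.IsHomLift ((FibCat.fp F G).p.map m) (G.map m.hom.snd) := inferInstance
    have h3 : 𝒮.p.IsStronglyCartesian ((FibCat.fp F G).p.map m) (G.map m.hom.snd) :=
      isStronglyCartesian_of_fibGrpd 𝒮.p h𝒮 _ _
    exact fp_isStronglyCartesian F G m _

end Groth.Agent.H32

namespace Groth.Agent.H32

variable {C : Type u} [Category.{v} C] {𝒳 : BasedCategory.{v₂, u₂} C}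
  {𝒴 : BasedCategory.{v₃, u₃} C} {𝒮 : BasedCategory.{v₄, u₄} C}
  (F : 𝒳 ⥤ᵇ 𝒮) (G : 𝒴 ⥤ᵇ 𝒮)

theorem isFibered_fp [𝒳.p.IsFibered] [𝒴.p.IsFibered] [𝒮.p.IsFibered]
    (hF : ∀ {R S : C} (f : R ⟶ S) {a b : 𝒳.obj} (φ : a ⟶ b),
      𝒳.p.IsStronglyCartesian f φ → 𝒮.p.IsStronglyCartesian f (F.map φ))
    (hG : ∀ {R S : C} (f : R ⟶ S) {a b : 𝒴.obj} (φ : a ⟶ b),
      𝒴.p.IsStronglyCartesian f φ → 𝒮.p.IsStronglyCartesian f (G.map φ)) :
    (FibCat.fp F G).p.IsFibered := by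
  apply Functor.IsFibered.of_exists_isStronglyCartesian
  intro z R f
  change R ⟶ 𝒳.p.obj z.obj.fst at f
  obtain ⟨x', φ, hφ⟩ := IsPreFibered.exists_isCartesian 𝒳.p (a := z.obj.fst) rfl f
  obtain ⟨y', ψ, hψ⟩ := IsPreFibered.exists_isCartesian 𝒴.p (a := z.obj.snd)
    (fp_snd_obj_eq F G z) f
  have hφs : 𝒳.p.IsStronglyCartesian f φ := inferInstance
  have hψs : 𝒴.p.IsStronglyCartesian f ψ := inferInstance
  have hFφ : 𝒮.p.IsStronglyCartesian f (F.map φ) := hF f φ hφs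
  have hGψ : 𝒮.p.IsStronglyCartesian f (G.map ψ) := hG f ψ hψs
  have hz := fp_iso_isHomLift F G z
  have hzs : 𝒮.p.IsStronglyCartesian (𝟙 (𝒳.p.obj z.obj.fst)) z.obj.iso.hom := inferInstance
  have hcomp : 𝒮.p.IsStronglyCartesian f (F.map φ ≫ z.obj.iso.hom) := by
    have := Functor.IsStronglyCartesian.comp (p := 𝒮.p) (f := f) (g := 𝟙 (𝒳.p.obj z.obj.fst))
      (φ := F.map φ) (ψ := z.obj.iso.hom)
    rwa [Category.comp_id] at this
  obtain ⟨z', m, hx, hy', hm1, hm2⟩ := fp_exists_lift F G z f φ ψ (by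
    intro θ' hθ' hθ''
    have h1 : 𝒮.p.IsStronglyCartesian (𝟙 R ≫ f) (θ' ≫ G.map ψ) := by
      rw [hθ'', Category.id_comp]; exact hcomp
    have h2 : 𝒮.p.IsStronglyCartesian (𝟙 R) θ' :=
      Functor.IsStronglyCartesian.of_comp 𝒮.p (f := 𝟙 R) (g := f) (φ := θ') (ψ := G.map ψ)
    exact Functor.IsStronglyCartesian.isIso_of_base_isIso 𝒮.p (𝟙 R) θ')
  subst hx
  subst hy'
  simp only [eqToHom_refl, Category.id_comp] at hm1 hm2
  have h1 : 𝒳.p.IsStronglyCartesian f m.hom.fst := by rw [hm1]; exact hφs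
  have h2 : 𝒴.p.IsStronglyCartesian f m.hom.snd := by rw [hm2]; exact hψs
  have h3 : 𝒮.p.IsStronglyCartesian f (G.map m.hom.snd) := by rw [hm2]; exact hGψ
  exact ⟨z', m, fp_isStronglyCartesian F G m f⟩

end Groth.Agent.H32
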