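import Mathlib

set_option autoImplicit false
universe u
open TensorProduct

namespace Groth.Agent.H32

/-- A map from a finitely presented module `P` to `M` killing `x ∈ P ⊗ Q` (after tensoring) factors
through a finitely presented module in which `x` already dies. -/
theorem exists_fp_factor_of_rTensor_eq_zero {R : Type u} [CommRing R] {P M Q : Type u}
    [AddCommGroup P] [Module R P] [Module.FinitePresentation R P] [AddCommGroup M] [Module R M]
    [AddCommGroup Q] [Module R Q] (f : P →ₗ[R] M) (x : P ⊗[R] Q) (hx : f.rTensor Q x = 0) :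
    ∃ (P' : Type u) (_ : AddCommGroup P') (_ : Module R P') (_ : Module.FinitePresentation R P')
      (f' : P →ₗ[R] P') (h : P' →ₗ[R] M), f = h ∘ₗ f' ∧ f'.rTensor Q x = 0 := by
  classical
  obtain ⟨n, L, e, hL⟩ := Module.FinitePresentation.exists_fin R P
  -- the presentation map
  let π : (Fin n → R) →ₗ[R] P := e.symm.toLinearMap ∘ₗ L.mkQ
  have hπsurj : Function.Surjective π := e.symm.surjective.comp (Submodule.mkQ_surjective L)
  have hπL : ∀ l ∈ L, π l = 0 := by
    intro l hl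
    simp only [π, LinearMap.comp_apply, Submodule.mkQ_apply]
    rw [(Submodule.Quotient.mk_eq_zero L).2 hl]
    simp
  -- Step 1: a finitely generated submodule of `M` in which `x` dies
  have hfg : (LinearMap.range f).FG := Submodule.fg_range f
  have h0 : (LinearMap.range f).subtype.rTensor Q (f.rangeRestrict.rTensor Q x) = 0 := by
    rw [← LinearMap.comp_apply, ← LinearMap.rTensor_comp, LinearMap.subtype_comp_codRestrict]
    exact hx
  obtain ⟨M₁, hle, hM₁, h1⟩ := TensorProduct.eq_zero_of_fg_of_subtype_eq_zero hfg h0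
  let f₁ : P →ₗ[R] M₁ := Submodule.inclusion hle ∘ₗ f.rangeRestrict
  have hf₁ : M₁.subtype ∘ₗ f₁ = f := by
    ext y
    rfl
  have hf₁x : f₁.rTensor Q x = 0 := by
    rw [LinearMap.rTensor_comp, LinearMap.comp_apply]
    exact h1
  -- Step 2: present `M₁`
  have : Module.Finite R M₁ := Module.Finite.iff_fg.2 hM₁
  obtain ⟨r, p, hp⟩ := Module.Finite.exists_fin' R M₁
  let p' : ((Fin n → R) × (Fin r → R)) →ₗ[R] M₁ := (f₁ ∘ₗ π).coprod p
  have hp'surj : Function.Surjective p' := by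
    intro y
    obtain ⟨b, rfl⟩ := hp y
    exact ⟨(0, b), by simp [p']⟩
  let ψ : (Fin n → R) →ₗ[R] ((Fin n → R) × (Fin r → R)) := LinearMap.inl R _ _
  have hp'ψ : p' ∘ₗ ψ = f₁ ∘ₗ π := by
    ext a
    simp [p', ψ]
  obtain ⟨x', rfl⟩ := LinearMap.rTensor_surjective Q hπsurj x
  have hw : p'.rTensor Q (ψ.rTensor Q x') = 0 := by
    rw [← LinearMap.comp_apply, ← LinearMap.rTensor_comp, hp'ψ, LinearMap.rTensor_comp,
      LinearMap.comp_apply]
    exact hf₁x
  have hexact := rTensor_exact Q (LinearMap.exact_subtype_ker_map p') hp'surj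
  obtain ⟨v, hv⟩ := (hexact _).1 hw
  obtain ⟨K₁, hK₁, v₁, hv₁⟩ := TensorProduct.exists_of_fg v
  let K' : Submodule R ((Fin n → R) × (Fin r → R)) :=
    L.map ψ ⊔ K₁.map (LinearMap.ker p').subtype
  have hK'fg : K'.FG := (hL.map ψ).sup (hK₁.map _)
  have hK'le : K' ≤ LinearMap.ker p' := by
    refine sup_le ?_ (Submodule.map_subtype_le _ _)
    rintro _ ⟨l, hl, rfl⟩
    rw [LinearMap.mem_ker, ← LinearMap.comp_apply, hp'ψ, LinearMap.comp_apply, hπL l hl, map_zero]
  have : Module.FinitePresentation R (((Fin n → R) × (Fin r → R)) ⧸ K') :=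
    Module.finitePresentation_of_surjective K'.mkQ (Submodule.mkQ_surjective K')
      (by rw [Submodule.ker_mkQ]; exact hK'fg)
  have hLle : L ≤ LinearMap.ker (K'.mkQ ∘ₗ ψ) := by
    intro l hl
    rw [LinearMap.mem_ker, LinearMap.comp_apply, Submodule.mkQ_apply, Submodule.Quotient.mk_eq_zero]
    exact Submodule.mem_sup_left ⟨l, hl, rfl⟩
  let f' : P →ₗ[R] (((Fin n → R) × (Fin r → R)) ⧸ K') := L.liftQ (K'.mkQ ∘ₗ ψ) hLle ∘ₗ e.toLinearMap
  let h : (((Fin n → R) × (Fin r → R)) ⧸ K') →ₗ[R] M :=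
    K'.liftQ (M₁.subtype ∘ₗ p') (fun z hz => by
      rw [LinearMap.mem_ker, LinearMap.comp_apply, LinearMap.mem_ker.1 (hK'le hz), map_zero])
  have hf'π : f' ∘ₗ π = K'.mkQ ∘ₗ ψ := by
    ext a
    simp [f', π]
  refine ⟨_, inferInstance, inferInstance, this, f', h, ?_, ?_⟩
  · apply LinearMap.ext
    intro y
    obtain ⟨a, rfl⟩ := hπsurj y
    have h2 : f' (π a) = K'.mkQ (ψ a) := LinearMap.congr_fun hf'π a
    change f (π a) = h (f' (π a))
    rw [h2]
    simp only [h, Submodule.mkQ_apply, Submodule.liftQ_apply, LinearMap.comp_apply]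
    have h3 : p' (ψ a) = f₁ (π a) := LinearMap.congr_fun hp'ψ a
    rw [h3]
    exact (LinearMap.congr_fun hf₁ (π a)).symm
  · rw [← LinearMap.comp_apply, ← LinearMap.rTensor_comp, hf'π, LinearMap.rTensor_comp,
      LinearMap.comp_apply, ← hv, ← hv₁, ← LinearMap.comp_apply, ← LinearMap.comp_apply,
      ← LinearMap.rTensor_comp, ← LinearMap.rTensor_comp]
    have hzero : K'.mkQ ∘ₗ (LinearMap.ker p').subtype ∘ₗ K₁.subtype = 0 := by
      ext z
      simp only [LinearMap.comp_apply, Submodule.subtype_apply, Submodule.mkQ_apply,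
        LinearMap.zero_apply]
      rw [Submodule.Quotient.mk_eq_zero]
      exact Submodule.mem_sup_right ⟨z.1, z.2, rfl⟩
    rw [LinearMap.comp_assoc, hzero, LinearMap.rTensor_zero, LinearMap.zero_apply]


/-- `lTensor` version of `exists_fp_factor_of_rTensor_eq_zero`. -/
theorem exists_fp_factor_of_lTensor_eq_zero {R : Type u} [CommRing R] {P M Q : Type u}
    [AddCommGroup P] [Module R P] [Module.FinitePresentation R P] [AddCommGroup M] [Module R M]
    [AddCommGroup Q] [Module R Q] (f : P →ₗ[R] M) (x : Q ⊗[R] P) (hx : f.lTensor Q x = 0) :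
    ∃ (P' : Type u) (_ : AddCommGroup P') (_ : Module R P') (_ : Module.FinitePresentation R P')
      (f' : P →ₗ[R] P') (h : P' →ₗ[R] M), f = h ∘ₗ f' ∧ f'.lTensor Q x = 0 := by
  have hx' : f.rTensor Q (TensorProduct.comm R Q P x) = 0 := by
    rw [LinearMap.rTensor_comm, hx, map_zero]
  obtain ⟨P', i1, i2, i3, f', h, hf, hf'⟩ := exists_fp_factor_of_rTensor_eq_zero f _ hx'
  refine ⟨P', i1, i2, i3, f', h, hf, ?_⟩
  rw [LinearMap.rTensor_comm] at hf'
  exact (TensorProduct.comm R Q P').injective (hf'.trans (map_zero _).symm)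

/-- every element of `M ⊗ Q` comes from `M ⊗ Rⁿ` -/
theorem exists_fin_lTensor_eq {R : Type u} [CommRing R] {M Q : Type u}
    [AddCommGroup M] [Module R M] [AddCommGroup Q] [Module R Q] (x : M ⊗[R] Q) :
    ∃ (n : ℕ) (φ : (Fin n → R) →ₗ[R] Q) (x' : M ⊗[R] (Fin n → R)), φ.lTensor M x' = x := by
  obtain ⟨Q₀, hQ₀, hxQ₀⟩ :=
    TensorProduct.exists_finite_submodule_right_of_setFinite {x} (Set.finite_singleton x)
  obtain ⟨x₀, hx₀⟩ := hxQ₀ (Set.mem_singleton x)
  obtain ⟨n, p, hp⟩ := Module.Finite.exists_fin' R Q₀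
  obtain ⟨x', hx'⟩ := LinearMap.lTensor_surjective M hp x₀
  refine ⟨n, Q₀.subtype ∘ₗ p, x', ?_⟩
  rw [LinearMap.lTensor_comp, LinearMap.comp_apply, hx', hx₀]

/-- Domination can be tested on finitely presented modules. -/
theorem dominates_of_forall_finitePresentation {R : Type u} [CommRing R] {M N M' : Type u}
    [AddCommGroup M] [Module R M] [AddCommGroup N] [Module R N] [AddCommGroup M'] [Module R M']
    (f : M →ₗ[R] N) (g : M →ₗ[R] M')
    (hfp : ∀ (Q : Type u) [AddCommGroup Q] [Module R Q], Module.FinitePresentation R Q →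
        LinearMap.ker (f.rTensor Q) ≤ LinearMap.ker (g.rTensor Q))
    (Q : Type u) [AddCommGroup Q] [Module R Q] :
    LinearMap.ker (f.rTensor Q) ≤ LinearMap.ker (g.rTensor Q) := by
  intro x hx
  rw [LinearMap.mem_ker] at hx ⊢
  obtain ⟨n, φ, x', hφ⟩ := exists_fin_lTensor_eq x
  have hy : φ.lTensor N (f.rTensor _ x') = 0 := by
    rw [← LinearMap.comp_apply, LinearMap.lTensor_comp_rTensor, ← LinearMap.rTensor_comp_lTensor,
      LinearMap.comp_apply, hφ, hx]
  obtain ⟨Q', _, _, hQ', φ', h, hφh, hφ'⟩ := exists_fp_factor_of_lTensor_eq_zero φ _ hy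
  have h1 : f.rTensor Q' (φ'.lTensor M x') = 0 := by
    rw [← LinearMap.comp_apply, LinearMap.rTensor_comp_lTensor, ← LinearMap.lTensor_comp_rTensor,
      LinearMap.comp_apply, hφ']
  have h2 : g.rTensor Q' (φ'.lTensor M x') = 0 := hfp Q' hQ' h1
  rw [← hφ, hφh, LinearMap.lTensor_comp, LinearMap.comp_apply, ← LinearMap.comp_apply (g.rTensor Q),
    LinearMap.rTensor_comp_lTensor, ← LinearMap.lTensor_comp_rTensor, LinearMap.comp_apply, h2,
    map_zero]

end Groth.Agent.H32
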