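import Mathlib.CategoryTheory.FiberedCategory.Fibered
import Mathlib.CategoryTheory.Comma.Over.Basic

set_option autoImplicit false
open CategoryTheory
universe v₁ u₁ v₂ u₂

namespace Groth.Agent.H32

section generic
variable {𝒮 : Type u₁} [Category.{v₁} 𝒮] {C : Type u₂} [Category.{v₂} C] (p : 𝒮 ⥤ C)

theorem strong_of_homLift {R S : C} (f : R ⟶ S) {a b : 𝒮} (φ : a ⟶ b) [hl : p.IsHomLift f φ]
    (h : p.IsStronglyCartesian (p.map φ) φ) : p.IsStronglyCartesian f φ := by
  obtain ⟨⟩ := hl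
  exact h

theorem strong_map_of_strong {R S : C} (f : R ⟶ S) {a b : 𝒮} (φ : a ⟶ b)
    [h : p.IsStronglyCartesian f φ] : p.IsStronglyCartesian (p.map φ) φ := by
  have hl : p.IsHomLift f φ := inferInstance
  obtain ⟨⟩ := hl
  exact h

end generic

section over
variable {𝒮 : Type u₁} [Category.{v₁} 𝒮] {C : Type u₂} [Category.{v₂} C] {U : C}
  (p' : 𝒮 ⥤ Over U)

theorem over_obj_ext {X Y : Over U} (h : X.left = Y.left) (h' : X.hom = eqToHom h ≫ Y.hom) :
    X = Y := by
  obtain ⟨l, r, f⟩ := X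
  obtain ⟨l', r', f'⟩ := Y
  obtain rfl : r = r' := Subsingleton.elim _ _
  change l = l' at h
  subst h
  simp only [eqToHom_refl, Category.id_comp] at h'
  change f = f' at h'
  subst h'
  rfl

theorem over_strong (a b : 𝒮) (φ : a ⟶ b)
    (h : (p' ⋙ Over.forget U).IsStronglyCartesian ((p' ⋙ Over.forget U).map φ) φ) :
    p'.IsStronglyCartesian (p'.map φ) φ := by
  refine { toIsHomLift := IsHomLift.map p' φ, universal_property' := ?_ }
  intro a' g φ' hφ'
  have e : g ≫ p'.map φ = p'.map φ' := IsHomLift.eq_of_isHomLift p' _ φ'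
  let g' : (p' ⋙ Over.forget U).obj a' ⟶ (p' ⋙ Over.forget U).obj a := g.left
  have hl : (p' ⋙ Over.forget U).IsHomLift (g' ≫ (p' ⋙ Over.forget U).map φ) φ' := by
    have : g' ≫ (p' ⋙ Over.forget U).map φ = (p' ⋙ Over.forget U).map φ' := by
      change g.left ≫ (p'.map φ).left = (p'.map φ').left
      rw [← e]; rfl
    rw [this]; exact IsHomLift.map _ _
  obtain ⟨χ, ⟨hχ, hχ'⟩, huniq⟩ :=
    Functor.IsStronglyCartesian.universal_property' (p := p' ⋙ Over.forget U)
      (f := (p' ⋙ Over.forget U).map φ) (φ := φ) (a' := a') g' φ'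
  have eχ : g.left = (p'.map χ).left := IsHomLift.eq_of_isHomLift (p' ⋙ Over.forget U) g' χ
  refine ⟨χ, ⟨?_, hχ'⟩, ?_⟩
  · have : g = p'.map χ := Over.OverMorphism.ext eχ
    rw [this]; exact IsHomLift.map _ _
  · rintro χ' ⟨h1, h2⟩
    apply huniq
    refine ⟨?_, h2⟩
    have : g = p'.map χ' := IsHomLift.eq_of_isHomLift p' g χ'
    have e' : g' = (p' ⋙ Over.forget U).map χ' := by
      change g.left = (p'.map χ').left
      rw [this]
    rw [e']; exact IsHomLift.map (p' ⋙ Over.forget U) χ'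

theorem over_lift {a b : 𝒮} {R : Over U} (f : R ⟶ p'.obj a) (φ : b ⟶ a)
    (h : (p' ⋙ Over.forget U).IsHomLift f.left φ) : p'.IsHomLift f φ := by
  have hd : (p'.obj b).left = R.left := IsHomLift.domain_eq (p' ⋙ Over.forget U) f.left φ
  have hf : f.left = eqToHom hd.symm ≫ (p'.map φ).left := by
    have := IsHomLift.fac (p' ⋙ Over.forget U) f.left φ
    simpa using this
  have hb : p'.obj b = R := by
    apply over_obj_ext hd
    have w1 := Over.w (p'.map φ)
    have w2 := Over.w f
    rw [← w1, ← w2, hf]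
    simp
  apply IsHomLift.of_fac p' f φ hb rfl
  apply Over.OverMorphism.ext
  simp only [eqToHom_refl, Category.comp_id, Over.comp_left, Over.eqToHom_left]
  exact hf

end over

end Groth.Agent.H32
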