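import Groth.Agent.H32.Fp
import Groth.Agent.H32.OverFib

set_option autoImplicit false
open CategoryTheory CategoryTheory.Limits
universe v₄ u₄ v₃ u₃ v₂ u₂ v u

namespace Groth.Agent.H32

section
variable {𝒮 : Type u₂} [Category.{v₂} 𝒮] {C : Type u} [Category.{v} C] (p : 𝒮 ⥤ C)

theorem isHomLift_unique {R S : C} (f f' : R ⟶ S) {a b : 𝒮} (φ : a ⟶ b)
    (h : p.IsHomLift f φ) (h' : p.IsHomLift f' φ) : f = f' := by
  rw [IsHomLift.fac p f φ, IsHomLift.fac p f' φ]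

theorem eq_of_isHomLift' {a b : 𝒮} (f : p.obj a ⟶ p.obj b) (φ : a ⟶ b)
    (h : p.IsHomLift f φ) : f = p.map φ :=
  IsHomLift.eq_of_isHomLift p f φ

end

section
variable {C : Type u} [Category.{v} C]

theorem isFibGrpd_overForget (U : C) : FibCat.IsFibGrpd (Over.forget U) := by
  refine ⟨?_, ?_⟩
  · intro x V f
    let f' : V ⟶ x.left := f
    refine ⟨Over.mk (f' ≫ x.hom), Over.homMk f' rfl, ?_⟩
    exact IsHomLift.map (Over.forget U) (Over.homMk f' rfl : Over.mk (f' ≫ x.hom) ⟶ x)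
  · intro y x φ
    refine { toIsHomLift := IsHomLift.map _ φ, universal_property' := ?_ }
    intro z g φ' hφ'
    let g' : z.left ⟶ y.left := g
    have e : g' ≫ φ.left = φ'.left :=
      eq_of_isHomLift' (Over.forget U) (g ≫ (Over.forget U).map φ) φ' hφ'
    have w : g' ≫ y.hom = z.hom := by
      rw [← Over.w φ, ← Category.assoc, e, Over.w φ']
    refine ⟨Over.homMk g' w, ⟨?_, ?_⟩, ?_⟩
    · exact IsHomLift.map (Over.forget U) (Over.homMk g' w : z ⟶ y)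
    · apply Over.OverMorphism.ext
      simpa using e
    · rintro χ ⟨h1, h2⟩
      apply Over.OverMorphism.ext
      have : g' = χ.left := eq_of_isHomLift' (Over.forget U) g χ h1
      simp [this]

end

variable {C : Type u} [Category.{v} C] {𝒳 : BasedCategory.{v₂, u₂} C}
  {𝒴 : BasedCategory.{v₃, u₃} C} {𝒮 : BasedCategory.{v₄, u₄} C}
  (F : 𝒳 ⥤ᵇ 𝒮) (G : 𝒴 ⥤ᵇ 𝒮)

/-- the base morphism under the second component of a morphism of the fibre product -/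
theorem fp_snd_isHomLift' {z z' : (FibCat.fp F G).obj} (m : z' ⟶ z) :
    𝒴.p.IsHomLift (𝒳.p.map m.hom.fst) m.hom.snd := FibCat.fp_isHomLift_snd F G m

theorem fpSnd_lift (h𝒳 : FibCat.IsFibGrpd 𝒳.p) (h𝒮 : FibCat.IsFibGrpd 𝒮.p)
    (z : (FibCat.fp F G).obj) {V : 𝒴.obj} (b : V ⟶ z.obj.snd) :
    ∃ (z' : (FibCat.fp F G).obj) (m : z' ⟶ z) (hy : z'.obj.snd = V),
      m.hom.snd = eqToHom hy ≫ b := by
  have hy := fp_snd_obj_eq F G z
  let f : 𝒴.p.obj V ⟶ 𝒳.p.obj z.obj.fst := 𝒴.p.map b ≫ eqToHom hy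
  have hb : 𝒴.p.IsHomLift f b := inferInstance
  obtain ⟨x', φ, hφ⟩ := h𝒳.exists_lift (x := z.obj.fst) f
  have hGb : 𝒮.p.IsHomLift f (G.map b) := inferInstance
  have hs : 𝒮.p.IsStronglyCartesian f (G.map b) := isStronglyCartesian_of_fibGrpd 𝒮.p h𝒮 f _
  obtain ⟨z', m, hx, hy', hm1, hm2⟩ := fp_exists_lift F G z f φ b
    (fun θ' hθ' _ => isIso_of_fibGrpd' 𝒮.p h𝒮 (𝟙 (𝒴.p.obj V)) θ')
  exact ⟨z', m, hy', hm2⟩

theorem fpSnd_univ (h𝒳 : FibCat.IsFibGrpd 𝒳.p) (h𝒮 : FibCat.IsFibGrpd 𝒮.p)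
    {z'' z' z : (FibCat.fp F G).obj} (m : z' ⟶ z) (β : z''.obj.snd ⟶ z'.obj.snd)
    (m' : z'' ⟶ z) (e : β ≫ m.hom.snd = m'.hom.snd) :
    ∃ m'' : z'' ⟶ z', (m''.hom.snd = β ∧ m'' ≫ m = m') ∧
      ∀ n : z'' ⟶ z', n.hom.snd = β → n ≫ m = m' → n = m'' := by
  let f : 𝒳.p.obj z'.obj.fst ⟶ 𝒳.p.obj z.obj.fst := 𝒳.p.map m.hom.fst
  let g : 𝒳.p.obj z''.obj.fst ⟶ 𝒳.p.obj z'.obj.fst :=
    eqToHom (fp_snd_obj_eq F G z'').symm ≫ 𝒴.p.map β ≫ eqToHom (fp_snd_obj_eq F G z')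
  have hβ : 𝒴.p.IsHomLift g β :=
    IsHomLift.of_fac 𝒴.p g β (fp_snd_obj_eq F G z'') (fp_snd_obj_eq F G z') rfl
  have hms : 𝒴.p.IsHomLift f m.hom.snd := fp_snd_isHomLift' F G m
  have hm's : 𝒴.p.IsHomLift (𝒳.p.map m'.hom.fst) m'.hom.snd := fp_snd_isHomLift' F G m'
  have hm's' : 𝒴.p.IsHomLift (g ≫ f) m'.hom.snd := by rw [← e]; infer_instance
  have e2 : 𝒳.p.map m'.hom.fst = g ≫ f := isHomLift_unique 𝒴.p _ _ m'.hom.snd hm's hm's'
  have hm'f : 𝒳.p.IsHomLift (g ≫ f) m'.hom.fst := by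
    rw [← e2]; exact IsHomLift.map 𝒳.p m'.hom.fst
  have hmf : 𝒳.p.IsStronglyCartesian f m.hom.fst := h𝒳.isStronglyCartesian m.hom.fst
  have hGms : 𝒮.p.IsHomLift f (G.map m.hom.snd) := inferInstance
  have hGmss : 𝒮.p.IsStronglyCartesian f (G.map m.hom.snd) :=
    isStronglyCartesian_of_fibGrpd 𝒮.p h𝒮 f _
  obtain ⟨a', ⟨ha', ha''⟩, huniqa⟩ :=
    Functor.IsStronglyCartesian.universal_property 𝒳.p f m.hom.fst g (g ≫ f) rfl m'.hom.fst
  have hz' := fp_iso_isHomLift F G z'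
  have hz'' := fp_iso_isHomLift F G z''
  have hw : F.map a' ≫ z'.obj.iso.hom = z''.obj.iso.hom ≫ G.map β := by
    have hFa' : 𝒮.p.IsHomLift g (F.map a') := inferInstance
    have hGb' : 𝒮.p.IsHomLift g (G.map β) := inferInstance
    have hL : 𝒮.p.IsHomLift g (F.map a' ≫ z'.obj.iso.hom) :=
      IsHomLift.comp_lift_id_right' 𝒮.p g (F.map a') (𝒳.p.obj z'.obj.fst) z'.obj.iso.hom
    have hR : 𝒮.p.IsHomLift g (z''.obj.iso.hom ≫ G.map β) :=
      IsHomLift.comp_lift_id_left' 𝒮.p (𝒳.p.obj z''.obj.fst) z''.obj.iso.hom g (G.map β)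
    apply Functor.IsStronglyCartesian.ext 𝒮.p f (G.map m.hom.snd) g
    rw [Category.assoc, Category.assoc, ← G.map_comp, e, ← m.hom.w, ← Category.assoc,
      ← F.map_comp, ha'', m'.hom.w]
  let m'' : z'' ⟶ z' := ObjectProperty.homMk ⟨a', β, hw⟩
  refine ⟨m'', ⟨rfl, ?_⟩, ?_⟩
  · apply ObjectProperty.hom_ext
    apply CategoricalPullback.hom_ext
    · exact ha''
    · exact e
  · intro n hn1 hn2
    apply ObjectProperty.hom_ext
    apply CategoricalPullback.hom_ext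
    · apply huniqa
      refine ⟨?_, ?_⟩
      · have h1 : 𝒴.p.IsHomLift (𝒳.p.map n.hom.fst) n.hom.snd := fp_snd_isHomLift' F G n
        have h2 : 𝒴.p.IsHomLift g n.hom.snd := by rw [hn1]; exact hβ
        have e3 : 𝒳.p.map n.hom.fst = g := isHomLift_unique 𝒴.p _ _ n.hom.snd h1 h2
        rw [← e3]; exact IsHomLift.map 𝒳.p n.hom.fst
      · exact congrArg (fun t => t.hom.fst) hn2
    · exact hn1

theorem isFibGrpd_fpSnd (h𝒳 : FibCat.IsFibGrpd 𝒳.p)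
    (h𝒮 : FibCat.IsFibGrpd 𝒮.p) : FibCat.IsFibGrpd (FibCat.fpSnd F G).toFunctor := by
  refine ⟨?_, ?_⟩
  · intro z V b
    obtain ⟨z', m, hy, hm⟩ := fpSnd_lift F G h𝒳 h𝒮 z b
    subst hy
    refine ⟨z', m, ?_⟩
    have : b = (FibCat.fpSnd F G).toFunctor.map m := by
      rw [eqToHom_refl, Category.id_comp] at hm
      exact hm.symm
    rw [this]
    exact IsHomLift.map (FibCat.fpSnd F G).toFunctor m
  · intro z' z m
    refine { toIsHomLift := IsHomLift.map _ m, universal_property' := ?_ }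
    intro z'' β m' hm'
    have e : β ≫ m.hom.snd = m'.hom.snd :=
      eq_of_isHomLift' (FibCat.fpSnd F G).toFunctor
        (β ≫ (FibCat.fpSnd F G).toFunctor.map m) m' hm'
    obtain ⟨m'', ⟨h1, h2⟩, huniq⟩ := fpSnd_univ F G h𝒳 h𝒮 m β m' e
    refine ⟨m'', ⟨?_, h2⟩, ?_⟩
    · have : β = (FibCat.fpSnd F G).toFunctor.map m'' := h1.symm
      rw [this]
      exact IsHomLift.map (FibCat.fpSnd F G).toFunctor m''
    · rintro n ⟨hn1, hn2⟩
      apply huniq n _ hn2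
      exact (eq_of_isHomLift' (FibCat.fpSnd F G).toFunctor β n hn1).symm

end Groth.Agent.H32
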