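import Mathlib
import Groth.Prelude.Def_FlatCA

/-!
# Maps of free modules over a local ring injective modulo the maximal ideal (helper32)

A linear map between free modules (of arbitrary rank) over a local ring which is injective modulo
the maximal ideal is universally injective.
-/

set_option autoImplicit false
universe u

open TensorProduct IsLocalRing

namespace Groth.Agent.H32.FreeUnivInj

variable {R : Type u} [CommRing R]

theorem range_lTensor_subtype_mono {M : Type*} [AddCommGroup M] [Module R M]
    (Q : Type*) [AddCommGroup Q] [Module R Q] {A B : Submodule R M} (h : A ≤ B) :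
    LinearMap.range (A.subtype.lTensor Q) ≤ LinearMap.range (B.subtype.lTensor Q) := by
  have : A.subtype = B.subtype ∘ₗ Submodule.inclusion h := by
    ext x; rfl
  rw [this, LinearMap.lTensor_comp]
  exact LinearMap.range_comp_le_range _ _

/-- every element of `Q ⊗ (ι →₀ R)` comes from a finitely supported piece -/
theorem exists_finset_mem_range_lTensor (Q : Type*) [AddCommGroup Q] [Module R Q] (ι : Type*)
    (z : Q ⊗[R] (ι →₀ R)) :
    ∃ J : Finset ι,
      z ∈ LinearMap.range ((Finsupp.supported R R (J : Set ι)).subtype.lTensor Q) := by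
  classical
  induction z using TensorProduct.induction_on with
  | zero => exact ⟨∅, zero_mem _⟩
  | tmul q f =>
    refine ⟨f.support, ⟨q ⊗ₜ ⟨f, ?_⟩, rfl⟩⟩
    rw [Finsupp.mem_supported]
  | add y z hy hz =>
    obtain ⟨J₁, h₁⟩ := hy
    obtain ⟨J₂, h₂⟩ := hz
    refine ⟨J₁ ∪ J₂, add_mem ?_ ?_⟩
    · refine range_lTensor_subtype_mono Q (Finsupp.supported_mono ?_) h₁
      simp
    · refine range_lTensor_subtype_mono Q (Finsupp.supported_mono ?_) h₂
      simp

theorem univInj_of_forall_finset_leftInverse {ι ι' : Type u}
    (φ : (ι →₀ R) →ₗ[R] (ι' →₀ R))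
    (h : ∀ J : Finset ι, ∃ g : (ι' →₀ R) →ₗ[R] Finsupp.supported R R (J : Set ι),
      g ∘ₗ φ ∘ₗ (Finsupp.supported R R (J : Set ι)).subtype = LinearMap.id) :
    FlatCA.UnivInj R φ := by
  intro Q _ _
  rw [injective_iff_map_eq_zero]
  intro z hz
  obtain ⟨J, w, rfl⟩ := exists_finset_mem_range_lTensor Q ι z
  obtain ⟨g, hg⟩ := h J
  have : (g.lTensor Q) ((φ.lTensor Q) (((Finsupp.supported R R (J : Set ι)).subtype.lTensor Q) w))
      = w := by
    rw [← LinearMap.comp_apply, ← LinearMap.comp_apply, ← LinearMap.lTensor_comp,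
      ← LinearMap.lTensor_comp, LinearMap.comp_assoc, hg]
    simp
  rw [hz, map_zero] at this
  rw [← this, map_zero]

theorem univInj_finsupp_of_lTensor_residueField_injective [IsLocalRing R] {ι ι' : Type u}
    (φ : (ι →₀ R) →ₗ[R] (ι' →₀ R))
    (h : Function.Injective (φ.lTensor (ResidueField R))) : FlatCA.UnivInj R φ := by
  classical
  apply univInj_of_forall_finset_leftInverse
  intro J
  let J' : Finset ι' := J.biUnion (fun j => (φ (Finsupp.single j 1)).support)
  have hJ' : Finsupp.supported R R (J : Set ι) ≤
      (Finsupp.supported R R (J' : Set ι')).comap φ := by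
    rw [Finsupp.supported_eq_span_single, Submodule.span_le]
    rintro _ ⟨j, hj, rfl⟩
    change φ (Finsupp.single j 1) ∈ Finsupp.supported R R (J' : Set ι')
    rw [Finsupp.mem_supported]
    intro i hi
    exact Finset.mem_biUnion.mpr ⟨j, hj, hi⟩
  let i := (Finsupp.supported R R (J : Set ι)).subtype
  let i' := (Finsupp.supported R R (J' : Set ι')).subtype
  let l : Finsupp.supported R R (J : Set ι) →ₗ[R] Finsupp.supported R R (J' : Set ι') :=
    (φ ∘ₗ i).codRestrict _ (fun x => hJ' x.2)
  have hil : i' ∘ₗ l = φ ∘ₗ i := LinearMap.subtype_comp_codRestrict _ _ _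
  haveI : Module.Finite R (Finsupp.supported R R (J : Set ι)) :=
    Module.Finite.equiv (Finsupp.supportedEquivFinsupp (M := R) (R := R) (J : Set ι)).symm
  haveI : Module.Finite R (Finsupp.supported R R (J' : Set ι')) :=
    Module.Finite.equiv (Finsupp.supportedEquivFinsupp (M := R) (R := R) (J' : Set ι')).symm
  haveI : Module.Free R (Finsupp.supported R R (J' : Set ι')) :=
    Module.Free.of_equiv (Finsupp.supportedEquivFinsupp (M := R) (R := R) (J' : Set ι')).symm
  have hi : Function.Injective (i.lTensor (ResidueField R)) := by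
    have : (Finsupp.restrictDom R R (J : Set ι)).lTensor (ResidueField R) ∘ₗ
        i.lTensor (ResidueField R) = LinearMap.id := by
      rw [← LinearMap.lTensor_comp, Finsupp.restrictDom_comp_subtype, LinearMap.lTensor_id]
    exact Function.HasLeftInverse.injective ⟨_, LinearMap.congr_fun this⟩
  have hl : Function.Injective (l.lTensor (ResidueField R)) := by
    have h1 : Function.Injective (i'.lTensor (ResidueField R) ∘ l.lTensor (ResidueField R)) := by
      have : (i'.lTensor (ResidueField R) ∘ l.lTensor (ResidueField R)) =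
          (φ.lTensor (ResidueField R) ∘ i.lTensor (ResidueField R)) := by
        rw [← LinearMap.coe_comp, ← LinearMap.coe_comp, ← LinearMap.lTensor_comp,
          ← LinearMap.lTensor_comp, hil]
      rw [this]
      exact h.comp hi
    exact Function.Injective.of_comp h1
  have hsplit := IsLocalRing.split_injective_iff_lTensor_residueField_injective
    (M := ↥(Finsupp.supported R R (J : Set ι))) (N := ↥(Finsupp.supported R R (J' : Set ι'))) l
  obtain ⟨l', hl'⟩ := hsplit.mpr hl
  refine ⟨l' ∘ₗ Finsupp.restrictDom R R (J' : Set ι'), ?_⟩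
  rw [LinearMap.comp_assoc, ← hil, ← LinearMap.comp_assoc _ i',
    Finsupp.restrictDom_comp_subtype, LinearMap.id_comp, hl']

theorem univInj_of_free_of_lTensor_residueField_injective [IsLocalRing R] {F F' : Type u}
    [AddCommGroup F] [Module R F] [AddCommGroup F'] [Module R F'] [Module.Free R F]
    [Module.Free R F'] (φ : F →ₗ[R] F')
    (h : Function.Injective (φ.lTensor (ResidueField R))) : FlatCA.UnivInj R φ := by
  let e := (Module.Free.chooseBasis R F).repr
  let e' := (Module.Free.chooseBasis R F').repr
  let φ' := e'.toLinearMap ∘ₗ φ ∘ₗ e.symm.toLinearMap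
  have hφ' : Function.Injective (φ'.lTensor (ResidueField R)) := by
    simp only [φ', LinearMap.lTensor_comp]
    exact ((LinearEquiv.lTensor (ResidueField R) e').injective.comp h).comp
      (LinearEquiv.lTensor (ResidueField R) e.symm).injective
  have h1 := univInj_finsupp_of_lTensor_residueField_injective φ' hφ'
  intro Q _ _
  have h2 := h1 Q
  have : φ = e'.symm.toLinearMap ∘ₗ φ' ∘ₗ e.toLinearMap := by
    ext x; simp [φ']
  rw [this]
  simp only [LinearMap.lTensor_comp]
  exact ((LinearEquiv.lTensor Q e'.symm).injective.comp h2).comp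
    (LinearEquiv.lTensor Q e).injective

end Groth.Agent.H32.FreeUnivInj
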