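import Groth.Agent.H32.FpProj

set_option autoImplicit false
open CategoryTheory CategoryTheory.Limits
universe v₄ u₄ v₃ u₃ v₂ u₂ v u

namespace Groth.Agent.H32

variable {C : Type u} [Category.{v} C] {𝒳 : BasedCategory.{v₂, u₂} C}
  {𝒴 : BasedCategory.{v₃, u₃} C} (F : 𝒳 ⥤ᵇ 𝒴)

theorem inertia_aut_isHomLift (x : FibCat.InertiaObj F) :
    𝒳.p.IsHomLift (𝟙 (𝒳.p.obj x.pt)) x.aut.hom := by
  have h : 𝒴.p.IsHomLift (𝟙 (𝒳.p.obj x.pt)) (F.map x.aut.hom) := by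
    rw [x.map_aut]; infer_instance
  exact BasedFunctor.isHomLift_map F _ _

theorem inertia_aut_inv_isHomLift (x : FibCat.InertiaObj F) :
    𝒳.p.IsHomLift (𝟙 (𝒳.p.obj x.pt)) x.aut.inv := by
  have := inertia_aut_isHomLift F x
  exact IsHomLift.lift_id_inv 𝒳.p _ x.aut

theorem inertia_isHomLift_of_hom {x y : (FibCat.inertia F).obj} (m : y ⟶ x) {R S : C} (f : R ⟶ S)
    (h : 𝒳.p.IsHomLift f m.hom) : (FibCat.inertia F).p.IsHomLift f m := by
  have h1 := IsHomLift.domain_eq 𝒳.p f m.hom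
  have h2 := IsHomLift.codomain_eq 𝒳.p f m.hom
  have h3 := IsHomLift.fac 𝒳.p f m.hom
  exact IsHomLift.of_fac (FibCat.inertia F).p f m h1 h2 h3

theorem inertia_hom_isHomLift {x y : (FibCat.inertia F).obj} (m : y ⟶ x) {R S : C} (f : R ⟶ S)
    (h : (FibCat.inertia F).p.IsHomLift f m) : 𝒳.p.IsHomLift f m.hom := by
  have h1 := IsHomLift.domain_eq (FibCat.inertia F).p f m
  have h2 := IsHomLift.codomain_eq (FibCat.inertia F).p f m
  have h3 := IsHomLift.fac (FibCat.inertia F).p f m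
  exact IsHomLift.of_fac 𝒳.p f m.hom h1 h2 h3

theorem inertia_isStronglyCartesian {x y : (FibCat.inertia F).obj} (m : y ⟶ x) {R S : C}
    (f : R ⟶ S) [hs : 𝒳.p.IsStronglyCartesian f m.hom] :
    (FibCat.inertia F).p.IsStronglyCartesian f m := by
  have hl : (FibCat.inertia F).p.IsHomLift f m := inertia_isHomLift_of_hom F m f inferInstance
  refine { toIsHomLift := hl, universal_property' := ?_ }
  intro z g m' hm'
  have hm'1 : 𝒳.p.IsHomLift (g ≫ f) m'.hom := inertia_hom_isHomLift F m' (g ≫ f) hm'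
  obtain ⟨χ, ⟨hχ, hχ'⟩, huniq⟩ :=
    Functor.IsStronglyCartesian.universal_property 𝒳.p f m.hom g (g ≫ f) rfl m'.hom
  have hz := inertia_aut_isHomLift F z
  have hy := inertia_aut_isHomLift F y
  have hcomm : z.aut.hom ≫ χ = χ ≫ y.aut.hom := by
    have hL : 𝒳.p.IsHomLift g (z.aut.hom ≫ χ) :=
      IsHomLift.comp_lift_id_left' 𝒳.p (𝒳.p.obj z.pt) z.aut.hom g χ
    have hR : 𝒳.p.IsHomLift g (χ ≫ y.aut.hom) :=
      IsHomLift.comp_lift_id_right' 𝒳.p g χ (𝒳.p.obj y.pt) y.aut.hom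
    apply Functor.IsStronglyCartesian.ext 𝒳.p f m.hom g
    rw [Category.assoc, Category.assoc, hχ', m.comm, ← Category.assoc, hχ', m'.comm]
  refine ⟨⟨χ, hcomm⟩, ⟨?_, ?_⟩, ?_⟩
  · exact inertia_isHomLift_of_hom F (⟨χ, hcomm⟩ : z ⟶ y) g hχ
  · apply FibCat.InertiaObj.hom_ext
    exact hχ'
  · rintro n ⟨hn1, hn2⟩
    apply FibCat.InertiaObj.hom_ext
    apply huniq
    refine ⟨inertia_hom_isHomLift F n g hn1, ?_⟩
    exact congrArg (fun t => t.hom) hn2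

theorem inertia_exists_lift (x : FibCat.InertiaObj F) {V : C} (f : V ⟶ 𝒳.p.obj x.pt)
    {y : 𝒳.obj} (φ : y ⟶ x.pt) [hs : 𝒳.p.IsStronglyCartesian f φ]
    (hF : ∀ β : y ⟶ y, 𝒳.p.IsHomLift (𝟙 V) β → β ≫ φ = φ ≫ x.aut.hom → F.map β = 𝟙 (F.obj y)) :
    ∃ (y' : FibCat.InertiaObj F) (m : y' ⟶ x) (hy : y'.pt = y), m.hom = eqToHom hy ≫ φ := by
  have hx := inertia_aut_isHomLift F x
  have hxi := inertia_aut_inv_isHomLift F x
  have h1 : 𝒳.p.IsHomLift f (φ ≫ x.aut.hom) :=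
    IsHomLift.comp_lift_id_right' 𝒳.p f φ (𝒳.p.obj x.pt) x.aut.hom
  have h2 : 𝒳.p.IsHomLift f (φ ≫ x.aut.inv) :=
    IsHomLift.comp_lift_id_right' 𝒳.p f φ (𝒳.p.obj x.pt) x.aut.inv
  obtain ⟨β, ⟨hβ, hβ'⟩, -⟩ :=
    Functor.IsStronglyCartesian.universal_property 𝒳.p f φ (𝟙 V) f (by simp) (φ ≫ x.aut.hom)
  obtain ⟨β', ⟨hβ1, hβ1'⟩, -⟩ :=
    Functor.IsStronglyCartesian.universal_property 𝒳.p f φ (𝟙 V) f (by simp) (φ ≫ x.aut.inv)
  have hid : 𝒳.p.IsHomLift (𝟙 V) (𝟙 y) := IsHomLift.id (IsHomLift.domain_eq 𝒳.p f φ)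
  have e1 : β ≫ β' = 𝟙 y := by
    apply Functor.IsStronglyCartesian.ext 𝒳.p f φ (𝟙 V)
    rw [Category.assoc, hβ1', ← Category.assoc, hβ', Category.assoc, Iso.hom_inv_id,
      Category.comp_id, Category.id_comp]
  have e2 : β' ≫ β = 𝟙 y := by
    apply Functor.IsStronglyCartesian.ext 𝒳.p f φ (𝟙 V)
    rw [Category.assoc, hβ', ← Category.assoc, hβ1', Category.assoc, Iso.inv_hom_id,
      Category.comp_id, Category.id_comp]
  let y' : FibCat.InertiaObj F := ⟨y, ⟨β, β', e1, e2⟩, hF β hβ hβ'⟩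
  exact ⟨y', ⟨φ, hβ'⟩, rfl, by simp⟩

theorem isFibered_inertia [𝒳.p.IsFibered] [𝒴.p.IsFibered]
    (hF : FibCat.PreservesStronglyCartesian F) : (FibCat.inertia F).p.IsFibered := by
  apply Functor.IsFibered.of_exists_isStronglyCartesian
  intro x R f
  let f' : R ⟶ 𝒳.p.obj x.pt := f
  obtain ⟨y, φ, hφ⟩ := IsPreFibered.exists_isCartesian 𝒳.p (a := x.pt) rfl f'
  have hφs : 𝒳.p.IsStronglyCartesian f' φ := inferInstance
  have hFφ : 𝒴.p.IsStronglyCartesian f' (F.map φ) := hF f' φ hφs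
  obtain ⟨y', m, hy, hm⟩ := inertia_exists_lift F x f' φ (by
    intro β hβ hβ'
    have h1 : 𝒴.p.IsHomLift (𝟙 R) (F.map β) := inferInstance
    have h2 : 𝒴.p.IsHomLift (𝟙 R) (𝟙 (F.obj y)) := by
      have := IsHomLift.domain_eq 𝒳.p f' φ
      exact IsHomLift.id ((F.w_obj y).trans this)
    apply Functor.IsStronglyCartesian.ext 𝒴.p f' (F.map φ) (𝟙 R)
    rw [← F.map_comp, hβ', F.map_comp, x.map_aut, Category.comp_id, Category.id_comp])
  subst hy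
  rw [eqToHom_refl, Category.id_comp] at hm
  have : 𝒳.p.IsStronglyCartesian f' m.hom := by rw [hm]; exact hφs
  exact ⟨y', m, inertia_isStronglyCartesian F m f'⟩

theorem isFibGrpd_inertia_toSelf (h𝒳 : FibCat.IsFibGrpd 𝒳.p) :
    FibCat.IsFibGrpd (FibCat.inertia (FibCat.toSelf 𝒳)).p := by
  refine ⟨?_, ?_⟩
  · intro x V f
    let f' : V ⟶ 𝒳.p.obj x.pt := f
    obtain ⟨y, φ, hφ⟩ := h𝒳.exists_lift (x := x.pt) f'
    have hφs : 𝒳.p.IsStronglyCartesian f' φ := isStronglyCartesian_of_fibGrpd 𝒳.p h𝒳 f' φ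
    obtain ⟨y', m, hy, hm⟩ := inertia_exists_lift (FibCat.toSelf 𝒳) x f' φ (by
      intro β hβ hβ'
      have hV := IsHomLift.domain_eq 𝒳.p f' φ
      subst hV
      exact (IsHomLift.eq_of_isHomLift 𝒳.p (𝟙 (𝒳.p.obj y)) β).symm)
    subst hy
    rw [eqToHom_refl, Category.id_comp] at hm
    refine ⟨y', m, ?_⟩
    apply inertia_isHomLift_of_hom
    rw [hm]; exact hφ
  · intro y x m
    have : 𝒳.p.IsStronglyCartesian ((FibCat.inertia (FibCat.toSelf 𝒳)).p.map m) m.hom :=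
      h𝒳.isStronglyCartesian m.hom
    exact inertia_isStronglyCartesian (FibCat.toSelf 𝒳) m _

end Groth.Agent.H32
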