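import Mathlib

/-!
# Flat modules over a ring embedding into finitely many local rings

If `R → ∏_{p ∈ s} R_p` is injective for a finite set `s` of primes and `F` is a flat `R`-module,
an element of `F` vanishing in every `F_p`, `p ∈ s`, vanishes.
-/

set_option autoImplicit false

namespace Groth.Agent.H32.LocFP

open TensorProduct

universe u

/-- **Lemma A.** Let `R → ∏_{p ∈ s} R_p` be injective, `s` finite, `F` flat over `R`.  An element
`z : F` which is killed, for every `p ∈ s`, by an element outside `p`, is zero. -/
theorem eq_zero_of_forall_exists_smul_eq_zero {R : Type*} [CommRing R]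
    (s : Finset (PrimeSpectrum R))
    (hs : Function.Injective fun r : R => fun p : s =>
      algebraMap R (Localization.AtPrime p.1.asIdeal) r)
    {F : Type*} [AddCommGroup F] [Module R F] [Module.Flat R F] (z : F)
    (hz : ∀ p ∈ s, ∃ a : R, a ∉ p.asIdeal ∧ a • z = 0) : z = 0 := by
  classical
  have hι : Function.Injective
      (Algebra.linearMap R (∀ p : s, Localization.AtPrime p.1.asIdeal)) := hs
  have hinj : Function.Injective
      ((Algebra.linearMap R (∀ p : s, Localization.AtPrime p.1.asIdeal)).lTensor F) :=
    Module.Flat.lTensor_preserves_injective_linearMap _ hι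
  have h1 : z ⊗ₜ[R] (1 : ∀ p : s, Localization.AtPrime p.1.asIdeal) = 0 := by
    have hone : (1 : ∀ p : s, Localization.AtPrime p.1.asIdeal) =
        ∑ p : s, Pi.single p (1 : Localization.AtPrime p.1.asIdeal) := by
      ext p
      simp [Finset.sum_apply]
    rw [hone, TensorProduct.tmul_sum]
    refine Finset.sum_eq_zero fun p _ => ?_
    obtain ⟨a, ha, haz⟩ := hz p.1 p.2
    have hunit : IsUnit (algebraMap R (Localization.AtPrime p.1.asIdeal) a) :=
      IsLocalization.map_units (M := p.1.asIdeal.primeCompl) _ ⟨a, ha⟩
    obtain ⟨u, hu⟩ := hunit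
    have : (Pi.single p (1 : Localization.AtPrime p.1.asIdeal) :
          ∀ p : s, Localization.AtPrime p.1.asIdeal) =
        a • (Pi.single p ((u⁻¹ : (Localization.AtPrime p.1.asIdeal)ˣ) :
          Localization.AtPrime p.1.asIdeal) : ∀ p : s, Localization.AtPrime p.1.asIdeal) := by
      rw [← Pi.single_smul, Algebra.smul_def, ← hu, Units.mul_inv]
    rw [this, TensorProduct.tmul_smul, TensorProduct.smul_tmul', haz, TensorProduct.zero_tmul]
  have h2 : (Algebra.linearMap R (∀ p : s, Localization.AtPrime p.1.asIdeal)).lTensor F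
      (z ⊗ₜ[R] (1 : R)) = 0 := by
    rw [LinearMap.lTensor_tmul, Algebra.linearMap_apply, map_one, h1]
  have h3 : z ⊗ₜ[R] (1 : R) = 0 := hinj (by rw [h2, map_zero])
  have := congrArg (TensorProduct.rid R F) h3
  simpa using this

end Groth.Agent.H32.LocFP
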