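import Mathlib

/-!
# Spreading out generators of a kernel from a localization

If `f : F → M` is a surjection of `S`-modules with `F` finite and `T⁻¹M` finitely presented over
`T⁻¹S`, then there is a finitely generated submodule `K' ≤ ker f` with `T⁻¹K' = T⁻¹ ker f`.
-/

set_option autoImplicit false

namespace Groth.Agent.H32.LocFP

open TensorProduct

/-- **Lemma B.** -/
theorem exists_fg_le_ker_of_finitePresentation_localized {S : Type*} [CommRing S]
    (T : Submonoid S) {F M : Type*} [AddCommGroup F] [Module S F] [Module.Finite S F]
    [AddCommGroup M] [Module S M] (f : F →ₗ[S] M) (hf : Function.Surjective f)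
    [Module.FinitePresentation (Localization T) (LocalizedModule T M)] :
    ∃ K' : Submodule S F, K' ≤ LinearMap.ker f ∧ K'.FG ∧
      ∀ x ∈ LinearMap.ker f, ∃ t ∈ T, t • x ∈ K' := by
  classical
  let fT : LocalizedModule T F →ₗ[Localization T] LocalizedModule T M :=
    (IsLocalizedModule.map T (LocalizedModule.mkLinearMap T F)
      (LocalizedModule.mkLinearMap T M) f).extendScalarsOfIsLocalization T (Localization T)
  have hfT : Function.Surjective fT :=
    IsLocalizedModule.map_surjective T (LocalizedModule.mkLinearMap T F)
      (LocalizedModule.mkLinearMap T M) f hf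
  have hker : (LinearMap.ker fT).FG := Module.FinitePresentation.fg_ker fT hfT
  rw [← LinearMap.localized'_ker_eq_ker_localizedMap, Submodule.localized'_eq_span] at hker
  obtain ⟨s', hs', hspan⟩ := (Submodule.fg_span_iff_fg_span_finset_subset _).mp hker
  choose! c hc using fun t (ht : t ∈ (s' : Set (LocalizedModule T F))) => hs' ht
  refine ⟨Submodule.span S (s'.image c), ?_, Submodule.fg_span (Finset.finite_toSet _), ?_⟩
  · rw [Submodule.span_le]
    intro x hx
    rw [Finset.coe_image] at hx
    obtain ⟨t, ht, rfl⟩ := hx
    exact (hc t ht).1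
  · intro x hx
    have himg : (LocalizedModule.mkLinearMap T F) '' ((s'.image c : Finset F) : Set F) =
        (s' : Set (LocalizedModule T F)) := by
      rw [Finset.coe_image, ← Set.image_comp]
      ext t
      constructor
      · rintro ⟨t', ht', rfl⟩
        rw [Function.comp_apply, (hc t' ht').2]
        exact ht'
      · intro ht
        exact ⟨t, ht, (hc t ht).2⟩
    have hmem : LocalizedModule.mkLinearMap T F x ∈
        (Submodule.span S ((s'.image c : Finset F) : Set F)).localized' (Localization T) T
          (LocalizedModule.mkLinearMap T F) := by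
      rw [Submodule.localized'_span, himg, ← hspan]
      exact Submodule.subset_span ⟨x, hx, rfl⟩
    obtain ⟨m, hm, t, hmt⟩ := hmem
    rw [IsLocalizedModule.mk'_eq_iff] at hmt
    have h0 : LocalizedModule.mkLinearMap T F (m - (t : S) • x) = 0 := by
      rw [map_sub, map_smul, hmt]
      exact sub_self _
    rw [IsLocalizedModule.eq_zero_iff T] at h0
    obtain ⟨u, hu⟩ := h0
    refine ⟨(u : S) * (t : S), T.mul_mem u.2 t.2, ?_⟩
    have : ((u : S) * (t : S)) • x = (u : S) • m := by
      rw [mul_smul]
      have h1 : (u : S) • (m - (t : S) • x) = 0 := hu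
      rw [smul_sub, sub_eq_zero] at h1
      exact h1.symm
    rw [this]
    exact Submodule.smul_mem _ _ hm

end Groth.Agent.H32.LocFP
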