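import Mathlib
import Groth.Agent.H1.FlatLocusExists
import Groth.Agent.H32.LocFPA

/-!
# Consequences of the openness of the flat locus

* `flat_localizedModule_of_surjective_of_ker` : pointwise flatness transfers along a surjection
  whose kernel vanishes at the point.
* `exists_notMem_forall_exists_pow_smul_eq_zero` : around a point of the flat locus of a finitely
  presented module, elements vanishing at finitely many "generic" primes of the base are killed
  by a power of a function not vanishing at the point.
-/

set_option autoImplicit false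

namespace Groth.Agent.H32.LocFP

open TensorProduct

universe u

/-- **Lemma D.** -/
theorem flat_localizedModule_of_surjective_of_ker {R S : Type*} [CommRing R] [CommRing S]
    [Algebra R S] {M' M : Type*} [AddCommGroup M'] [Module R M'] [Module S M']
    [IsScalarTower R S M'] [AddCommGroup M] [Module R M] [Module S M] [IsScalarTower R S M]
    [Module.Flat R M] (φ : M' →ₗ[S] M) (hφ : Function.Surjective φ) (q : Ideal S) [q.IsPrime]
    (hker : ∀ y ∈ LinearMap.ker φ, ∃ t : S, t ∉ q ∧ t • y = 0) :
    Module.Flat R (LocalizedModule q.primeCompl M') := by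
  let ψ : M' →ₗ[S] LocalizedModule q.primeCompl M :=
    (LocalizedModule.mkLinearMap q.primeCompl M) ∘ₗ φ
  have hloc : IsLocalizedModule q.primeCompl ψ :=
    { map_units := fun x =>
        IsLocalizedModule.map_units (LocalizedModule.mkLinearMap q.primeCompl M) x
      surj := by
        intro y
        obtain ⟨⟨m, t⟩, rfl⟩ := IsLocalizedModule.mk'_surjective q.primeCompl
          (LocalizedModule.mkLinearMap q.primeCompl M) y
        obtain ⟨m', rfl⟩ := hφ m
        refine ⟨(m', t), ?_⟩
        simp [ψ]
      exists_of_eq := by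
        intro x₁ x₂ h
        have h0 : LocalizedModule.mkLinearMap q.primeCompl M (φ (x₁ - x₂)) = 0 := by
          rw [map_sub, map_sub, sub_eq_zero]
          exact h
        rw [IsLocalizedModule.eq_zero_iff q.primeCompl] at h0
        obtain ⟨u, hu⟩ := h0
        have hmem : (u : S) • (x₁ - x₂) ∈ LinearMap.ker φ := by
          rw [LinearMap.mem_ker, map_smul]
          exact hu
        obtain ⟨t, ht, hty⟩ := hker _ hmem
        refine ⟨⟨t, ht⟩ * u, ?_⟩
        have : (t * (u : S)) • (x₁ - x₂) = 0 := by
          rw [mul_smul]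
          exact hty
        rw [smul_sub, sub_eq_zero] at this
        exact this }
  have hflat : Module.Flat R (LocalizedModule q.primeCompl M) :=
    Groth.Agent.H1.FlatLocus.flat_of_isLocalizedModule_algebra (R := R) q.primeCompl
      (LocalizedModule.mkLinearMap q.primeCompl M)
  let e : LocalizedModule q.primeCompl M' ≃ₗ[S] LocalizedModule q.primeCompl M :=
    IsLocalizedModule.iso q.primeCompl ψ
  exact Module.Flat.of_linearEquiv (e.restrictScalars R)

/-- **Lemma C.** -/
theorem exists_notMem_forall_exists_pow_smul_eq_zero {R S M' : Type u} [CommRing R] [CommRing S]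
    [Algebra R S] [Algebra.FinitePresentation R S] [AddCommGroup M'] [Module R M'] [Module S M']
    [IsScalarTower R S M'] [Module.FinitePresentation S M']
    (s : Finset (PrimeSpectrum R))
    (hs : Function.Injective fun r : R => fun p : s =>
      algebraMap R (Localization.AtPrime p.1.asIdeal) r)
    (q : Ideal S) [hq : q.IsPrime] (hflat : Module.Flat R (LocalizedModule q.primeCompl M')) :
    ∃ g : S, g ∉ q ∧ ∀ y : M',
      (∀ p ∈ s, ∃ a : R, a ∉ p.asIdeal ∧ a • y = 0) → ∃ N : ℕ, g ^ N • y = 0 := by
  have hopen : IsOpen (Groth.Agent.H1.FlatLocus.flatLocus R (S := S) M') :=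
    Groth.Agent.H1.FlatLocus.isOpen_flatLocus_of_finitePresentation
  have hmem : (⟨q, hq⟩ : PrimeSpectrum S) ∈ Groth.Agent.H1.FlatLocus.flatLocus R (S := S) M' :=
    hflat
  obtain ⟨U, ⟨g, rfl⟩, hqU, hU⟩ :=
    PrimeSpectrum.isTopologicalBasis_basic_opens.exists_subset_of_mem_open hmem hopen
  refine ⟨g, hqU, ?_⟩
  intro y hy
  let I : Ideal S := LinearMap.ker (LinearMap.toSpanSingleton S M' y)
  have hg : g ∈ I.radical := by
    rw [Ideal.radical_eq_sInf, Ideal.mem_sInf]
    rintro P ⟨hIP, hP⟩
    by_contra hgP
    have hPflat : Module.Flat R (LocalizedModule P.primeCompl M') :=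
      hU (show (⟨P, hP⟩ : PrimeSpectrum S) ∈ (PrimeSpectrum.basicOpen g : Set _) from hgP)
    have hz := eq_zero_of_forall_exists_smul_eq_zero s hs
      (LocalizedModule.mkLinearMap P.primeCompl M' y) (by
        intro p hp
        obtain ⟨a, ha, hay⟩ := hy p hp
        refine ⟨a, ha, ?_⟩
        rw [← LinearMap.map_smul_of_tower, hay, map_zero])
    rw [IsLocalizedModule.eq_zero_iff P.primeCompl] at hz
    obtain ⟨t, ht⟩ := hz
    exact t.2 (hIP (show (t : S) ∈ I from ht))
  obtain ⟨N, hN⟩ := hg
  exact ⟨N, hN⟩

end Groth.Agent.H32.LocFP
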