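import Mathlib
import Groth.Agent.H32.LocFPB
import Groth.Agent.H32.LocFPC

/-!
# Flat, locally finitely presented modules are finitely presented

Let `R → S` be of finite presentation and `M` a finite `S`-module, flat over `R`, such that
`R → ∏_{p ∈ s} R_p` is injective for a finite set `s` of primes and `M_p` is finitely presented over
`S_p` for every prime `p` of `R`.  Then `M` is finitely presented over `S`.
-/

set_option autoImplicit false

namespace Groth.Agent.H32.LocFP

open TensorProduct

universe u

/-- Elementwise form of the main theorem: the hypothesis "`M_p` is finitely presented" is replaced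
by the existence of finitely generated submodules of the kernel of a fixed presentation which
generate it at `p`. -/
theorem fg_ker_of_forall_exists_fg {R S M : Type u} [CommRing R] [CommRing S] [Algebra R S]
    [Algebra.FinitePresentation R S] [AddCommGroup M] [Module R M] [Module S M]
    [IsScalarTower R S M] [Module.Flat R M]
    (s : Finset (PrimeSpectrum R))
    (hs : Function.Injective fun r : R => fun p : s =>
      algebraMap R (Localization.AtPrime p.1.asIdeal) r)
    {F : Type u} [AddCommGroup F] [Module R F] [Module S F] [IsScalarTower R S F]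
    [Module.Free S F] [Module.Finite S F]
    (f : F →ₗ[S] M) (hf : Function.Surjective f)
    (hB : ∀ p : PrimeSpectrum R, ∃ K' : Submodule S F, K' ≤ LinearMap.ker f ∧ K'.FG ∧
      ∀ x ∈ LinearMap.ker f, ∃ a : R, a ∉ p.asIdeal ∧ a • x ∈ K') :
    (LinearMap.ker f).FG := by
  classical
  choose Kp hKle hKfg hKp using hB
  let Ks : Submodule S F := ⨆ p ∈ s, Kp p
  have hKsfg : Ks.FG := Submodule.fg_biSup s _ (fun p _ => hKfg p)
  have hKsle : Ks ≤ LinearMap.ker f := iSup₂_le fun p' _ => hKle p'
  have hq : ∀ q : PrimeSpectrum S, ∃ (K' : Submodule S F) (g : S),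
      K' ≤ LinearMap.ker f ∧ K'.FG ∧ g ∉ q.asIdeal ∧
        ∀ x ∈ LinearMap.ker f, ∃ N : ℕ, g ^ N • x ∈ K' := by
    intro q
    let p : PrimeSpectrum R := PrimeSpectrum.comap (algebraMap R S) q
    let K' : Submodule S F := Kp p ⊔ Ks
    have hK'le : K' ≤ LinearMap.ker f := sup_le (hKle p) hKsle
    have hK'fg : K'.FG := (hKfg p).sup hKsfg
    let φ : (F ⧸ K') →ₗ[S] M := K'.liftQ f hK'le
    have hφ : Function.Surjective φ := by
      intro m
      obtain ⟨x, rfl⟩ := hf m
      exact ⟨K'.mkQ x, rfl⟩
    have hfp : Module.FinitePresentation S (F ⧸ K') :=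
      Module.finitePresentation_of_free_of_surjective K'.mkQ K'.mkQ_surjective
        (by rw [Submodule.ker_mkQ]; exact hK'fg)
    have hflatq : Module.Flat R (LocalizedModule q.asIdeal.primeCompl (F ⧸ K')) := by
      refine flat_localizedModule_of_surjective_of_ker φ hφ q.asIdeal ?_
      intro y hy
      obtain ⟨x, rfl⟩ := K'.mkQ_surjective y
      have hx : x ∈ LinearMap.ker f := hy
      obtain ⟨a, ha, hax⟩ := hKp p x hx
      refine ⟨algebraMap R S a, ha, ?_⟩
      rw [← map_smul, algebraMap_smul, Submodule.mkQ_apply, Submodule.Quotient.mk_eq_zero]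
      exact (le_sup_left : Kp p ≤ K') hax
    obtain ⟨g, hg, hgy⟩ := exists_notMem_forall_exists_pow_smul_eq_zero s hs q.asIdeal hflatq
    refine ⟨K', g, hK'le, hK'fg, hg, fun x hx => ?_⟩
    obtain ⟨N, hN⟩ := hgy (K'.mkQ x) (fun p' hp' => by
      obtain ⟨a, ha, hax⟩ := hKp p' x hx
      refine ⟨a, ha, ?_⟩
      rw [← LinearMap.map_smul_of_tower, Submodule.mkQ_apply, Submodule.Quotient.mk_eq_zero]
      exact (le_sup_right : Ks ≤ K') ((le_biSup Kp hp' : Kp p' ≤ Ks) hax))
    refine ⟨N, ?_⟩
    rwa [← map_smul, Submodule.mkQ_apply, Submodule.Quotient.mk_eq_zero] at hN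
  choose K' g hle hfg hg hpow using hq
  have htop : Ideal.span (Set.range g) = ⊤ := by
    by_contra h
    obtain ⟨m, hm, hle'⟩ := Ideal.exists_le_maximal _ h
    exact hg ⟨m, hm.isPrime⟩ (hle' (Ideal.subset_span ⟨_, rfl⟩))
  obtain ⟨s', hs', hs'top⟩ := (Ideal.span_eq_top_iff_finite _).mp htop
  choose c hc using fun t (ht : t ∈ s') => hs' (Finset.mem_coe.mpr ht)
  let Q : Finset (PrimeSpectrum S) := s'.attach.image fun t => c t.1 t.2
  let K'' : Submodule S F := ⨆ q ∈ Q, K' q
  have hK''fg : K''.FG := Submodule.fg_biSup Q _ (fun q _ => hfg q)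
  have hK''le : K'' ≤ LinearMap.ker f := iSup₂_le fun q _ => hle q
  have hker : LinearMap.ker f ≤ K'' := by
    intro x hx
    refine Submodule.mem_of_span_eq_top_of_smul_pow_mem K'' (s' : Set S) hs'top x ?_
    rintro ⟨t, ht⟩
    have ht' : t ∈ s' := Finset.mem_coe.mp ht
    obtain ⟨N, hN⟩ := hpow (c t ht') x hx
    refine ⟨N, ?_⟩
    have hcq : c t ht' ∈ Q :=
      Finset.mem_image.mpr ⟨⟨t, ht'⟩, Finset.mem_attach _ _, rfl⟩
    have : g (c t ht') = t := hc t ht'
    rw [this] at hN
    exact (le_biSup K' hcq : K' (c t ht') ≤ K'') hN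
  rw [le_antisymm hker hK''le]
  exact hK''fg

/-- **Flat and locally finitely presented implies finitely presented** (modules). -/
theorem finitePresentation_of_forall_localized {R S M : Type u} [CommRing R] [CommRing S]
    [Algebra R S] [Algebra.FinitePresentation R S] [AddCommGroup M] [Module R M] [Module S M]
    [IsScalarTower R S M] [Module.Finite S M] [Module.Flat R M]
    (s : Finset (PrimeSpectrum R))
    (hs : Function.Injective fun r : R => fun p : s =>
      algebraMap R (Localization.AtPrime p.1.asIdeal) r)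
    (hloc : ∀ (p : Ideal R) [p.IsPrime],
      Module.FinitePresentation
        (Localization (Algebra.algebraMapSubmonoid S p.primeCompl))
        (LocalizedModule (Algebra.algebraMapSubmonoid S p.primeCompl) M)) :
    Module.FinitePresentation S M := by
  obtain ⟨r, f, hf⟩ := Module.Finite.exists_fin' S M
  refine Module.finitePresentation_of_free_of_surjective f hf ?_
  refine fg_ker_of_forall_exists_fg s hs f hf ?_
  intro p
  have := hloc p.asIdeal
  obtain ⟨K', hle, hfg, h⟩ := exists_fg_le_ker_of_finitePresentation_localized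
    (Algebra.algebraMapSubmonoid S p.asIdeal.primeCompl) f hf
  refine ⟨K', hle, hfg, fun x hx => ?_⟩
  obtain ⟨t, ⟨a, ha, rfl⟩, htx⟩ := h x hx
  exact ⟨a, ha, by rwa [algebraMap_smul] at htx⟩

end Groth.Agent.H32.LocFP
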