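import Mathlib
import Groth.Agent.H32.LocFPMain

/-!
# Flat finite type algebras which are locally finitely presented are finitely presented
-/

set_option autoImplicit false

namespace Groth.Agent.H32.LocFPAlg

universe u

open MvPolynomial

attribute [local instance] MvPolynomial.algebraMvPolynomial

/-- The local statement: generators of the kernel at a prime. -/
theorem exists_fg_le_ker {R S : Type u} [CommRing R] [CommRing S] [Algebra R S] (n : ℕ)
    (f : MvPolynomial (Fin n) R →ₐ[R] S) (hf : Function.Surjective f)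
    (p : Ideal R) [p.IsPrime]
    [Algebra.FinitePresentation (Localization.AtPrime p)
      (Localization (Algebra.algebraMapSubmonoid S p.primeCompl))] :
    ∃ K' : Ideal (MvPolynomial (Fin n) R), K' ≤ RingHom.ker f.toRingHom ∧ K'.FG ∧
      ∀ x ∈ RingHom.ker f.toRingHom, ∃ a : R, a ∉ p ∧ a • x ∈ K' := by
  classical
  set Rp := Localization.AtPrime p with hRp
  set Sp := Localization (Algebra.algebraMapSubmonoid S p.primeCompl) with hSp
  let ι : MvPolynomial (Fin n) R →+* MvPolynomial (Fin n) Rp := MvPolynomial.map (algebraMap R Rp)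
  have hι : algebraMap (MvPolynomial (Fin n) R) (MvPolynomial (Fin n) Rp) = ι := rfl
  let Φ : MvPolynomial (Fin n) Rp →ₐ[Rp] Sp :=
    MvPolynomial.aeval (fun i => algebraMap S Sp (f (X i)))
  have hfC : ∀ r : R, f (C r) = algebraMap R S r := by
    intro r
    rw [← MvPolynomial.algebraMap_eq]
    exact f.commutes r
  have hcompat : ∀ x : MvPolynomial (Fin n) R, Φ (ι x) = algebraMap S Sp (f x) := by
    intro x
    have h : (Φ.toRingHom.comp ι) = (algebraMap S Sp).comp f.toRingHom := by
      apply MvPolynomial.ringHom_ext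
      · intro r
        change Φ (ι (C r)) = algebraMap S Sp (f (C r))
        rw [hfC, show ι (C r) = C (algebraMap R Rp r) from MvPolynomial.map_C _ _]
        change (MvPolynomial.aeval (fun i => algebraMap S Sp (f (X i)))) (C (algebraMap R Rp r)) = _
        rw [aeval_C, ← IsScalarTower.algebraMap_apply R Rp Sp,
          ← IsScalarTower.algebraMap_apply R S Sp]
      · intro i
        change Φ (ι (X i)) = algebraMap S Sp (f (X i))
        rw [show ι (X i) = X i from MvPolynomial.map_X _ _]
        change (MvPolynomial.aeval (fun i => algebraMap S Sp (f (X i)))) (X i) = _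
        rw [aeval_X]
    exact RingHom.congr_fun h x
  -- surjectivity of `Φ`
  have hΦ : Function.Surjective Φ := by
    intro y
    obtain ⟨⟨s, ⟨c, t, ht, rfl⟩⟩, hy⟩ :=
      IsLocalization.surj (Algebra.algebraMapSubmonoid S p.primeCompl) y
    obtain ⟨x, rfl⟩ := hf s
    refine ⟨ι x * C (IsLocalization.mk' Rp 1 (⟨t, ht⟩ : p.primeCompl)), ?_⟩
    have h1 : algebraMap S Sp (algebraMap R S t) = algebraMap Rp Sp (algebraMap R Rp t) := by
      rw [← IsScalarTower.algebraMap_apply R S Sp, ← IsScalarTower.algebraMap_apply R Rp Sp]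
    have h2 : Φ (C (IsLocalization.mk' Rp 1 (⟨t, ht⟩ : p.primeCompl))) =
        algebraMap Rp Sp (IsLocalization.mk' Rp 1 (⟨t, ht⟩ : p.primeCompl)) := aeval_C _ _
    have hy' : y * algebraMap S Sp (algebraMap R S t) = algebraMap S Sp (f x) := hy
    rw [map_mul, hcompat, ← hy', h2, mul_assoc, h1, ← map_mul, IsLocalization.mk'_spec'_mk,
      map_one, map_one, mul_one]
  have hker : (RingHom.ker Φ.toRingHom).FG :=
    Algebra.FinitePresentation.ker_fG_of_surjective Φ hΦ
  obtain ⟨gs, hgs⟩ := hker
  -- each generator comes from the kernel of `f` up to a unit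
  have hgen : ∀ g ∈ gs, ∃ x : MvPolynomial (Fin n) R, x ∈ RingHom.ker f.toRingHom ∧ ∃ t : R, t ∉ p ∧
      ι x = ι (C t) * g := by
    intro g hg
    have hgker : Φ g = 0 := by
      have : g ∈ RingHom.ker Φ.toRingHom := hgs ▸ Ideal.subset_span hg
      exact this
    obtain ⟨⟨x', ⟨_, t, ht, rfl⟩⟩, hx'⟩ :=
      IsLocalization.surj (p.primeCompl.map (C : R →+* MvPolynomial (Fin n) R)) g
    have h0 : algebraMap S Sp (f x') = 0 := by
      rw [← hcompat]
      change Φ (algebraMap (MvPolynomial (Fin n) R) (MvPolynomial (Fin n) Rp) x') = 0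
      rw [← hx', map_mul, hgker, zero_mul]
    obtain ⟨⟨_, t', ht', rfl⟩, hc⟩ :=
      (IsLocalization.map_eq_zero_iff (Algebra.algebraMapSubmonoid S p.primeCompl) Sp _).mp h0
    refine ⟨C t' * x', ?_, t' * t, p.primeCompl.mul_mem ht' ht, ?_⟩
    · rw [RingHom.mem_ker, map_mul]
      change f (C t') * f x' = 0
      rw [hfC]
      exact hc
    · rw [map_mul, map_mul, map_mul]
      change _ * algebraMap (MvPolynomial (Fin n) R) (MvPolynomial (Fin n) Rp) x' = _
      rw [← hx', hι]
      ring
  choose! xg hxg tg htg hιg using hgen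
  refine ⟨Ideal.span (gs.image xg : Set (MvPolynomial (Fin n) R)), ?_, ⟨gs.image xg, rfl⟩, ?_⟩
  · rw [Ideal.span_le]
    intro y hy
    simp only [Finset.coe_image, Set.mem_image, Finset.mem_coe] at hy
    obtain ⟨g, hg, rfl⟩ := hy
    exact hxg g hg
  · intro x hx
    -- `ι x` lies in the kernel of `Φ`, which is generated by the `ι (xg g)`
    have h1 : ι x ∈ Ideal.map ι (Ideal.span (gs.image xg : Set (MvPolynomial (Fin n) R))) := by
      have h2 : ι x ∈ RingHom.ker Φ.toRingHom := by
        rw [RingHom.mem_ker]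
        change Φ (ι x) = 0
        rw [hcompat]
        have : f x = 0 := hx
        rw [this, map_zero]
      rw [← hgs] at h2
      refine (Ideal.span_le.mpr ?_) h2
      intro g hg
      have hunit : IsUnit (ι (C (tg g))) :=
        IsLocalization.map_units (MvPolynomial (Fin n) Rp) (⟨C (tg g), ⟨tg g, htg g hg, rfl⟩⟩ :
          p.primeCompl.map (C : R →+* MvPolynomial (Fin n) R))
      have h3 : ι (xg g) ∈ Ideal.map ι (Ideal.span (gs.image xg : Set (MvPolynomial (Fin n) R))) :=
        Ideal.mem_map_of_mem _ (Ideal.subset_span (by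
          simp only [Finset.coe_image, Set.mem_image, Finset.mem_coe]
          exact ⟨g, hg, rfl⟩))
      rw [hιg g hg] at h3
      exact (Ideal.unit_mul_mem_iff_mem _ hunit).mp h3
    rw [← hι, IsLocalization.mem_map_algebraMap_iff
      (p.primeCompl.map (C : R →+* MvPolynomial (Fin n) R)) (MvPolynomial (Fin n) Rp)] at h1
    obtain ⟨⟨⟨k, hk⟩, ⟨_, a, ha, rfl⟩⟩, h4⟩ := h1
    have h5 : algebraMap (MvPolynomial (Fin n) R) (MvPolynomial (Fin n) Rp) (x * C a) =
        algebraMap (MvPolynomial (Fin n) R) (MvPolynomial (Fin n) Rp) k := by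
      rw [map_mul]
      exact h4
    obtain ⟨⟨_, b, hb, rfl⟩, h6⟩ :=
      (IsLocalization.eq_iff_exists (p.primeCompl.map (C : R →+* MvPolynomial (Fin n) R))
        (MvPolynomial (Fin n) Rp)).mp h5
    refine ⟨b * a, p.primeCompl.mul_mem hb ha, ?_⟩
    have h7 : (b * a) • x = C b * k := by
      rw [MvPolynomial.smul_eq_C_mul, map_mul, mul_assoc, mul_comm (C a) x]
      exact h6
    rw [h7]
    exact Ideal.mul_mem_left _ _ hk

/-- **Flat, finite type and locally finitely presented implies finitely presented** (algebras). -/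
theorem finitePresentation_of_forall_localized {R S : Type u} [CommRing R] [CommRing S]
    [Algebra R S] [Algebra.FiniteType R S] [Module.Flat R S] (s : Finset (PrimeSpectrum R))
    (hs : Function.Injective fun r : R => fun p : s =>
      algebraMap R (Localization.AtPrime p.1.asIdeal) r)
    (hloc : ∀ (p : Ideal R) [p.IsPrime],
      Algebra.FinitePresentation (Localization.AtPrime p)
        (Localization (Algebra.algebraMapSubmonoid S p.primeCompl))) :
    Algebra.FinitePresentation R S := by
  obtain ⟨n, f, hf⟩ := Algebra.FiniteType.iff_quotient_mvPolynomial''.mp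
    (inferInstance : Algebra.FiniteType R S)
  refine Algebra.FinitePresentation.of_surjective hf ?_
  letI : Algebra (MvPolynomial (Fin n) R) S := f.toRingHom.toAlgebra
  have : IsScalarTower R (MvPolynomial (Fin n) R) S :=
    IsScalarTower.of_algebraMap_eq fun r => (f.commutes r).symm
  let F : MvPolynomial (Fin n) R →ₗ[MvPolynomial (Fin n) R] S :=
    Algebra.linearMap (MvPolynomial (Fin n) R) S
  have hF : Function.Surjective F := hf
  have hkerF : LinearMap.ker F = RingHom.ker f.toRingHom := by
    ext x
    rfl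
  rw [← hkerF]
  refine Groth.Agent.H32.LocFP.fg_ker_of_forall_exists_fg (R := R) (S := MvPolynomial (Fin n) R)
    (M := S) s hs F hF ?_
  intro p
  have := hloc p.asIdeal
  obtain ⟨K', hle, hfg, h⟩ := exists_fg_le_ker n f hf p.asIdeal
  exact ⟨K', by rw [hkerF]; exact hle, hfg, fun x hx => h x (by rw [← hkerF]; exact hx)⟩

end Groth.Agent.H32.LocFPAlg
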