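import Groth.Prelude.Def_Found
import Groth.Prelude.Def_CAlgX
import Mathlib

set_option autoImplicit false
universe u
open TensorProduct

namespace Groth.Agent.H32

variable (R : Type u) [CommRing R]

/-- the product of the maps `f ⊗ Q i` -/
noncomputable def piRTensor {M₁ M₂ : Type u} [AddCommGroup M₁] [Module R M₁] [AddCommGroup M₂]
    [Module R M₂] (f : M₁ →ₗ[R] M₂) {ι : Type u} (Q : ι → Type u) [∀ i, AddCommGroup (Q i)]
    [∀ i, Module R (Q i)] : (∀ i, M₁ ⊗[R] Q i) →ₗ[R] (∀ i, M₂ ⊗[R] Q i) :=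
  LinearMap.pi (fun i => (f.rTensor (Q i)) ∘ₗ LinearMap.proj i)

@[simp] theorem piRTensor_apply {M₁ M₂ : Type u} [AddCommGroup M₁] [Module R M₁] [AddCommGroup M₂]
    [Module R M₂] (f : M₁ →ₗ[R] M₂) {ι : Type u} (Q : ι → Type u) [∀ i, AddCommGroup (Q i)]
    [∀ i, Module R (Q i)] (x : ∀ i, M₁ ⊗[R] Q i) (i : ι) :
    piRTensor R f Q x i = f.rTensor (Q i) (x i) := rfl

/-- naturality of `piRightHom` in the left factor -/
theorem piRightHom_natural {M₁ M₂ : Type u} [AddCommGroup M₁] [Module R M₁] [AddCommGroup M₂]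
    [Module R M₂] (f : M₁ →ₗ[R] M₂) {ι : Type u} (Q : ι → Type u) [∀ i, AddCommGroup (Q i)]
    [∀ i, Module R (Q i)] :
    piRTensor R f Q ∘ₗ TensorProduct.piRightHom R R M₁ Q =
      TensorProduct.piRightHom R R M₂ Q ∘ₗ f.rTensor (∀ i, Q i) := by
  apply TensorProduct.ext'
  intro m q
  ext i
  simp

theorem piRightHom_natural_apply {M₁ M₂ : Type u} [AddCommGroup M₁] [Module R M₁] [AddCommGroup M₂]
    [Module R M₂] (f : M₁ →ₗ[R] M₂) {ι : Type u} (Q : ι → Type u) [∀ i, AddCommGroup (Q i)]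
    [∀ i, Module R (Q i)] (x : M₁ ⊗[R] (∀ i, Q i)) :
    piRTensor R f Q (TensorProduct.piRightHom R R M₁ Q x) =
      TensorProduct.piRightHom R R M₂ Q (f.rTensor (∀ i, Q i) x) :=
  LinearMap.congr_fun (piRightHom_natural R f Q) x

theorem piRTensor_injective {M₁ M₂ : Type u} [AddCommGroup M₁] [Module R M₁] [AddCommGroup M₂]
    [Module R M₂] (f : M₁ →ₗ[R] M₂) {ι : Type u} (Q : ι → Type u) [∀ i, AddCommGroup (Q i)]
    [∀ i, Module R (Q i)] (h : ∀ i, Function.Injective (f.rTensor (Q i))) :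
    Function.Injective (piRTensor R f Q) := by
  intro x y hxy
  funext i
  apply h i
  have := congrFun hxy i
  simpa using this

theorem isMittagLeffler_of_universallyInjective {M₁ M₂ : Type u}
    [AddCommGroup M₁] [Module R M₁] [AddCommGroup M₂] [Module R M₂] (f : M₁ →ₗ[R] M₂)
    (hf : CAlgX.UniversallyInjective R f) (h₂ : CAlg.IsMittagLeffler R M₂) :
    CAlg.IsMittagLeffler R M₁ := by
  intro ι Q _ _
  have h1 : Function.Injective
      (TensorProduct.piRightHom R R M₂ Q ∘ₗ f.rTensor (∀ i, Q i)) :=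
    (h₂ ι Q).comp (hf _)
  rw [← piRightHom_natural, LinearMap.coe_comp] at h1
  exact Function.Injective.of_comp h1

theorem isMittagLeffler_of_extension {M₁ M₂ M₃ : Type u}
    [AddCommGroup M₁] [Module R M₁] [AddCommGroup M₂] [Module R M₂] [AddCommGroup M₃] [Module R M₃]
    (f : M₁ →ₗ[R] M₂) (g : M₂ →ₗ[R] M₃) (hf : CAlgX.UniversallyInjective R f)
    (hg : Function.Surjective g) (hfg : LinearMap.range f = LinearMap.ker g)
    (h₁ : CAlg.IsMittagLeffler R M₁) (h₃ : CAlg.IsMittagLeffler R M₃) :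
    CAlg.IsMittagLeffler R M₂ := by
  intro ι Q _ _
  rw [injective_iff_map_eq_zero]
  intro x hx
  have hex : Function.Exact f g := by
    rw [LinearMap.exact_iff]; exact hfg.symm
  have hex' : Function.Exact (f.rTensor (∀ i, Q i)) (g.rTensor (∀ i, Q i)) :=
    rTensor_exact _ hex hg
  have h3 : g.rTensor (∀ i, Q i) x = 0 := by
    apply h₃ ι Q
    rw [← piRightHom_natural_apply, hx, map_zero, map_zero]
  obtain ⟨y, rfl⟩ := (hex' x).mp h3
  have h4 : TensorProduct.piRightHom R R M₁ Q y = 0 := by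
    apply piRTensor_injective R f Q (fun i => hf (Q i))
    rw [piRightHom_natural_apply, hx, map_zero]
  have : y = 0 := by
    apply h₁ ι Q
    rw [h4, map_zero]
  rw [this, map_zero]

theorem exists_sum_tmul_of_span_eq_top {N Q : Type u} [AddCommGroup N] [Module R N]
    [AddCommGroup Q] [Module R Q] {k : ℕ} (v : Fin k → N)
    (hv : Submodule.span R (Set.range v) = ⊤) (t : N ⊗[R] Q) :
    ∃ q : Fin k → Q, t = ∑ j, v j ⊗ₜ[R] q j := by
  induction t using TensorProduct.induction_on with
  | zero => exact ⟨0, by simp⟩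
  | tmul n q =>
    have hn : n ∈ Submodule.span R (Set.range v) := by rw [hv]; trivial
    obtain ⟨c, rfl⟩ := (Submodule.mem_span_range_iff_exists_fun R).mp hn
    refine ⟨fun j => c j • q, ?_⟩
    rw [TensorProduct.sum_tmul]
    refine Finset.sum_congr rfl fun j _ => ?_
    rw [TensorProduct.smul_tmul]
  | add x y hx hy =>
    obtain ⟨qx, rfl⟩ := hx
    obtain ⟨qy, rfl⟩ := hy
    refine ⟨qx + qy, ?_⟩
    simp only [Pi.add_apply, TensorProduct.tmul_add, Finset.sum_add_distrib]

theorem piRightHom_surjective_of_finite {N : Type u} [AddCommGroup N] [Module R N]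
    [Module.Finite R N] {ι : Type u} (Q : ι → Type u) [∀ i, AddCommGroup (Q i)]
    [∀ i, Module R (Q i)] : Function.Surjective (TensorProduct.piRightHom R R N Q) := by
  obtain ⟨k, v, hv⟩ := Module.Finite.exists_fin (R := R) (M := N)
  intro y
  choose q hq using fun i => exists_sum_tmul_of_span_eq_top R v hv (y i)
  refine ⟨∑ j, v j ⊗ₜ[R] (fun i => q i j), ?_⟩
  funext i
  rw [map_sum, Finset.sum_apply, hq i]
  rfl

theorem isMittagLeffler_quotient_of_fg {M : Type u} [AddCommGroup M] [Module R M]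
    (N : Submodule R M) (hN : N.FG) (hM : CAlg.IsMittagLeffler R M) :
    CAlg.IsMittagLeffler R (M ⧸ N) := by
  intro ι Q _ _
  have : Module.Finite R N := Module.Finite.iff_fg.mpr hN
  rw [injective_iff_map_eq_zero]
  intro x hx
  have hex : Function.Exact N.subtype N.mkQ := by
    rw [LinearMap.exact_iff]; simp
  have hsurj : Function.Surjective N.mkQ := N.mkQ_surjective
  obtain ⟨x', rfl⟩ := LinearMap.rTensor_surjective (∀ i, Q i) hsurj x
  -- the image of x' in the product lies in the image of the product over N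
  have h1 : ∀ i, ∃ z : N ⊗[R] Q i, N.subtype.rTensor (Q i) z =
      TensorProduct.piRightHom R R M Q x' i := by
    intro i
    have hexi : Function.Exact (N.subtype.rTensor (Q i)) (N.mkQ.rTensor (Q i)) :=
      rTensor_exact _ hex hsurj
    apply (hexi _).mp
    have := congrFun (piRightHom_natural_apply R N.mkQ Q x') i
    rw [piRTensor_apply] at this
    rw [this, hx]
    rfl
  choose z hz using h1
  obtain ⟨z', hz'⟩ := piRightHom_surjective_of_finite R (N := N) Q z
  have h2 : x' = N.subtype.rTensor (∀ i, Q i) z' := by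
    apply hM ι Q
    rw [← piRightHom_natural_apply, hz']
    funext i
    rw [piRTensor_apply, hz i]
  rw [h2]
  have hex' : Function.Exact (N.subtype.rTensor (∀ i, Q i)) (N.mkQ.rTensor (∀ i, Q i)) :=
    rTensor_exact _ hex hsurj
  exact hex'.apply_apply_eq_zero z'

end Groth.Agent.H32
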