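import Groth.Agent.H32.ML

set_option autoImplicit false
universe u
open TensorProduct

namespace Groth.Agent.H32

section
variable (R S : Type u) [CommRing R] [CommRing S] [Algebra R S] (M : Type u) [AddCommGroup M]
  [Module R M]

/-- `(S ⊗[R] M) ⊗[S] P → M ⊗[R] P` as a plain function (composition of three equivalences) -/
noncomputable def bcFun (P : Type u) [AddCommGroup P] [Module S P] [Module R P]
    [IsScalarTower R S P] : (S ⊗[R] M) ⊗[S] P → M ⊗[R] P :=
  fun x => TensorProduct.comm R P M
    (TensorProduct.AlgebraTensorModule.cancelBaseChange R S S P M (TensorProduct.comm S (S ⊗[R] M) P x))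

theorem bcFun_injective (P : Type u) [AddCommGroup P] [Module S P] [Module R P]
    [IsScalarTower R S P] : Function.Injective (bcFun R S M P) := by
  intro x y h
  unfold bcFun at h
  exact (TensorProduct.comm S (S ⊗[R] M) P).injective
    ((TensorProduct.AlgebraTensorModule.cancelBaseChange R S S P M).injective
      ((TensorProduct.comm R P M).injective h))

theorem bcFun_add (P : Type u) [AddCommGroup P] [Module S P] [Module R P]
    [IsScalarTower R S P] (x y : (S ⊗[R] M) ⊗[S] P) :
    bcFun R S M P (x + y) = bcFun R S M P x + bcFun R S M P y := by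
  unfold bcFun; simp only [map_add]

theorem bcFun_zero (P : Type u) [AddCommGroup P] [Module S P] [Module R P]
    [IsScalarTower R S P] : bcFun R S M P 0 = 0 := by
  unfold bcFun; simp only [map_zero]

theorem bcFun_tmul (P : Type u) [AddCommGroup P] [Module S P] [Module R P]
    [IsScalarTower R S P] (s : S) (m : M) (p : P) :
    bcFun R S M P ((s ⊗ₜ[R] m) ⊗ₜ[S] p) = m ⊗ₜ[R] (s • p) := by
  unfold bcFun; simp

theorem bc_square {ι : Type u} (Q : ι → Type u) [∀ i, AddCommGroup (Q i)] [∀ i, Module S (Q i)]
    [∀ i, Module R (Q i)] [∀ i, IsScalarTower R S (Q i)] (x : (S ⊗[R] M) ⊗[S] (∀ i, Q i)) :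
    (fun i => bcFun R S M (Q i) (TensorProduct.piRightHom S S (S ⊗[R] M) Q x i)) =
      TensorProduct.piRightHom R R M Q (bcFun R S M (∀ i, Q i) x) := by
  induction x using TensorProduct.induction_on with
  | zero =>
    funext i
    simp [bcFun_zero]
  | add x y hx hy =>
    funext i
    have hx' := congrFun hx i
    have hy' := congrFun hy i
    simp only [map_add, Pi.add_apply, bcFun_add] at hx' hy' ⊢
    rw [hx', hy']
  | tmul t q =>
    induction t using TensorProduct.induction_on with
    | zero =>
      funext i
      simp [bcFun_zero]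
    | add x y hx hy =>
      funext i
      have hx' := congrFun hx i
      have hy' := congrFun hy i
      simp only [TensorProduct.add_tmul, map_add, Pi.add_apply, bcFun_add] at hx' hy' ⊢
      rw [hx', hy']
    | tmul s m =>
      funext i
      simp [bcFun_tmul]

theorem isMittagLeffler_baseChange (hM : CAlg.IsMittagLeffler R M) :
    CAlg.IsMittagLeffler S (S ⊗[R] M) := by
  intro ι Q _ _
  let _ : ∀ i, Module R (Q i) := fun i => Module.compHom (Q i) (algebraMap R S)
  have : ∀ i, IsScalarTower R S (Q i) := fun i =>
    IsScalarTower.of_algebraMap_smul (fun r x => rfl)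
  intro x y hxy
  apply bcFun_injective R S M (∀ i, Q i)
  apply hM ι Q
  rw [← bc_square, ← bc_square, hxy]

end

end Groth.Agent.H32
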