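import Groth.Agent.H32.MLDirLim

set_option autoImplicit false
universe u
open TensorProduct

namespace Groth.Agent.H32

/-- formal terms generated by countably many constants, a unary and a binary operation -/
inductive GenTerm : Type
  | base : ℕ → GenTerm
  | next : GenTerm → GenTerm
  | join : GenTerm → GenTerm → GenTerm
  deriving Countable

/-- evaluation of formal terms -/
def GenTerm.eval {ι : Type u} (b : ℕ → ι) (J : ι → ι) (U : ι → ι → ι) : GenTerm → ι
  | GenTerm.base n => b n
  | GenTerm.next t => J (GenTerm.eval b J U t)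
  | GenTerm.join t t' => U (GenTerm.eval b J U t) (GenTerm.eval b J U t')

theorem exists_countable_directed_subcolimit {R : Type u} [CommRing R]
    {ι : Type u} [Preorder ι] [IsDirected ι (· ≤ ·)] [Nonempty ι] [DecidableEq ι] (G : ι → Type u)
    [∀ i, AddCommGroup (G i)] [∀ i, Module R (G i)] [∀ i, Module.FinitePresentation R (G i)]
    (f : ∀ i j, i ≤ j → G i →ₗ[R] G j) [DirectedSystem G fun i j h => f i j h]
    (hML : CAlg.IsMittagLeffler R (Module.DirectLimit G f))
    (hc : CAlg.IsCountablyGenerated R (Module.DirectLimit G f)) :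
    ∃ I' : Set ι, I'.Countable ∧ DirectedOn (· ≤ ·) I' ∧
      Function.Bijective (Module.DirectLimit.lift R I' (fun i : I' => G i.1)
        (fun (i j : I') (h : i ≤ j) => f i.1 j.1 h)
        (fun i : I' => Module.DirectLimit.of R ι G f i.1)
        (fun (i j : I') (h : i ≤ j) (x : G i.1) => Module.DirectLimit.of_f)) := by
  classical
  obtain ⟨s, hs, hspan⟩ := hc
  have hs' : (s ∪ {0}).Countable := hs.union (Set.countable_singleton 0)
  obtain ⟨e, he⟩ := hs'.exists_eq_range ⟨0, Or.inr rfl⟩
  choose b y hb using fun n => Module.DirectLimit.exists_of (e n)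
  choose J hJ hJ' using fun i => eventually_factors_of_isMittagLeffler_directLimit G f hML i
  choose U hU1 hU2 using fun i j : ι => exists_ge_ge i j
  refine ⟨Set.range (GenTerm.eval b J U), Set.countable_range _, ?_, ?_⟩
  · rintro _ ⟨t, rfl⟩ _ ⟨t', rfl⟩
    exact ⟨_, ⟨GenTerm.join t t', rfl⟩, hU1 _ _, hU2 _ _⟩
  · have hne : Nonempty (Set.range (GenTerm.eval b J U)) := ⟨⟨_, GenTerm.base 0, rfl⟩⟩
    have hdir : IsDirected (Set.range (GenTerm.eval b J U)) (· ≤ ·) := by
      refine ⟨?_⟩
      rintro ⟨_, t, rfl⟩ ⟨_, t', rfl⟩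
      exact ⟨⟨_, GenTerm.join t t', rfl⟩, hU1 _ _, hU2 _ _⟩
    constructor
    · rw [injective_iff_map_eq_zero]
      intro x hx
      obtain ⟨i, xi, rfl⟩ := Module.DirectLimit.exists_of x
      rw [Module.DirectLimit.lift_of] at hx
      obtain ⟨k, hik, hk⟩ := Module.DirectLimit.of.zero_exact hx
      obtain ⟨i, t, rfl⟩ := i
      obtain ⟨h, hh⟩ := hJ' _ k hik
      have h0 : f _ _ (hJ (GenTerm.eval b J U t)) xi = 0 := by
        rw [hh, LinearMap.comp_apply, hk, map_zero]
      have hij : (⟨GenTerm.eval b J U t, t, rfl⟩ : Set.range (GenTerm.eval b J U)) ≤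
          ⟨J (GenTerm.eval b J U t), GenTerm.next t, rfl⟩ := hJ _
      rw [← Module.DirectLimit.of_f (hij := hij), h0, map_zero]
    · rw [← LinearMap.range_eq_top, eq_top_iff, ← hspan]
      apply Submodule.span_le.2
      intro m hm
      have : m ∈ Set.range e := he ▸ Or.inl hm
      obtain ⟨n, rfl⟩ := this
      refine ⟨Module.DirectLimit.of R _ _ _ ⟨b n, GenTerm.base n, rfl⟩ (y n), ?_⟩
      rw [Module.DirectLimit.lift_of]
      exact hb n

end Groth.Agent.H32
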