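import Groth.Agent.H32.MLDom
import Groth.Agent.H32.DomFactor

set_option autoImplicit false
universe u
open TensorProduct

namespace Groth.Agent.H32

section
variable {R : Type u} [CommRing R] {ι : Type u} [Preorder ι] [IsDirected ι (· ≤ ·)]
  [DecidableEq ι] (G : ι → Type u) [∀ i, AddCommGroup (G i)] [∀ i, Module R (G i)]
  (f : ∀ i j, i ≤ j → G i →ₗ[R] G j) [DirectedSystem G fun i j h => f i j h]

/-- an element of `Gᵢ ⊗ N` dying in the colimit dies at a finite stage -/
theorem exists_rTensor_eq_zero_of_of_eq_zero {N : Type u} [AddCommGroup N] [Module R N] {i : ι}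
    (x : G i ⊗[R] N) (hx : (Module.DirectLimit.of R ι G f i).rTensor N x = 0) :
    ∃ (j : ι) (hij : i ≤ j), (f i j hij).rTensor N x = 0 := by
  have h1 := TensorProduct.directLimitLeft_rTensor_of f N x
  rw [hx, map_zero] at h1
  exact Module.DirectLimit.of.zero_exact h1.symm

omit [DirectedSystem G fun i j h => f i j h] in
/-- every element of the tensor product with a colimit comes from a finite stage -/
theorem exists_of_rTensor_eq [Nonempty ι] {N : Type u} [AddCommGroup N] [Module R N]
    (z : Module.DirectLimit G f ⊗[R] N) :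
    ∃ (i : ι) (x : G i ⊗[R] N), (Module.DirectLimit.of R ι G f i).rTensor N x = z := by
  obtain ⟨i, x, hx⟩ := Module.DirectLimit.exists_of (TensorProduct.directLimitLeft f N z)
  refine ⟨i, x, ?_⟩
  apply (TensorProduct.directLimitLeft f N).injective
  rw [TensorProduct.directLimitLeft_rTensor_of, hx]

omit [IsDirected ι (· ≤ ·)] [DirectedSystem G fun i j h => f i j h] in
theorem of_comp_f {i j : ι} (hij : i ≤ j) :
    Module.DirectLimit.of R ι G f j ∘ₗ f i j hij = Module.DirectLimit.of R ι G f i := by
  ext x
  simp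

/-- Mittag-Leffler criterion for colimits of finitely presented modules, first direction. -/
theorem isMittagLeffler_directLimit_of_eventually_factors [Nonempty ι]
    [∀ i, Module.FinitePresentation R (G i)]
    (H : ∀ i, ∃ (j : ι) (hij : i ≤ j), ∀ (k : ι) (hik : i ≤ k),
        ∃ h : G k →ₗ[R] G j, f i j hij = h ∘ₗ f i k hik) :
    CAlg.IsMittagLeffler R (Module.DirectLimit G f) := by
  intro A Q _ _
  rw [injective_iff_map_eq_zero]
  intro z hz
  obtain ⟨i, zi, rfl⟩ := exists_of_rTensor_eq G f z
  obtain ⟨j, hij, hj⟩ := H i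
  have h1 : TensorProduct.piRightHom R R (G j) Q ((f i j hij).rTensor _ zi) = 0 := by
    rw [← piRightHom_natural_apply]
    funext α
    rw [piRTensor_apply, Pi.zero_apply]
    have h2 : (Module.DirectLimit.of R ι G f i).rTensor (Q α)
        (TensorProduct.piRightHom R R _ Q zi α) = 0 := by
      have := congrFun hz α
      rw [← piRightHom_natural_apply, piRTensor_apply] at this
      exact this
    obtain ⟨k, hik, hk⟩ := exists_rTensor_eq_zero_of_of_eq_zero G f _ h2
    obtain ⟨h, hh⟩ := hj k hik
    rw [hh, LinearMap.rTensor_comp, LinearMap.comp_apply, hk, map_zero]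
  have h3 : (f i j hij).rTensor _ zi = 0 :=
    (piRightHom_bijective_of_finitePresentation R (G j) Q).1 (h1.trans (map_zero _).symm)
  rw [← of_comp_f G f hij, LinearMap.rTensor_comp, LinearMap.comp_apply, h3, map_zero]

/-- Mittag-Leffler criterion for colimits of finitely presented modules, second direction. -/
theorem eventually_factors_of_isMittagLeffler_directLimit
    [∀ i, Module.FinitePresentation R (G i)]
    (hML : CAlg.IsMittagLeffler R (Module.DirectLimit G f)) (i : ι) :
    ∃ (j : ι) (hij : i ≤ j), ∀ (k : ι) (hik : i ≤ k),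
        ∃ h : G k →ₗ[R] G j, f i j hij = h ∘ₗ f i k hik := by
  obtain ⟨Q, _, _, _, g, -, hg⟩ :=
    exists_fp_mutually_dominating hML (Module.DirectLimit.of R ι G f i)
  -- Step A: `g` factors through every `f i k`
  have hA : ∀ (k : ι) (hik : i ≤ k), ∃ h : G k →ₗ[R] Q, g = h ∘ₗ f i k hik := by
    intro k hik
    have := finitePresentation_coker (f i k hik)
    apply exists_factor_of_dominates (f i k hik) g
    intro N _ _ z hz
    rw [← hg N]
    rw [LinearMap.mem_ker] at hz ⊢
    rw [← of_comp_f G f hik, LinearMap.rTensor_comp, LinearMap.comp_apply, hz, map_zero]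
  -- Step B: some `f i j` factors through `g`
  obtain ⟨𝒩, _, _, x, hx, huniv⟩ :=
    exists_universal_kernel_element (isMittagLeffler_of_finitePresentation R Q) g
  have hx' : (Module.DirectLimit.of R ι G f i).rTensor 𝒩 x = 0 := by
    have : x ∈ LinearMap.ker ((Module.DirectLimit.of R ι G f i).rTensor 𝒩) := by
      rw [hg 𝒩]
      exact hx
    exact this
  obtain ⟨j, hij, hj⟩ := exists_rTensor_eq_zero_of_of_eq_zero G f x hx'
  have := finitePresentation_coker g
  obtain ⟨h', hh'⟩ := exists_factor_of_dominates g (f i j hij) (huniv (G j) (f i j hij) hj)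
  refine ⟨j, hij, ?_⟩
  intro k hik
  obtain ⟨h, hh⟩ := hA k hik
  refine ⟨h' ∘ₗ h, ?_⟩
  rw [LinearMap.comp_assoc, ← hh, hh']

end

end Groth.Agent.H32
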