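import Groth.Agent.H32.MLfp
import Groth.Agent.H32.FpFactor
import Groth.Agent.H32.Dominate

set_option autoImplicit false
universe u
open TensorProduct

namespace Groth.Agent.H32

/-- The index type for the universal family of finitely presented test modules. -/
def UnivIdx {R : Type u} [CommRing R] {P M : Type u} [AddCommGroup P] [Module R P]
    [AddCommGroup M] [Module R M] (f : P →ₗ[R] M) : Type u :=
  Σ (n : ℕ), Σ (K : {K : Submodule R (Fin n → R) // K.FG}),
    ↥(LinearMap.ker (f.rTensor ((Fin n → R) ⧸ K.1)))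

/-- The universal family of test modules. -/
def UnivMod {R : Type u} [CommRing R] {P M : Type u} [AddCommGroup P] [Module R P]
    [AddCommGroup M] [Module R M] (f : P →ₗ[R] M) (α : UnivIdx f) : Type u :=
  (Fin α.1 → R) ⧸ α.2.1.1

noncomputable instance {R : Type u} [CommRing R] {P M : Type u} [AddCommGroup P] [Module R P]
    [AddCommGroup M] [Module R M] (f : P →ₗ[R] M) (α : UnivIdx f) : AddCommGroup (UnivMod f α) :=
  inferInstanceAs (AddCommGroup ((Fin α.1 → R) ⧸ α.2.1.1))

noncomputable instance {R : Type u} [CommRing R] {P M : Type u} [AddCommGroup P] [Module R P]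
    [AddCommGroup M] [Module R M] (f : P →ₗ[R] M) (α : UnivIdx f) : Module R (UnivMod f α) :=
  inferInstanceAs (Module R ((Fin α.1 → R) ⧸ α.2.1.1))

/-- the universal family of kernel elements -/
def univElt {R : Type u} [CommRing R] {P M : Type u} [AddCommGroup P] [Module R P]
    [AddCommGroup M] [Module R M] (f : P →ₗ[R] M) (α : UnivIdx f) : P ⊗[R] UnivMod f α :=
  α.2.2.1

theorem univElt_mem {R : Type u} [CommRing R] {P M : Type u} [AddCommGroup P] [Module R P]
    [AddCommGroup M] [Module R M] (f : P →ₗ[R] M) (α : UnivIdx f) :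
    f.rTensor (UnivMod f α) (univElt f α) = 0 :=
  LinearMap.mem_ker.1 α.2.2.2

/-- The universal kernel element: for a map `f : P → M` from a finitely presented module to a
Mittag-Leffler module there is a single module `𝒩` and a single element `x` of the kernel of `f ⊗ 𝒩`
such that any map `f'` out of `P` with `(f' ⊗ 𝒩) x = 0` dominates `f`. -/
theorem exists_universal_kernel_element {R : Type u} [CommRing R] {P M : Type u}
    [AddCommGroup P] [Module R P] [Module.FinitePresentation R P] [AddCommGroup M] [Module R M]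
    (hM : CAlg.IsMittagLeffler R M) (f : P →ₗ[R] M) :
    ∃ (𝒩 : Type u) (_ : AddCommGroup 𝒩) (_ : Module R 𝒩) (x : P ⊗[R] 𝒩), f.rTensor 𝒩 x = 0 ∧
      ∀ (P' : Type u) [AddCommGroup P'] [Module R P'] (f' : P →ₗ[R] P'), f'.rTensor 𝒩 x = 0 →
        ∀ (N : Type u) [AddCommGroup N] [Module R N],
          LinearMap.ker (f.rTensor N) ≤ LinearMap.ker (f'.rTensor N) := by
  classical
  obtain ⟨x, hx⟩ := (piRightHom_bijective_of_finitePresentation R P (UnivMod f)).2 (univElt f)
  refine ⟨∀ α, UnivMod f α, inferInstance, inferInstance, x, ?_, ?_⟩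
  · apply hM (UnivIdx f) (UnivMod f)
    rw [← piRightHom_natural_apply, hx, map_zero]
    funext α
    simp only [piRTensor_apply, Pi.zero_apply]
    exact univElt_mem f α
  · intro P' _ _ f' hf' N _ _
    refine dominates_of_forall_finitePresentation f f' ?_ N
    intro N _ _ hN z hz
    rw [LinearMap.mem_ker] at hz ⊢
    obtain ⟨n, K, e, hK⟩ := Module.FinitePresentation.exists_fin R N
    have hz' : f.rTensor ((Fin n → R) ⧸ K) (e.toLinearMap.lTensor P z) = 0 := by
      rw [← LinearMap.comp_apply, LinearMap.rTensor_comp_lTensor, ← LinearMap.lTensor_comp_rTensor,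
        LinearMap.comp_apply, hz, map_zero]
    let α : UnivIdx f := ⟨n, ⟨K, hK⟩, ⟨e.toLinearMap.lTensor P z, LinearMap.mem_ker.2 hz'⟩⟩
    have h1 : piRTensor R f' (UnivMod f) (TensorProduct.piRightHom R R P (UnivMod f) x) α = 0 := by
      rw [piRightHom_natural_apply, hf', map_zero]
      rfl
    rw [hx, piRTensor_apply] at h1
    have h2 : f'.rTensor ((Fin n → R) ⧸ K) (e.toLinearMap.lTensor P z) = 0 := h1
    rw [← LinearMap.comp_apply, LinearMap.rTensor_comp_lTensor, ← LinearMap.lTensor_comp_rTensor,
      LinearMap.comp_apply] at h2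
    have hinj : Function.Injective (e.toLinearMap.lTensor P') :=
      (LinearEquiv.lTensor P' e).injective
    exact hinj (h2.trans (map_zero _).symm)


/-- every element of `M ⊗ Q` comes from `Rⁿ ⊗ Q` -/
theorem exists_fin_rTensor_eq {R : Type u} [CommRing R] {M Q : Type u}
    [AddCommGroup M] [Module R M] [AddCommGroup Q] [Module R Q] (x : M ⊗[R] Q) :
    ∃ (n : ℕ) (φ : (Fin n → R) →ₗ[R] M) (x' : (Fin n → R) ⊗[R] Q), φ.rTensor Q x' = x := by
  obtain ⟨M₀, hM₀, x₀, hx₀⟩ := TensorProduct.exists_of_fg x
  have : Module.Finite R M₀ := Module.Finite.iff_fg.2 hM₀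
  obtain ⟨n, p, hp⟩ := Module.Finite.exists_fin' R M₀
  obtain ⟨x', hx'⟩ := LinearMap.rTensor_surjective Q hp x₀
  refine ⟨n, M₀.subtype ∘ₗ p, x', ?_⟩
  rw [LinearMap.rTensor_comp, LinearMap.comp_apply, hx', hx₀]

/-- Mittag-Leffler modules: every map from a finitely presented module is mutually dominated by a
map to a finitely presented module. -/
theorem exists_fp_mutually_dominating {R : Type u} [CommRing R] {P M : Type u}
    [AddCommGroup P] [Module R P] [Module.FinitePresentation R P] [AddCommGroup M] [Module R M]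
    (hM : CAlg.IsMittagLeffler R M) (f : P →ₗ[R] M) :
    ∃ (Q : Type u) (_ : AddCommGroup Q) (_ : Module R Q) (_ : Module.FinitePresentation R Q)
      (g : P →ₗ[R] Q) (_ : Q →ₗ[R] M),
      ∀ (N : Type u) [AddCommGroup N] [Module R N],
        LinearMap.ker (f.rTensor N) = LinearMap.ker (g.rTensor N) := by
  obtain ⟨𝒩, _, _, x, hx, huniv⟩ := exists_universal_kernel_element hM f
  obtain ⟨P', i1, i2, i3, f', h, hf, hf'⟩ := exists_fp_factor_of_rTensor_eq_zero f x hx
  refine ⟨P', i1, i2, i3, f', h, ?_⟩
  intro N _ _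
  apply le_antisymm
  · exact huniv P' f' hf' N
  · intro z hz
    rw [LinearMap.mem_ker] at hz ⊢
    rw [hf, LinearMap.rTensor_comp, LinearMap.comp_apply, hz, map_zero]

/-- The converse: the domination property for maps from finite free modules implies
Mittag-Leffler. -/
theorem isMittagLeffler_of_forall_finiteFree_dominate {R : Type u} [CommRing R] {M : Type u}
    [AddCommGroup M] [Module R M]
    (h : ∀ (n : ℕ) (f : (Fin n → R) →ₗ[R] M),
      ∃ (Q : Type u) (_ : AddCommGroup Q) (_ : Module R Q) (_ : Module.FinitePresentation R Q)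
        (g : (Fin n → R) →ₗ[R] Q),
        ∀ (N : Type u) [AddCommGroup N] [Module R N],
          LinearMap.ker (f.rTensor N) ≤ LinearMap.ker (g.rTensor N) ∧
          LinearMap.ker (g.rTensor N) ≤ LinearMap.ker (f.rTensor N)) :
    CAlg.IsMittagLeffler R M := by
  intro ι Q _ _
  rw [injective_iff_map_eq_zero]
  intro z hz
  obtain ⟨n, φ, z', rfl⟩ := exists_fin_rTensor_eq z
  obtain ⟨Q', _, _, _, g, hg⟩ := h n φ
  have h1 : TensorProduct.piRightHom R R Q' Q (g.rTensor _ z') = 0 := by
    rw [← piRightHom_natural_apply]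
    funext α
    rw [piRTensor_apply, Pi.zero_apply]
    have h2 : φ.rTensor (Q α) (TensorProduct.piRightHom R R _ Q z' α) = 0 := by
      have := congrFun hz α
      rw [← piRightHom_natural_apply, piRTensor_apply] at this
      exact this
    exact (hg (Q α)).1 h2
  have h3 : g.rTensor _ z' = 0 :=
    (piRightHom_bijective_of_finitePresentation R Q' Q).1 (h1.trans (map_zero _).symm)
  exact (hg _).2 h3

end Groth.Agent.H32
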