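import Groth.Agent.H32.MLGeomIntB
import Groth.Agent.H32.FlatModelAlg
import Groth.Agent.H20.ComplNoeth2
import Groth.Agent.H1.FlatDescSub
import Groth.Agent.H6.GeomIntFibres

/-!
# A flat finitely presented algebra with geometrically integral fibres over a local ring is
Mittag-Leffler

This is the key input for the Raynaud–Gruson treatment of flatness and freeness over local rings
without Noetherian hypotheses.
-/

set_option autoImplicit false
set_option linter.style.haveILetI false
universe u

open TensorProduct IsLocalRing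

namespace Groth.Agent.H32.MLGeomInt

attribute [local instance] Algebra.TensorProduct.rightAlgebra

/-- The statement, given a Noetherian local ring `A` with `A → R` local, over which the algebra
`S` is defined. -/
theorem isMittagLeffler_of_model_noeth_local
    (R₀ : Type u) [CommRing R₀]
    (S₀ : Type u) [CommRing S₀] [Algebra R₀ S₀] [Algebra.FinitePresentation R₀ S₀]
    [Module.Flat R₀ S₀]
    (R : Type u) [CommRing R] [IsLocalRing R] [Algebra R₀ R]
    (S : Type u) [CommRing S] [Algebra R S] [Algebra S₀ S] [Algebra R₀ S] [IsScalarTower R₀ R S]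
    [IsScalarTower R₀ S₀ S] [Algebra.IsPushout R₀ R S₀ S]
    (hdomK : ∀ (K : Type u) [Field K] [Algebra R K], IsDomain (K ⊗[R] S))
    (A : Type u) [CommRing A] [IsNoetherianRing A] [IsLocalRing A] [Algebra R₀ A] [Algebra A R]
    [IsScalarTower R₀ A R] (hAR : (maximalIdeal R).comap (algebraMap A R) = maximalIdeal A) :
    CAlg.IsMittagLeffler R S := by
  haveI : IsNoetherianRing (AdicCompletion (maximalIdeal A) A) :=
    Groth.Agent.H20.isNoetherianRing_adicCompletion _
  have hAh : (maximalIdeal (AdicCompletion (maximalIdeal A) A)).comap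
      (algebraMap A (AdicCompletion (maximalIdeal A) A)) = maximalIdeal A :=
    ((IsLocalRing.local_hom_TFAE
      (algebraMap A (AdicCompletion (maximalIdeal A) A))).out 0 4).mp
      (inferInstance : IsLocalHom (algebraMap A (AdicCompletion (maximalIdeal A) A)))
  obtain ⟨Q, hQ1, hQ2⟩ := Groth.Agent.H1.FlatDescSub.exists_prime_tensorProduct A R
    (AdicCompletion (maximalIdeal A) A) ⟨maximalIdeal R, inferInstance⟩
    ⟨maximalIdeal (AdicCompletion (maximalIdeal A) A), inferInstance⟩
    (PrimeSpectrum.ext (hAR.trans hAh.symm))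
  haveI : IsScalarTower R₀ (AdicCompletion (maximalIdeal A) A)
      (R ⊗[A] (AdicCompletion (maximalIdeal A) A)) := IsScalarTower.of_algebraMap_eq fun x => by
    show algebraMap R₀ R x ⊗ₜ[A] (1 : AdicCompletion (maximalIdeal A) A) =
      (1 : R) ⊗ₜ[A] algebraMap R₀ (AdicCompletion (maximalIdeal A) A) x
    rw [IsScalarTower.algebraMap_apply R₀ A R,
      IsScalarTower.algebraMap_apply R₀ A (AdicCompletion (maximalIdeal A) A),
      Algebra.algebraMap_eq_smul_one (A := R), Algebra.algebraMap_eq_smul_one
        (A := AdicCompletion (maximalIdeal A) A), TensorProduct.smul_tmul]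
  exact Groth.Agent.H32.MLGeomIntB.isMittagLeffler_of_model_prime R₀ S₀ R S hdomK
    (AdicCompletion (maximalIdeal A) A) (R ⊗[A] (AdicCompletion (maximalIdeal A) A)) Q.asIdeal
    (congrArg PrimeSpectrum.asIdeal hQ1) (congrArg PrimeSpectrum.asIdeal hQ2)

/-- The statement, given a Noetherian model. -/
theorem isMittagLeffler_of_model_noeth
    (R₀ : Type u) [CommRing R₀] [IsNoetherianRing R₀]
    (S₀ : Type u) [CommRing S₀] [Algebra R₀ S₀] [Algebra.FinitePresentation R₀ S₀]
    [Module.Flat R₀ S₀]
    (R : Type u) [CommRing R] [IsLocalRing R] [Algebra R₀ R]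
    (S : Type u) [CommRing S] [Algebra R S] [Algebra S₀ S] [Algebra R₀ S] [IsScalarTower R₀ R S]
    [IsScalarTower R₀ S₀ S] [Algebra.IsPushout R₀ R S₀ S]
    (hdomK : ∀ (K : Type u) [Field K] [Algebra R K], IsDomain (K ⊗[R] S)) :
    CAlg.IsMittagLeffler R S := by
  let m₀ : Ideal R₀ := (maximalIdeal R).comap (algebraMap R₀ R)
  haveI : m₀.IsPrime := Ideal.comap_isPrime _ _
  have hunits : ∀ y : m₀.primeCompl, IsUnit (algebraMap R₀ R y) := fun y => by
    by_contra h
    exact y.2 ((mem_maximalIdeal _).mpr h)
  letI : Algebra (Localization.AtPrime m₀) R :=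
    (IsLocalization.lift (M := m₀.primeCompl) (S := Localization.AtPrime m₀) hunits).toAlgebra
  haveI : IsScalarTower R₀ (Localization.AtPrime m₀) R :=
    IsScalarTower.of_algebraMap_eq fun x => (IsLocalization.lift_eq hunits x).symm
  haveI : IsNoetherianRing (Localization.AtPrime m₀) :=
    IsLocalization.isNoetherianRing m₀.primeCompl _ inferInstance
  have hAR : (maximalIdeal R).comap (algebraMap (Localization.AtPrime m₀) R) =
      maximalIdeal (Localization.AtPrime m₀) := by
    haveI : ((maximalIdeal R).comap (algebraMap (Localization.AtPrime m₀) R)).IsPrime :=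
      Ideal.comap_isPrime _ _
    apply le_antisymm (IsLocalRing.le_maximalIdeal (Ideal.IsPrime.ne_top inferInstance))
    rw [← Localization.AtPrime.map_eq_maximalIdeal, Ideal.map_le_iff_le_comap, Ideal.comap_comap,
      ← IsScalarTower.algebraMap_eq]
  exact isMittagLeffler_of_model_noeth_local R₀ S₀ R S hdomK (Localization.AtPrime m₀) hAR

/-- **A finitely presented flat algebra with geometrically integral fibres over a local ring is a
Mittag-Leffler module.** -/
theorem isMittagLeffler_of_geomIntegralFibres (R S : Type u) [CommRing R] [IsLocalRing R]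
    [CommRing S] [Algebra R S] [Algebra.FinitePresentation R S] [Module.Flat R S]
    (hgi : FlatCA.GeomIntegralFibres R S) : CAlg.IsMittagLeffler R S := by
  obtain ⟨R₀, _, _, S₀, _, _, _, _, _, _, hft, hfp, hflat, hpo⟩ :=
    Groth.Agent.H32.FlatModelAlg.exists_flat_model R S
  haveI := hft
  haveI := hfp
  haveI := hflat
  haveI := hpo
  haveI : IsNoetherianRing R₀ := Algebra.FiniteType.isNoetherianRing ℤ R₀
  exact isMittagLeffler_of_model_noeth R₀ S₀ R S
    (fun K _ _ => Groth.Agent.H6.GeomIntFibres.isDomain_tensor hgi K)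

end Groth.Agent.H32.MLGeomInt
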