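import Groth.Agent.H32.ML2

set_option autoImplicit false
universe u
open TensorProduct

namespace Groth.Agent.H32

variable (R : Type u) [CommRing R]

theorem isMittagLeffler_self : CAlg.IsMittagLeffler R R := by
  intro ι Q _ _
  have key : ∀ x : R ⊗[R] (∀ i, Q i),
      (fun i => TensorProduct.lid R (Q i) (TensorProduct.piRightHom R R R Q x i)) =
        TensorProduct.lid R (∀ i, Q i) x := by
    intro x
    induction x using TensorProduct.induction_on with
    | zero => funext i; simp
    | tmul r q => funext i; simp
    | add x y hx hy =>
      funext i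
      have hx' := congrFun hx i
      have hy' := congrFun hy i
      simp only [map_add, Pi.add_apply] at hx' hy' ⊢
      rw [hx', hy']
  intro x y hxy
  apply (TensorProduct.lid R (∀ i, Q i)).injective
  rw [← key, ← key, hxy]

theorem isMittagLeffler_of_equiv {M M' : Type u} [AddCommGroup M] [Module R M] [AddCommGroup M']
    [Module R M'] (e : M ≃ₗ[R] M') (h : CAlg.IsMittagLeffler R M) : CAlg.IsMittagLeffler R M' := by
  apply isMittagLeffler_of_universallyInjective R e.symm.toLinearMap _ h
  apply universallyInjective_of_leftInverse R _ e.toLinearMap
  ext x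
  simp

theorem isMittagLeffler_prod {M M' : Type u} [AddCommGroup M] [Module R M] [AddCommGroup M']
    [Module R M'] (h : CAlg.IsMittagLeffler R M) (h' : CAlg.IsMittagLeffler R M') :
    CAlg.IsMittagLeffler R (M × M') := by
  apply isMittagLeffler_of_extension R (LinearMap.inl R M M') (LinearMap.snd R M M') _
    LinearMap.snd_surjective (LinearMap.range_inl R M M') h h'
  apply universallyInjective_of_leftInverse R _ (LinearMap.fst R M M')
  ext x
  simp

theorem isMittagLeffler_of_subsingleton {M : Type u} [AddCommGroup M] [Module R M]
    [Subsingleton M] : CAlg.IsMittagLeffler R M := by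
  intro ι Q _ _ x y _
  exact Subsingleton.elim _ _

theorem isMittagLeffler_pi_fin (n : ℕ) : CAlg.IsMittagLeffler R (Fin n → R) := by
  induction n with
  | zero => exact isMittagLeffler_of_subsingleton R
  | succ n ih =>
    exact isMittagLeffler_of_equiv R (Fin.consLinearEquiv R (fun _ : Fin (n + 1) => R))
      (isMittagLeffler_prod R (isMittagLeffler_self R) ih)

theorem isMittagLeffler_of_finitePresentation (P : Type u) [AddCommGroup P] [Module R P]
    [Module.FinitePresentation R P] : CAlg.IsMittagLeffler R P := by
  obtain ⟨n, K, e, hK⟩ := Module.FinitePresentation.exists_fin R P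
  exact isMittagLeffler_of_equiv R e.symm
    (isMittagLeffler_quotient_of_fg R K hK (isMittagLeffler_pi_fin R n))

theorem piRightHom_bijective_of_finitePresentation (P : Type u) [AddCommGroup P] [Module R P]
    [Module.FinitePresentation R P] {ι : Type u} (Q : ι → Type u) [∀ i, AddCommGroup (Q i)]
    [∀ i, Module R (Q i)] : Function.Bijective (TensorProduct.piRightHom R R P Q) :=
  ⟨isMittagLeffler_of_finitePresentation R P ι Q, piRightHom_surjective_of_finite R Q⟩

end Groth.Agent.H32
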