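import Groth.Agent.H32.MLPushout
import Groth.Agent.H32.MLfp
import Groth.Agent.S0586

/-!
# Mittag-Leffler property of flat finitely presented algebras with integral fibres: abstract form

`S` is a flat `R`-algebra (`R` local) which is the base change of a finitely presented flat algebra
`S₀` over a Noetherian ring `R₀`, all of whose base changes to fields are domains. Given a complete
Noetherian local `R₀`-algebra `Ah` and a local ring `R'`, faithfully flat over `R`, receiving a local
homomorphism from `Ah` compatible with the structure maps from `R₀`, the `R`-module `S` is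
Mittag-Leffler.
-/

set_option autoImplicit false
set_option linter.style.haveILetI false
universe u

open TensorProduct IsLocalRing

namespace Groth.Agent.H32.MLGeomIntA

section

variable (R₀ : Type u) [CommRing R₀]
    (S₀ : Type u) [CommRing S₀] [Algebra R₀ S₀]
    (R : Type u) [CommRing R] [Algebra R₀ R]
    (S : Type u) [CommRing S] [Algebra R S] [Algebra S₀ S] [Algebra R₀ S] [IsScalarTower R₀ R S]
    [IsScalarTower R₀ S₀ S] [Algebra.IsPushout R₀ R S₀ S]
    (R' : Type u) [CommRing R'] [Algebra R R'] [Algebra R₀ R'] [IsScalarTower R₀ R R']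

include S in
theorem isDomain_of_model
    (hdomK : ∀ (K : Type u) [Field K] [Algebra R K], IsDomain (K ⊗[R] S))
    (K : Type u) [Field K] [Algebra R' K] : IsDomain (K ⊗[R'] (R' ⊗[R₀] S₀)) := by
  letI : Algebra R K := ((algebraMap R' K).comp (algebraMap R R')).toAlgebra
  haveI : IsScalarTower R R' K := IsScalarTower.of_algebraMap_eq fun _ => rfl
  letI : Algebra R₀ K := ((algebraMap R' K).comp (algebraMap R₀ R')).toAlgebra
  haveI : IsScalarTower R₀ R' K := IsScalarTower.of_algebraMap_eq fun _ => rfl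
  haveI : IsScalarTower R₀ R K := IsScalarTower.of_algebraMap_eq fun x => by
    show algebraMap R' K (algebraMap R₀ R' x) = algebraMap R' K (algebraMap R R' (algebraMap R₀ R x))
    rw [← IsScalarTower.algebraMap_apply R₀ R R']
  haveI := hdomK K
  let e1 : K ⊗[R'] (R' ⊗[R₀] S₀) ≃ₐ[R'] K ⊗[R₀] S₀ :=
    Algebra.TensorProduct.cancelBaseChange R₀ R' R' K S₀
  let e2 : K ⊗[R] (R ⊗[R₀] S₀) ≃ₐ[R] K ⊗[R₀] S₀ :=
    Algebra.TensorProduct.cancelBaseChange R₀ R R K S₀
  let e3 : K ⊗[R] (R ⊗[R₀] S₀) ≃ₐ[K] K ⊗[R] S :=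
    Algebra.TensorProduct.congr AlgEquiv.refl (Algebra.IsPushout.equiv R₀ R S₀ S)
  let e : K ⊗[R'] (R' ⊗[R₀] S₀) ≃+* K ⊗[R] S :=
    e1.toRingEquiv.trans (e2.symm.toRingEquiv.trans e3.toRingEquiv)
  exact e.toMulEquiv.isDomain _

end

theorem isMittagLeffler_of_model
    (R₀ : Type u) [CommRing R₀]
    (S₀ : Type u) [CommRing S₀] [Algebra R₀ S₀] [Algebra.FinitePresentation R₀ S₀]
    [Module.Flat R₀ S₀]
    (R : Type u) [CommRing R] [Algebra R₀ R]
    (S : Type u) [CommRing S] [Algebra R S] [Algebra S₀ S] [Algebra R₀ S] [IsScalarTower R₀ R S]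
    [IsScalarTower R₀ S₀ S] [Algebra.IsPushout R₀ R S₀ S]
    (hdomK : ∀ (K : Type u) [Field K] [Algebra R K], IsDomain (K ⊗[R] S))
    (Ah : Type u) [CommRing Ah] [IsNoetherianRing Ah] [IsLocalRing Ah]
    [IsAdicComplete (maximalIdeal Ah) Ah] [Algebra R₀ Ah]
    (R' : Type u) [CommRing R'] [IsLocalRing R'] [Algebra R R'] [Algebra Ah R'] [Algebra R₀ R']
    [IsScalarTower R₀ R R'] [IsScalarTower R₀ Ah R'] [IsLocalHom (algebraMap Ah R')]
    [Module.FaithfullyFlat R R'] :
    CAlg.IsMittagLeffler R S := by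
  classical
  -- the Noetherian algebra `E` over `Ah`
  let E := Ah ⊗[R₀] S₀
  haveI : Algebra.FiniteType Ah E := inferInstance
  haveI : IsNoetherianRing E := Algebra.FiniteType.isNoetherianRing Ah E
  haveI : Module.Flat Ah E := inferInstance
  -- the algebra `V` over `R'`
  let V := R' ⊗[R₀] S₀
  letI algEV : Algebra E V := (Algebra.TensorProduct.map (IsScalarTower.toAlgHom R₀ Ah R')
    (AlgHom.id R₀ S₀)).toRingHom.toAlgebra
  have hEV : ∀ (a : Ah) (s : S₀), algebraMap E V (a ⊗ₜ s) = algebraMap Ah R' a ⊗ₜ s := fun a s => rfl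
  haveI : IsScalarTower Ah E V := IsScalarTower.of_algebraMap_eq fun a => by
    show algebraMap Ah R' a ⊗ₜ[R₀] (1 : S₀) = algebraMap E V (a ⊗ₜ[R₀] (1 : S₀))
    rw [hEV]
  haveI : Algebra.IsPushout Ah R' E V := by
    constructor
    refine IsBaseChange.of_equiv
      (TensorProduct.AlgebraTensorModule.cancelBaseChange R₀ Ah R' R' S₀) (fun x => ?_)
    induction x using TensorProduct.induction_on with
    | zero => simp
    | tmul a s =>
      rw [TensorProduct.AlgebraTensorModule.cancelBaseChange_tmul]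
      show _ = algebraMap E V (a ⊗ₜ s)
      rw [hEV, Algebra.smul_def, mul_one]
    | add x y hx hy =>
      rw [TensorProduct.tmul_add, map_add, hx, hy, map_add]
  -- fibres of `V`
  have hdom : ∀ (P : Ideal R') [P.IsPrime], IsDomain (P.Fiber V) := by
    intro P _
    exact isDomain_of_model R₀ S₀ R S R' hdomK P.ResidueField
  have hV : CAlg.IsMittagLeffler R' V :=
    Groth.Agent.H32.MLPushout.isMittagLeffler_of_pushout Ah R' E V hdom
  -- transfer to `R' ⊗[R] S`
  let l1 : R' ⊗[R] (R ⊗[R₀] S₀) ≃ₗ[R'] R' ⊗[R₀] S₀ :=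
    TensorProduct.AlgebraTensorModule.cancelBaseChange R₀ R R' R' S₀
  let l2 : R' ⊗[R] (R ⊗[R₀] S₀) ≃ₗ[R'] R' ⊗[R] S :=
    TensorProduct.AlgebraTensorModule.congr (LinearEquiv.refl R' R')
      (Algebra.IsPushout.equiv R₀ R S₀ S).toLinearEquiv
  have hV' : CAlg.IsMittagLeffler R' (R' ⊗[R] S) :=
    Groth.Agent.H32.isMittagLeffler_of_equiv R' (l1.symm ≪≫ₗ l2) hV
  exact Groth.Agent.S0586.result R R' S hV'

end Groth.Agent.H32.MLGeomIntA
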