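import Groth.Agent.H32.MLGeomIntA

/-!
# Mittag-Leffler property of flat finitely presented algebras with integral fibres: localizing

Same as `MLGeomIntA`, where the faithfully flat local `R`-algebra is obtained by localizing a flat
`R`-algebra `T` at a prime lying over the closed points of `R` and of the complete local ring.
-/

set_option autoImplicit false
set_option linter.style.haveILetI false
universe u

open TensorProduct IsLocalRing

namespace Groth.Agent.H32.MLGeomIntB

theorem isLocalHom_algebraMap_atPrime (R T : Type u) [CommRing R] [IsLocalRing R] [CommRing T]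
    [Algebra R T] (Q : Ideal T) [Q.IsPrime] (hQ : Q.comap (algebraMap R T) = maximalIdeal R) :
    IsLocalHom (algebraMap R (Localization.AtPrime Q)) := by
  constructor
  intro r hr
  rw [IsScalarTower.algebraMap_apply R T (Localization.AtPrime Q),
    IsLocalization.AtPrime.isUnit_to_map_iff (Localization.AtPrime Q) Q] at hr
  by_contra hnu
  have : r ∈ Q.comap (algebraMap R T) := by
    rw [hQ]
    exact (mem_maximalIdeal r).mpr hnu
  exact hr this

theorem isMittagLeffler_of_model_prime
    (R₀ : Type u) [CommRing R₀]
    (S₀ : Type u) [CommRing S₀] [Algebra R₀ S₀] [Algebra.FinitePresentation R₀ S₀]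
    [Module.Flat R₀ S₀]
    (R : Type u) [CommRing R] [IsLocalRing R] [Algebra R₀ R]
    (S : Type u) [CommRing S] [Algebra R S] [Algebra S₀ S] [Algebra R₀ S] [IsScalarTower R₀ R S]
    [IsScalarTower R₀ S₀ S] [Algebra.IsPushout R₀ R S₀ S]
    (hdomK : ∀ (K : Type u) [Field K] [Algebra R K], IsDomain (K ⊗[R] S))
    (Ah : Type u) [CommRing Ah] [IsNoetherianRing Ah] [IsLocalRing Ah]
    [IsAdicComplete (maximalIdeal Ah) Ah] [Algebra R₀ Ah]
    (T : Type u) [CommRing T] [Algebra R T] [Algebra Ah T] [Algebra R₀ T] [IsScalarTower R₀ R T]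
    [IsScalarTower R₀ Ah T] [Module.Flat R T]
    (Q : Ideal T) [Q.IsPrime] (hQR : Q.comap (algebraMap R T) = maximalIdeal R)
    (hQA : Q.comap (algebraMap Ah T) = maximalIdeal Ah) :
    CAlg.IsMittagLeffler R S := by
  let R' := Localization.AtPrime Q
  haveI : IsScalarTower R₀ R R' := IsScalarTower.of_algebraMap_eq fun x => by
    rw [IsScalarTower.algebraMap_apply R₀ T R', IsScalarTower.algebraMap_apply R₀ R T,
      ← IsScalarTower.algebraMap_apply R T R']
  haveI : IsScalarTower R₀ Ah R' := IsScalarTower.of_algebraMap_eq fun x => by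
    rw [IsScalarTower.algebraMap_apply R₀ T R', IsScalarTower.algebraMap_apply R₀ Ah T,
      ← IsScalarTower.algebraMap_apply Ah T R']
  haveI : IsLocalHom (algebraMap R R') := isLocalHom_algebraMap_atPrime R T Q hQR
  haveI : IsLocalHom (algebraMap Ah R') := isLocalHom_algebraMap_atPrime Ah T Q hQA
  haveI : Module.Flat T R' := IsLocalization.flat R' Q.primeCompl
  haveI : Module.Flat R R' := Module.Flat.trans R T R'
  haveI : Module.FaithfullyFlat R R' := Module.FaithfullyFlat.of_flat_of_isLocalHom
  exact Groth.Agent.H32.MLGeomIntA.isMittagLeffler_of_model R₀ S₀ R S hdomK Ah R'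

end Groth.Agent.H32.MLGeomIntB
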