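import Groth.Agent.H32.MLfp

set_option autoImplicit false
universe u
open TensorProduct

namespace Groth.Agent.H32

variable (R : Type u) [CommRing R]

/-- for finitely presented `P`, `P ⊗ R^A → P^A` is bijective -/
theorem piScalarRightHom_bijective_of_finitePresentation (P : Type u) [AddCommGroup P] [Module R P]
    [Module.FinitePresentation R P] (A : Type u) :
    Function.Bijective (TensorProduct.piScalarRightHom R R P A) := by
  have h := piRightHom_bijective_of_finitePresentation R P (fun _ : A => R)
  have key : ∀ x : P ⊗[R] (A → R), TensorProduct.piScalarRightHom R R P A x =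
      fun a => TensorProduct.rid R P (TensorProduct.piRightHom R R P (fun _ : A => R) x a) := by
    intro x
    induction x using TensorProduct.induction_on with
    | zero => funext a; simp
    | tmul p f => funext a; simp [TensorProduct.piScalarRightHom_tmul]
    | add x y hx hy =>
      funext a
      have hx' := congrFun hx a
      have hy' := congrFun hy a
      simp only [map_add, Pi.add_apply] at hx' hy' ⊢
      rw [hx', hy']
  constructor
  · intro x y hxy
    apply h.1
    funext a
    apply (TensorProduct.rid R P).injective
    have := congrFun ((key x).symm.trans (hxy.trans (key y))) a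
    exact this
  · intro y
    obtain ⟨x, hx⟩ := h.2 (fun a => (TensorProduct.rid R P).symm (y a))
    refine ⟨x, ?_⟩
    rw [key, hx]
    funext a
    simp

theorem piScalarRightHom_natural {P Q : Type u} [AddCommGroup P] [Module R P] [AddCommGroup Q]
    [Module R Q] (g : P →ₗ[R] Q) (A : Type u) (x : P ⊗[R] (A → R)) :
    TensorProduct.piScalarRightHom R R Q A (g.rTensor (A → R) x) =
      fun a => g (TensorProduct.piScalarRightHom R R P A x a) := by
  induction x using TensorProduct.induction_on with
  | zero => funext a; simp
  | tmul p f => funext a; simp [TensorProduct.piScalarRightHom_tmul]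
  | add x y hx hy =>
    funext a
    have hx' := congrFun hx a
    have hy' := congrFun hy a
    simp only [map_add, Pi.add_apply] at hx' hy' ⊢
    rw [hx', hy']

/-- over a Noetherian ring `Q ⊗ R^A → Q^A` is injective for every module `Q` -/
theorem piScalarRightHom_injective_of_isNoetherianRing [IsNoetherianRing R] (Q : Type u)
    [AddCommGroup Q] [Module R Q] (A : Type u) :
    Function.Injective (TensorProduct.piScalarRightHom R R Q A) := by
  rw [injective_iff_map_eq_zero]
  intro x hx
  obtain ⟨P, hP, x₀, rfl⟩ := TensorProduct.exists_of_fg x
  have : Module.Finite R P := Module.Finite.iff_fg.2 hP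
  have : Module.FinitePresentation R P := Module.finitePresentation_of_finite R P
  rw [piScalarRightHom_natural] at hx
  have h0 : TensorProduct.piScalarRightHom R R P A x₀ = 0 := by
    funext a
    have := congrFun hx a
    simp only [Pi.zero_apply] at this
    apply P.injective_subtype
    rw [this]
    rfl
  have : x₀ = 0 := (piScalarRightHom_bijective_of_finitePresentation R P A).1 (by rw [h0, map_zero])
  rw [this, map_zero]

theorem flat_pi_of_isNoetherianRing [IsNoetherianRing R] (A : Type u) : Module.Flat R (A → R) := by
  rw [Module.Flat.iff_rTensor_injective']
  intro I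
  have hI := piScalarRightHom_injective_of_isNoetherianRing R I A
  have hsq : ∀ x : I ⊗[R] (A → R),
      TensorProduct.lid R (A → R) (I.subtype.rTensor (A → R) x) =
        fun a => ((TensorProduct.piScalarRightHom R R I A x a : I) : R) := by
    intro x
    induction x using TensorProduct.induction_on with
    | zero => funext a; simp
    | tmul p f => funext a; simp [TensorProduct.piScalarRightHom_tmul, mul_comm]
    | add x y hx hy =>
      funext a
      have hx' := congrFun hx a
      have hy' := congrFun hy a
      simp only [map_add, Pi.add_apply] at hx' hy' ⊢
      rw [hx', hy']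
      simp
  intro x y hxy
  apply hI
  funext a
  apply Subtype.ext
  have := congrArg (TensorProduct.lid R (A → R)) hxy
  rw [hsq, hsq] at this
  exact congrFun this a

theorem isMittagLeffler_pi_of_isNoetherianRing [IsNoetherianRing R] (A : Type u) :
    CAlg.IsMittagLeffler R (A → R) := by
  intro ι Q _ _
  have hsq : ∀ x : (A → R) ⊗[R] (∀ i, Q i), ∀ (a : A) (i : ι),
      TensorProduct.piScalarRightHom R R (∀ i, Q i) A (TensorProduct.comm R _ _ x) a i =
        TensorProduct.piScalarRightHom R R (Q i) A
          (TensorProduct.comm R _ _ (TensorProduct.piRightHom R R (A → R) Q x i)) a := by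
    intro x a i
    induction x using TensorProduct.induction_on with
    | zero => simp
    | tmul f q => simp [TensorProduct.piScalarRightHom_tmul]
    | add x y hx hy =>
      simp only [map_add, Pi.add_apply, hx, hy]
  rw [injective_iff_map_eq_zero]
  intro x hx
  apply (TensorProduct.comm R (A → R) (∀ i, Q i)).injective
  rw [map_zero]
  apply piScalarRightHom_injective_of_isNoetherianRing R (∀ i, Q i) A
  rw [map_zero]
  funext a i
  rw [hsq, hx]
  simp

end Groth.Agent.H32
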