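import Groth.Agent.S1199
import Groth.Agent.S1198
import Groth.Agent.S6338

/-!
# A Noetherian local ring flat over a complete Noetherian local ring is Mittag-Leffler
-/

set_option autoImplicit false
set_option linter.style.haveILetI false
universe u

open TensorProduct IsLocalRing

namespace Groth.Agent.H32.MLNoethLocal

/-- `FlatCA.UnivInj` (via `lTensor`) implies `CAlgX.UniversallyInjective` (via `rTensor`). -/
theorem universallyInjective_of_univInj {R : Type u} [CommRing R] {M N : Type u} [AddCommGroup M]
    [AddCommGroup N] [Module R M] [Module R N] (f : M →ₗ[R] N) (h : FlatCA.UnivInj R f) :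
    CAlgX.UniversallyInjective R f := by
  intro Q _ _
  have h3 := h Q
  have hcomm : f.rTensor Q =
      (TensorProduct.comm R Q N).toLinearMap ∘ₗ f.lTensor Q ∘ₗ
        (TensorProduct.comm R M Q).toLinearMap := by
    ext x q
    simp
  rw [hcomm]
  exact (TensorProduct.comm R Q N).injective.comp (h3.comp (TensorProduct.comm R M Q).injective)

/-- Let `A` be a complete Noetherian local ring and `A → D` a flat local homomorphism to a
Noetherian local ring. Then `D` is a Mittag-Leffler `A`-module. -/
theorem isMittagLeffler_of_complete_local (A : Type u) [CommRing A] [IsNoetherianRing A]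
    [IsLocalRing A] [IsAdicComplete (maximalIdeal A) A]
    (D : Type u) [CommRing D] [IsNoetherianRing D] [IsLocalRing D] [Algebra A D]
    [IsLocalHom (algebraMap A D)] [Module.Flat A D] :
    CAlg.IsMittagLeffler A D := by
  have hle : (maximalIdeal A).map (algebraMap A D) ≤ maximalIdeal D :=
    ((IsLocalRing.local_hom_TFAE (algebraMap A D)).out 0 2).mp ‹_›
  have h1 : FlatCA.UnivInj A (AdicCompletion.of (maximalIdeal A) D) := by
    apply Groth.Agent.S1199.result (R := A) (S := D) (maximalIdeal A) D
    intro Q _ _ _ q hq
    have hq' : q.IsPrime := hq.1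
    have hqle : q ≤ maximalIdeal D := IsLocalRing.le_maximalIdeal hq'.ne_top
    intro htop
    have : (⊤ : Ideal D) ≤ maximalIdeal D := htop ▸ sup_le hle hqle
    exact (IsLocalRing.maximalIdeal.isMaximal D).ne_top (top_le_iff.mp this)
  letI : Field (A ⧸ maximalIdeal A) := Ideal.Quotient.field (maximalIdeal A)
  obtain ⟨-, hML⟩ := Groth.Agent.S1198.result A (maximalIdeal A) D
  exact Groth.Agent.S6338.result A _ (universallyInjective_of_univInj _ h1) hML

end Groth.Agent.H32.MLNoethLocal
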