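import Groth.Agent.S1195
import Groth.Agent.H6.GeomIntFibres

/-!
# Universal injectivity of the localization at a prime containing the closed fibre

For a finitely presented flat algebra `S` over a local ring `R` all of whose fibre rings are
domains, and a prime `n` of `S` containing `𝔪_R S`, the map `S → S_n` is universally injective
over `R`.
-/

set_option autoImplicit false
set_option linter.style.haveILetI false
universe u

open TensorProduct IsLocalRing

namespace Groth.Agent.H32.UnivInjGenericLoc

variable {R S : Type u} [CommRing R] [IsLocalRing R] [CommRing S] [Algebra R S]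

theorem univInj_algebraMap_atPrime [Algebra.FinitePresentation R S] [Module.Flat R S]
    (hdom : ∀ (P : Ideal R) [P.IsPrime], IsDomain (P.Fiber S))
    (n : Ideal S) [n.IsPrime] (hn : (maximalIdeal R).map (algebraMap R S) ≤ n) :
    FlatCA.UnivInj R (IsScalarTower.toAlgHom R S (Localization.AtPrime n)).toLinearMap := by
  have key : FlatCA.UnivInj R
      ((TensorProduct.mk S (Localization.AtPrime n) S 1).restrictScalars R) := by
    apply Groth.Agent.S1195.result (R := R) (S := S) (S' := Localization.AtPrime n) S
    intro p q _ _ _ hass
    have hd : IsDomain (p.Fiber S) := hdom p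
    have hbot : FlatCA.fiberIdeal p q = ⊥ := by
      have hbc : IsBaseChange S (LinearMap.id : S →ₗ[S] S) :=
        IsBaseChange.of_equiv (TensorProduct.rid S S) (fun x => by simp)
      rw [LinearEquiv.AssociatedPrimes.eq
        (Groth.Agent.H6.GeomIntFibres.fiberModEquiv (B := S) R S S LinearMap.id hbc p)] at hass
      exact Groth.Agent.H6.GeomIntFibres.eq_bot_of_mem_associatedPrimes_self hass
    have hqle : q ≤ n := by
      intro b hb
      apply hn
      have h1 : b ∈ p.map (algebraMap R S) := by
        apply Groth.Agent.H6.GeomIntFibres.mem_map_of_one_tmul_eq_zero p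
        have : (1 : p.ResidueField) ⊗ₜ[R] b ∈ FlatCA.fiberIdeal p q := Ideal.mem_map_of_mem _ hb
        rwa [hbot, Ideal.mem_bot] at this
      exact Ideal.map_mono (IsLocalRing.le_maximalIdeal (Ideal.IsPrime.ne_top ‹_›)) h1
    have hdisj : Disjoint (n.primeCompl : Set S) (q : Set S) := by
      rw [Set.disjoint_left]
      intro x hx hxq
      exact hx (hqle hxq)
    refine ⟨q.map (algebraMap S (Localization.AtPrime n)),
      IsLocalization.isPrime_of_isPrime_disjoint n.primeCompl _ q ‹_› hdisj,
      IsLocalization.comap_map_of_isPrime_disjoint n.primeCompl _ ‹_› hdisj⟩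
  -- transport along `S' ⊗[S] S ≃ S'`
  intro Q _ _
  have h1 := key Q
  let e : (Localization.AtPrime n) ⊗[S] S ≃ₗ[R] Localization.AtPrime n :=
    (TensorProduct.AlgebraTensorModule.rid S (Localization.AtPrime n)
      (Localization.AtPrime n)).restrictScalars R
  have hcomp : (IsScalarTower.toAlgHom R S (Localization.AtPrime n)).toLinearMap =
      e.toLinearMap ∘ₗ ((TensorProduct.mk S (Localization.AtPrime n) S 1).restrictScalars R) := by
    ext x
    simp [e, Algebra.smul_def]
  rw [hcomp, LinearMap.lTensor_comp]
  exact (LinearEquiv.lTensor Q e).injective.comp h1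

end Groth.Agent.H32.UnivInjGenericLoc
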