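import Groth.Agent.H32.MLNoethLocal
import Groth.Agent.H32.UnivInjGenericLoc
import Groth.Agent.S6348

/-!
# Mittag-Leffler property from a Noetherian complete model (abstract assembly)

`V` is a finitely presented flat algebra over the local ring `R'` whose fibre rings are domains,
and `V = R' ⊗_{Â} E` with `Â` a complete Noetherian local ring and `E` a flat Noetherian
`Â`-algebra. Then `V` is a Mittag-Leffler `R'`-module.
-/

set_option autoImplicit false
set_option linter.style.haveILetI false
universe u

open TensorProduct IsLocalRing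

namespace Groth.Agent.H32.MLPushout

theorem isMittagLeffler_of_pushout
    (Ah : Type u) [CommRing Ah] [IsNoetherianRing Ah] [IsLocalRing Ah]
    [IsAdicComplete (maximalIdeal Ah) Ah]
    (R' : Type u) [CommRing R'] [IsLocalRing R'] [Algebra Ah R'] [IsLocalHom (algebraMap Ah R')]
    (E : Type u) [CommRing E] [IsNoetherianRing E] [Algebra Ah E] [Module.Flat Ah E]
    (V : Type u) [CommRing V] [Algebra R' V] [Algebra.FinitePresentation R' V] [Module.Flat R' V]
    [Algebra E V] [Algebra Ah V] [IsScalarTower Ah R' V] [IsScalarTower Ah E V]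
    [Algebra.IsPushout Ah R' E V]
    (hdom : ∀ (P : Ideal R') [P.IsPrime], IsDomain (P.Fiber V)) :
    CAlg.IsMittagLeffler R' V := by
  classical
  -- a prime of `V` containing the closed fibre ideal
  have hne : (maximalIdeal R').map (algebraMap R' V) ≠ ⊤ := by
    intro htop
    have hd := hdom (maximalIdeal R')
    have h1 : (1 : V) ∈ (maximalIdeal R').map (algebraMap R' V) := by rw [htop]; trivial
    have h2 := Groth.Agent.H6.GeomIntFibres.one_tmul_eq_zero_of_mem_map (maximalIdeal R') h1
    have h3 : (1 : (maximalIdeal R').Fiber V) = 0 := h2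
    exact one_ne_zero h3
  obtain ⟨n', hn'max, hn'le⟩ := Ideal.exists_le_maximal _ hne
  haveI : n'.IsPrime := hn'max.isPrime
  have hU := Groth.Agent.H32.UnivInjGenericLoc.univInj_algebraMap_atPrime (R := R') (S := V)
    hdom n' hn'le
  -- the Noetherian local ring `D`
  let nh : Ideal E := n'.comap (algebraMap E V)
  haveI : nh.IsPrime := Ideal.comap_isPrime _ _
  let D := Localization.AtPrime nh
  haveI : IsNoetherianRing D := IsLocalization.isNoetherianRing nh.primeCompl D inferInstance
  haveI : Module.Flat E D := IsLocalization.flat D nh.primeCompl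
  haveI : Module.Flat Ah D := Module.Flat.trans Ah E D
  have hmem : ∀ a ∈ maximalIdeal Ah, algebraMap Ah E a ∈ nh := by
    intro a ha
    show algebraMap E V (algebraMap Ah E a) ∈ n'
    rw [← IsScalarTower.algebraMap_apply Ah E V, IsScalarTower.algebraMap_apply Ah R' V]
    apply hn'le
    apply Ideal.mem_map_of_mem
    exact (IsLocalRing.mem_maximalIdeal _).mpr fun hu =>
      (IsLocalRing.mem_maximalIdeal _).mp ha (isUnit_of_map_unit (algebraMap Ah R') a hu)
  haveI : IsLocalHom (algebraMap Ah D) := by
    refine ((IsLocalRing.local_hom_TFAE (algebraMap Ah D)).out 0 2).mpr ?_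
    rw [Ideal.map_le_iff_le_comap]
    intro a ha
    rw [Ideal.mem_comap, IsScalarTower.algebraMap_apply Ah E D,
      IsLocalization.AtPrime.to_map_mem_maximal_iff D nh]
    exact hmem a ha
  have hD : CAlg.IsMittagLeffler Ah D :=
    Groth.Agent.H32.MLNoethLocal.isMittagLeffler_of_complete_local Ah D
  have hW : CAlg.IsMittagLeffler R' (R' ⊗[Ah] D) := Groth.Agent.S6348.result Ah R' D hD
  -- the localization `L` of `V` and the maps
  let L := Localization.AtPrime n'
  haveI : IsScalarTower Ah R' L := IsScalarTower.of_algebraMap_eq fun a => by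
    rw [IsScalarTower.algebraMap_apply Ah V L, IsScalarTower.algebraMap_apply Ah R' V,
      ← IsScalarTower.algebraMap_apply R' V L]
  let gD : D →ₐ[Ah] L :=
    { Localization.localRingHom nh n' (algebraMap E V) rfl with
      commutes' := fun a => by
        show Localization.localRingHom nh n' (algebraMap E V) rfl (algebraMap Ah D a) = _
        rw [IsScalarTower.algebraMap_apply Ah E D, Localization.localRingHom_to_map,
          ← IsScalarTower.algebraMap_apply Ah E V, ← IsScalarTower.algebraMap_apply Ah V L] }
  have hgD : ∀ e : E, gD (algebraMap E D e) = algebraMap V L (algebraMap E V e) := fun e =>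
    Localization.localRingHom_to_map nh n' (algebraMap E V) rfl e
  let ψ : R' ⊗[Ah] D →ₐ[R'] L :=
    Algebra.TensorProduct.lift (Algebra.ofId R' L) gD (fun _ _ => Commute.all _ _)
  let f : R' →ₐ[Ah] R' ⊗[Ah] D := Algebra.TensorProduct.includeLeft
  let g : E →ₐ[Ah] R' ⊗[Ah] D :=
    (Algebra.TensorProduct.includeRight).comp (IsScalarTower.toAlgHom Ah E D)
  let θ₀ : V →ₐ[Ah] R' ⊗[Ah] D := Algebra.pushoutDesc V f g (fun _ _ => Commute.all _ _)
  have hθ₀l : ∀ r : R', θ₀ (algebraMap R' V r) = r ⊗ₜ 1 := fun r =>
    Algebra.pushoutDesc_left V f g _ r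
  have hθ₀r : ∀ e : E, θ₀ (algebraMap E V e) = 1 ⊗ₜ algebraMap E D e := fun e =>
    Algebra.pushoutDesc_right V f g _ e
  let θ : V →ₗ[R'] R' ⊗[Ah] D :=
    { toFun := θ₀
      map_add' := map_add θ₀
      map_smul' := fun r v => by
        simp only [RingHom.id_apply]
        rw [Algebra.smul_def, map_mul, hθ₀l]
        induction θ₀ v using TensorProduct.induction_on with
        | zero => rw [mul_zero, smul_zero]
        | tmul x y =>
          rw [Algebra.TensorProduct.tmul_mul_tmul, one_mul, TensorProduct.smul_tmul', smul_eq_mul]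
        | add x y hx hy => rw [mul_add, smul_add, hx, hy] }
  have hcomp : ∀ v : V, ψ (θ v) = algebraMap V L v := by
    have : (ψ.restrictScalars Ah).comp θ₀ = IsScalarTower.toAlgHom Ah V L := by
      apply Algebra.IsPushout.algHom_ext (R := Ah) (S := R') (R' := E) (S' := V)
      · ext e
        simp only [AlgHom.coe_comp, Function.comp_apply, IsScalarTower.coe_toAlgHom',
          AlgHom.coe_restrictScalars']
        rw [hθ₀r]
        simp only [ψ, Algebra.TensorProduct.lift_tmul, map_one, one_mul]
        exact hgD e
      · ext r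
        simp only [AlgHom.coe_comp, Function.comp_apply, IsScalarTower.coe_toAlgHom',
          AlgHom.coe_restrictScalars']
        rw [hθ₀l]
        simp only [ψ, Algebra.TensorProduct.lift_tmul, map_one, mul_one, Algebra.ofId_apply]
        rw [← IsScalarTower.algebraMap_apply R' V L]
    intro v
    exact AlgHom.congr_fun this v
  have hθ : FlatCA.UnivInj R' θ := by
    intro Q _ _
    have h1 := hU Q
    have h2 : (IsScalarTower.toAlgHom R' V L).toLinearMap = ψ.toLinearMap ∘ₗ θ := by
      ext v
      exact (hcomp v).symm
    rw [h2, LinearMap.lTensor_comp] at h1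
    exact Function.Injective.of_comp h1
  exact Groth.Agent.S6338.result R' θ
    (Groth.Agent.H32.MLNoethLocal.universallyInjective_of_univInj θ hθ) hW

end Groth.Agent.H32.MLPushout
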