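import Groth.Agent.H32.MLDom

set_option autoImplicit false
universe u
open TensorProduct

namespace Groth.Agent.H32

section
variable {R : Type u} [CommRing R]

/-- the tensor product of two finitely presented modules is finitely presented -/
theorem finitePresentation_tensorProduct (Q₁ Q₂ : Type u) [AddCommGroup Q₁] [Module R Q₁]
    [AddCommGroup Q₂] [Module R Q₂] [Module.FinitePresentation R Q₁]
    [Module.FinitePresentation R Q₂] : Module.FinitePresentation R (Q₁ ⊗[R] Q₂) := by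
  obtain ⟨a, p₁, hp₁⟩ := Module.Finite.exists_fin' R Q₁
  obtain ⟨b, p₂, hp₂⟩ := Module.Finite.exists_fin' R Q₂
  have hk₁ : (LinearMap.ker p₁).FG := Module.FinitePresentation.fg_ker p₁ hp₁
  have hk₂ : (LinearMap.ker p₂).FG := Module.FinitePresentation.fg_ker p₂ hp₂
  have : Module.Finite R (LinearMap.ker p₁) := Module.Finite.iff_fg.2 hk₁
  have : Module.Finite R (LinearMap.ker p₂) := Module.Finite.iff_fg.2 hk₂
  have : Module.FinitePresentation R ((Fin a → R) ⊗[R] (Fin b → R)) :=
    Module.finitePresentation_of_projective R _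
  refine Module.finitePresentation_of_surjective (TensorProduct.map p₁ p₂)
    (TensorProduct.map_surjective hp₁ hp₂) ?_
  rw [TensorProduct.map_ker (LinearMap.exact_subtype_ker_map p₁) hp₁
    (LinearMap.exact_subtype_ker_map p₂) hp₂]
  exact (Submodule.fg_range _).sup (Submodule.fg_range _)

/-- mutual domination of two maps out of the same module -/
def MutDom {P M Q : Type u} [AddCommGroup P] [Module R P] [AddCommGroup M] [Module R M]
    [AddCommGroup Q] [Module R Q] (f : P →ₗ[R] M) (g : P →ₗ[R] Q) : Prop :=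
  ∀ (N : Type u) [AddCommGroup N] [Module R N],
    LinearMap.ker (f.rTensor N) = LinearMap.ker (g.rTensor N)

theorem MutDom.trans {P M Q S : Type u} [AddCommGroup P] [Module R P] [AddCommGroup M] [Module R M]
    [AddCommGroup Q] [Module R Q] [AddCommGroup S] [Module R S] {f : P →ₗ[R] M} {g : P →ₗ[R] Q}
    {h : P →ₗ[R] S} (h1 : MutDom f g) (h2 : MutDom g h) : MutDom f h :=
  fun N _ _ => (h1 N).trans (h2 N)

theorem MutDom.comp_right {P P' M Q : Type u} [AddCommGroup P] [Module R P] [AddCommGroup P']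
    [Module R P'] [AddCommGroup M] [Module R M]
    [AddCommGroup Q] [Module R Q] {f : P →ₗ[R] M} {g : P →ₗ[R] Q} (h : MutDom f g)
    (ψ : P' →ₗ[R] P) : MutDom (f ∘ₗ ψ) (g ∘ₗ ψ) := by
  intro N _ _
  ext z
  simp only [LinearMap.mem_ker, LinearMap.rTensor_comp, LinearMap.comp_apply]
  have := h N
  rw [← LinearMap.mem_ker, ← LinearMap.mem_ker, this]

theorem MutDom.rTensor {P M Q : Type u} [AddCommGroup P] [Module R P] [AddCommGroup M] [Module R M]
    [AddCommGroup Q] [Module R Q] {f : P →ₗ[R] M} {g : P →ₗ[R] Q} (h : MutDom f g)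
    (B : Type u) [AddCommGroup B] [Module R B] : MutDom (f.rTensor B) (g.rTensor B) := by
  intro N _ _
  have key : ∀ {S : Type u} [AddCommGroup S] [Module R S] (k : P →ₗ[R] S) (z : (P ⊗[R] B) ⊗[R] N),
      (k.rTensor B).rTensor N z = 0 ↔
        k.rTensor (B ⊗[R] N) (TensorProduct.assoc R P B N z) = 0 := by
    intro S _ _ k z
    rw [LinearMap.rTensor_tensor]
    simp
  ext z
  rw [LinearMap.mem_ker, LinearMap.mem_ker, key, key, ← LinearMap.mem_ker, ← LinearMap.mem_ker,
    h (B ⊗[R] N)]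

theorem MutDom.lTensor {P M Q : Type u} [AddCommGroup P] [Module R P] [AddCommGroup M] [Module R M]
    [AddCommGroup Q] [Module R Q] {f : P →ₗ[R] M} {g : P →ₗ[R] Q} (h : MutDom f g)
    (B : Type u) [AddCommGroup B] [Module R B] : MutDom (f.lTensor B) (g.lTensor B) := by
  intro N _ _
  have key : ∀ {S : Type u} [AddCommGroup S] [Module R S] (k : P →ₗ[R] S) (z : (B ⊗[R] P) ⊗[R] N),
      (k.lTensor B).rTensor N z = 0 ↔
        (k.rTensor B).rTensor N ((TensorProduct.comm R B P).toLinearMap.rTensor N z) = 0 := by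
    intro S _ _ k z
    rw [← LinearMap.comp_apply, ← LinearMap.rTensor_comp,
      ← LinearMap.comm_comp_rTensor_comp_comm_eq, LinearMap.rTensor_comp, LinearMap.comp_apply]
    constructor
    · intro hz
      exact (LinearEquiv.rTensor N (TensorProduct.comm R S B)).injective (hz.trans (map_zero _).symm)
    · intro hz
      rw [hz, map_zero]
  ext z
  rw [LinearMap.mem_ker, LinearMap.mem_ker, key, key, ← LinearMap.mem_ker, ← LinearMap.mem_ker,
    h.rTensor B N]


/-- The tensor product of two Mittag-Leffler modules is Mittag-Leffler. -/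
theorem isMittagLeffler_tensorProduct {M N : Type u} [AddCommGroup M] [Module R M]
    [AddCommGroup N] [Module R N] (hM : CAlg.IsMittagLeffler R M) (hN : CAlg.IsMittagLeffler R N) :
    CAlg.IsMittagLeffler R (M ⊗[R] N) := by
  classical
  apply isMittagLeffler_of_forall_finiteFree_dominate
  intro n φ
  obtain ⟨M', N', hM', hN', hsub⟩ := TensorProduct.exists_finite_submodule_of_setFinite
    (Set.range (fun i : Fin n => φ (Pi.single i 1))) (Set.finite_range _)
  obtain ⟨a, pa, hpa⟩ := Module.Finite.exists_fin' R M'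
  obtain ⟨b, pb, hpb⟩ := Module.Finite.exists_fin' R N'
  let α : (Fin a → R) →ₗ[R] M := M'.subtype ∘ₗ pa
  let β : (Fin b → R) →ₗ[R] N := N'.subtype ∘ₗ pb
  have hsurj : ∀ i : Fin n, ∃ w : (Fin a → R) ⊗[R] (Fin b → R),
      TensorProduct.map α β w = φ (Pi.single i 1) := by
    intro i
    obtain ⟨t, ht⟩ := hsub ⟨i, rfl⟩
    obtain ⟨w, hw⟩ := TensorProduct.map_surjective hpa hpb t
    refine ⟨w, ?_⟩
    have : TensorProduct.map α β = TensorProduct.mapIncl M' N' ∘ₗ TensorProduct.map pa pb :=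
      TensorProduct.map_comp _ _ _ _
    rw [this, LinearMap.comp_apply, hw, ht]
  choose w hw using hsurj
  let ψ : (Fin n → R) →ₗ[R] (Fin a → R) ⊗[R] (Fin b → R) := Fintype.linearCombination R w
  have hφ : φ = TensorProduct.map α β ∘ₗ ψ := by
    apply LinearMap.pi_ext'
    intro i
    ext
    simp [ψ, Fintype.linearCombination_apply, Pi.single_apply, hw]
  obtain ⟨Q₁, _, _, _, α', -, hα⟩ := exists_fp_mutually_dominating hM α
  obtain ⟨Q₂, _, _, _, β', -, hβ⟩ := exists_fp_mutually_dominating hN β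
  have hfp := finitePresentation_tensorProduct (R := R) Q₁ Q₂
  refine ⟨Q₁ ⊗[R] Q₂, inferInstance, inferInstance, hfp, TensorProduct.map α' β' ∘ₗ ψ, ?_⟩
  have hα' : MutDom α α' := hα
  have hβ' : MutDom β β' := hβ
  have h1 : MutDom (α.rTensor N ∘ₗ (β.lTensor (Fin a → R) ∘ₗ ψ))
      (α'.rTensor N ∘ₗ (β.lTensor (Fin a → R) ∘ₗ ψ)) := (hα'.rTensor N).comp_right _
  have h2 : MutDom (β.lTensor Q₁ ∘ₗ (α'.rTensor (Fin b → R) ∘ₗ ψ))
      (β'.lTensor Q₁ ∘ₗ (α'.rTensor (Fin b → R) ∘ₗ ψ)) := (hβ'.lTensor Q₁).comp_right _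
  have e1 : α.rTensor N ∘ₗ (β.lTensor (Fin a → R) ∘ₗ ψ) = φ := by
    rw [← LinearMap.comp_assoc, LinearMap.rTensor_comp_lTensor, hφ]
  have e2 : α'.rTensor N ∘ₗ (β.lTensor (Fin a → R) ∘ₗ ψ) =
      β.lTensor Q₁ ∘ₗ (α'.rTensor (Fin b → R) ∘ₗ ψ) := by
    rw [← LinearMap.comp_assoc, ← LinearMap.comp_assoc, LinearMap.rTensor_comp_lTensor,
      LinearMap.lTensor_comp_rTensor]
  have e3 : β'.lTensor Q₁ ∘ₗ (α'.rTensor (Fin b → R) ∘ₗ ψ) = TensorProduct.map α' β' ∘ₗ ψ := by
    rw [← LinearMap.comp_assoc, LinearMap.lTensor_comp_rTensor]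
  rw [e1, e2] at h1
  rw [e3] at h2
  have h3 := h1.trans h2
  intro T _ _
  exact ⟨(h3 T).le, (h3 T).ge⟩

end

end Groth.Agent.H32
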