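import Groth.Agent.H32.MLfp

set_option autoImplicit false
universe u
open TensorProduct

namespace Groth.Agent.H32

section
variable (R S : Type u) [CommRing R] [CommRing S] [Algebra R S]
  (M : Type u) [AddCommGroup M] [Module S M] [Module R M] [IsScalarTower R S M]

/-- the square relating the product maps over `R` and over `S` -/
theorem tower_square {ι : Type u} (Q : ι → Type u) [∀ i, AddCommGroup (Q i)] [∀ i, Module R (Q i)]
    (x : M ⊗[S] (S ⊗[R] (∀ i, Q i))) :
    TensorProduct.piRightHom R R M Q
        (TensorProduct.AlgebraTensorModule.cancelBaseChange R S S M (∀ i, Q i) x) =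
      fun i => TensorProduct.AlgebraTensorModule.cancelBaseChange R S S M (Q i)
        (TensorProduct.piRightHom S S M (fun i => S ⊗[R] Q i)
          ((TensorProduct.piRightHom R S S Q).lTensor M x) i) := by
  induction x using TensorProduct.induction_on with
  | zero => funext i; simp
  | add x y hx hy =>
    funext i
    have hx' := congrFun hx i
    have hy' := congrFun hy i
    simp only [map_add, Pi.add_apply] at hx' hy' ⊢
    rw [hx', hy']
  | tmul m t =>
    induction t using TensorProduct.induction_on with
    | zero => funext i; simp
    | add x y hx hy =>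
      funext i
      have hx' := congrFun hx i
      have hy' := congrFun hy i
      simp only [TensorProduct.tmul_add, map_add, Pi.add_apply] at hx' hy' ⊢
      rw [hx', hy']
    | tmul s q =>
      funext i
      simp

/-- Descent of the Mittag-Leffler property along a tower. -/
theorem isMittagLeffler_of_tower
    (hS : ∀ (ι : Type u) (Q : ι → Type u) [∀ i, AddCommGroup (Q i)] [∀ i, Module R (Q i)],
      Function.Injective ((TensorProduct.piRightHom R S S Q).lTensor M))
    (hM : CAlg.IsMittagLeffler S M) : CAlg.IsMittagLeffler R M := by
  intro ι Q _ _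
  rw [injective_iff_map_eq_zero]
  intro x' hx'
  obtain ⟨x, rfl⟩ := (TensorProduct.AlgebraTensorModule.cancelBaseChange R S S M (∀ i, Q i)).surjective x'
  rw [tower_square] at hx'
  have h1 : TensorProduct.piRightHom S S M (fun i => S ⊗[R] Q i)
      ((TensorProduct.piRightHom R S S Q).lTensor M x) = 0 := by
    funext i
    have := congrFun hx' i
    simp only [Pi.zero_apply] at this
    exact (TensorProduct.AlgebraTensorModule.cancelBaseChange R S S M (Q i)).injective
      (by rw [this, Pi.zero_apply, map_zero])
  have h2 : (TensorProduct.piRightHom R S S Q).lTensor M x = 0 :=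
    hM ι (fun i => S ⊗[R] Q i) (by rw [h1, map_zero])
  have h3 : x = 0 := hS ι Q (by rw [h2, map_zero])
  rw [h3, map_zero]

theorem piRightHom_coe_eq {ι : Type u} (Q : ι → Type u) [∀ i, AddCommGroup (Q i)]
    [∀ i, Module R (Q i)] (x : S ⊗[R] (∀ i, Q i)) :
    TensorProduct.piRightHom R S S Q x = TensorProduct.piRightHom R R S Q x := by
  induction x using TensorProduct.induction_on with
  | zero => simp
  | tmul s q => rfl
  | add x y hx hy => simp only [map_add, hx, hy]

/-- flat + ML over `S`, with `S` ML over `R` -/
theorem isMittagLeffler_of_flat_tower [Module.Flat S M] (hS : CAlg.IsMittagLeffler R S)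
    (hM : CAlg.IsMittagLeffler S M) : CAlg.IsMittagLeffler R M := by
  apply isMittagLeffler_of_tower R S M _ hM
  intro ι Q _ _
  apply Module.Flat.lTensor_preserves_injective_linearMap
  intro x y hxy
  apply hS ι Q
  rw [← piRightHom_coe_eq, ← piRightHom_coe_eq, hxy]

/-- `S` finitely presented as an `R`-module -/
theorem isMittagLeffler_of_finitePresentation_tower [Module.FinitePresentation R S]
    (hM : CAlg.IsMittagLeffler S M) : CAlg.IsMittagLeffler R M := by
  apply isMittagLeffler_of_tower R S M _ hM
  intro ι Q _ _
  have hbij : Function.Bijective (TensorProduct.piRightHom R S S Q) := by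
    have h := piRightHom_bijective_of_finitePresentation R S Q
    constructor
    · intro x y hxy
      apply h.1
      rw [← piRightHom_coe_eq, ← piRightHom_coe_eq, hxy]
    · intro y
      obtain ⟨x, hx⟩ := h.2 y
      exact ⟨x, by rw [piRightHom_coe_eq, hx]⟩
  let e : (S ⊗[R] (∀ i, Q i)) ≃ₗ[S] (∀ i, S ⊗[R] Q i) := LinearEquiv.ofBijective _ hbij
  have : (TensorProduct.piRightHom R S S Q).lTensor M = (e.lTensor M).toLinearMap := by
    ext; rfl
  rw [this]
  exact (e.lTensor M).injective

end

end Groth.Agent.H32
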