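import Mathlib
import Groth.Agent.H31.Support
import Groth.Agent.H49.FibreDimBC

/-!
# Support dimension is invariant under base field extension (pushout form)
-/

set_option autoImplicit false
universe u

open TensorProduct

namespace Groth.Agent.H32.OneStepBCA

/-- ring Krull dimension of `F' ⧸ I F'` when `F' = F ⊗[k] k'` (pushout form). -/
theorem ringKrullDim_quotient_map_of_isPushout (k k' F F' : Type u) [Field k] [Field k'] [Algebra k k']
    [CommRing F] [CommRing F'] [Algebra k F] [Algebra k' F'] [Algebra F F'] [Algebra k F']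
    [IsScalarTower k k' F'] [IsScalarTower k F F'] [Algebra.IsPushout k F k' F']
    [Algebra.FiniteType k F] (I : Ideal F) :
    ringKrullDim (F' ⧸ I.map (algebraMap F F')) = ringKrullDim (F ⧸ I) := by
  let e : F ⊗[k] k' ≃ₐ[F] F' := Algebra.IsPushout.equiv k F k' F'
  have hJ : I.map (algebraMap F F') =
      (I.map (algebraMap F (F ⊗[k] k'))).map (e.toRingEquiv : F ⊗[k] k' →+* F') := by
    rw [Ideal.map_map]
    congr 1
    ext x
    simp
  let e1 : (F ⊗[k] k') ⧸ I.map (algebraMap F (F ⊗[k] k')) ≃+* F' ⧸ I.map (algebraMap F F') :=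
    Ideal.quotientEquiv _ _ e.toRingEquiv hJ
  let e2 : (F ⧸ I) ⊗[k] k' ≃ₐ[k] (F ⊗[k] k') ⧸ I.map (algebraMap F (F ⊗[k] k')) :=
    Algebra.TensorProduct.quotientTensorEquiv k k' F I
  haveI : Algebra.FiniteType k (F ⧸ I) :=
    Algebra.FiniteType.of_surjective (Ideal.Quotient.mkₐ k I) Ideal.Quotient.mk_surjective
  rw [← ringKrullDim_eq_of_ringEquiv e1, ← ringKrullDim_eq_of_ringEquiv e2.toRingEquiv]
  exact Groth.Agent.H49.FibreDimBC.ringKrullDim_tensor_field k k' (F ⧸ I)

/-- Support dimension of a finite module over a finite type algebra over a field is invariant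
under extension of the base field. -/
theorem supportDim_eq_of_isPushout (k k' F F' : Type u) [Field k] [Field k'] [Algebra k k']
    [CommRing F] [CommRing F'] [Algebra k F] [Algebra k' F'] [Algebra F F'] [Algebra k F']
    [IsScalarTower k k' F'] [IsScalarTower k F F'] [Algebra.IsPushout k F k' F']
    [Algebra.FiniteType k F]
    (M M' : Type u) [AddCommGroup M] [Module F M] [Module.Finite F M]
    [AddCommGroup M'] [Module F' M'] [Module F M'] [IsScalarTower F F' M']
    (φ : M →ₗ[F] M') (hφ : IsBaseChange F' φ) :
    Module.supportDim F' M' = Module.supportDim F M := by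
  have h1 : Module.support F' M' =
      PrimeSpectrum.comap (algebraMap F F') ⁻¹' Module.support F M := by
    rw [← Groth.Agent.H31.support_baseChange_eq_preimage (R := F) (R' := F') M]
    exact (LinearEquiv.support_eq hφ.equiv).symm
  rw [Module.supportDim_eq_ringKrullDim_quotient_annihilator (R := F) (M := M),
    ← ringKrullDim_quotient_map_of_isPushout k k' F F' (Module.annihilator F M),
    ringKrullDim_quotient, Module.supportDim, h1, Module.support_eq_zeroLocus,
    PrimeSpectrum.preimage_comap_zeroLocus, ← PrimeSpectrum.zeroLocus_span]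
  rfl

end Groth.Agent.H32.OneStepBCA
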