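import Mathlib
import Groth.Agent.H32.OneStepBCA

/-!
# Fibre modules under base change: abstract pushout form
-/

set_option autoImplicit false
universe u

open TensorProduct

namespace Groth.Agent.H32.OneStepBCB

section

variable (R R' S S' k k' F F' : Type u)
  [CommRing R] [CommRing R'] [CommRing S] [CommRing S'] [Field k] [Field k'] [CommRing F] [CommRing F']
  [Algebra R R'] [Algebra R S] [Algebra R' S'] [Algebra R S'] [Algebra S S']
  [IsScalarTower R R' S'] [IsScalarTower R S S'] [Algebra.IsPushout R R' S S']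
  [Algebra R k] [Algebra R' k'] [Algebra k k'] [Algebra R k'] [IsScalarTower R k k'] [IsScalarTower R R' k']
  [Algebra k F] [Algebra S F] [Algebra R F] [IsScalarTower R k F] [IsScalarTower R S F]
  [Algebra.IsPushout R k S F]
  [Algebra k' F'] [Algebra S' F'] [Algebra R' F'] [IsScalarTower R' k' F'] [IsScalarTower R' S' F']
  [Algebra.IsPushout R' k' S' F']
  [Algebra R F'] [Algebra S F'] [Algebra k F'] [Algebra F F']
  [IsScalarTower R k' F'] [IsScalarTower R S F'] [IsScalarTower R S' F'] [IsScalarTower S S' F']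
  [IsScalarTower k k' F'] [IsScalarTower k F F'] [IsScalarTower R F F'] [IsScalarTower S F F']

include R R' S S' in
/-- Pasting: the fibre ring over `k'` is the base change of the fibre ring over `k`. -/
theorem isPushout_fibre : Algebra.IsPushout k k' F F' := by
  have h2 : Algebra.IsPushout R k' S F' :=
    (Algebra.IsPushout.comp_iff R R' S S' (T := k') (T' := F')).mpr inferInstance
  exact (Algebra.IsPushout.comp_iff R k S F (T := k') (T' := F')).mp h2

variable [Algebra.FiniteType R S]
  (N N' : Type u) [AddCommGroup N] [Module S N] [Module.Finite S N]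
  [AddCommGroup N'] [Module S' N'] [Module S N'] [IsScalarTower S S' N']
  (f : N →ₗ[S] N') (hf : IsBaseChange S' f)

include R R' k k' hf in
/-- The support dimension of the fibre module is invariant under base change. -/
theorem supportDim_fibre_eq :
    Module.supportDim F' (F' ⊗[S'] N') = Module.supportDim F (F ⊗[S] N) := by
  haveI : Algebra.IsPushout k k' F F' := isPushout_fibre R R' S S' k k' F F'
  haveI : Algebra.IsPushout k F k' F' := Algebra.IsPushout.symm inferInstance
  haveI : Algebra.FiniteType k F := by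
    exact (Algebra.FiniteType.baseChange (R := R) (A := S) k).equiv
      (Algebra.IsPushout.equiv R k S F)
  let e1 : F' ⊗[S'] N' ≃ₗ[F'] F' ⊗[S'] (S' ⊗[S] N) :=
    AlgebraTensorModule.congr (LinearEquiv.refl F' F') hf.equiv.symm
  let e2 : F' ⊗[S'] (S' ⊗[S] N) ≃ₗ[F'] F' ⊗[S] N :=
    AlgebraTensorModule.cancelBaseChange S S' F' F' N
  let e3 : F' ⊗[F] (F ⊗[S] N) ≃ₗ[F'] F' ⊗[S] N :=
    AlgebraTensorModule.cancelBaseChange S F F' F' N
  rw [Module.supportDim_eq_of_equiv (e1 ≪≫ₗ e2 ≪≫ₗ e3.symm)]
  exact Groth.Agent.H32.OneStepBCA.supportDim_eq_of_isPushout k k' F F' (F ⊗[S] N)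
    (F' ⊗[F] (F ⊗[S] N)) (TensorProduct.mk F F' (F ⊗[S] N) 1)
    (TensorProduct.isBaseChange F (F ⊗[S] N) F')

end

end Groth.Agent.H32.OneStepBCB
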