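import Mathlib
import Groth.Prelude.Def_FlatCA
import Groth.Agent.H32.OneStepBCB

/-!
# Fibre modules under base change: concrete form for `FlatCA.fiberMod`
-/

set_option autoImplicit false
universe u

open TensorProduct

namespace Groth.Agent.H32.OneStepBCC

attribute [local instance] Algebra.TensorProduct.rightAlgebra

section

variable (R R' S S' : Type u) [CommRing R] [CommRing R'] [CommRing S] [CommRing S']
  [Algebra R R'] [Algebra R S] [Algebra R' S'] [Algebra R S'] [Algebra S S']
  [IsScalarTower R R' S'] [IsScalarTower R S S'] [Algebra.IsPushout R R' S S']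
  [Algebra.FiniteType R S]
  (p : Ideal R) [p.IsPrime] (p' : Ideal R') [p'.IsPrime] [p'.LiesOver p]
  (N N' : Type u) [AddCommGroup N] [Module S N] [Module.Finite S N]
  [AddCommGroup N'] [Module S' N'] [Module S N'] [IsScalarTower S S' N']
  (f : N →ₗ[S] N') (hf : IsBaseChange S' f)

include hf in
theorem supportDim_fibre_tensor_eq :
    Module.supportDim (p'.ResidueField ⊗[R'] S') ((p'.ResidueField ⊗[R'] S') ⊗[S'] N') =
      Module.supportDim (p.ResidueField ⊗[R] S) ((p.ResidueField ⊗[R] S) ⊗[S] N) := by
  letI ikk' : Algebra p.ResidueField p'.ResidueField :=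
    (Ideal.ResidueField.mapₐ p p' (Algebra.ofId R R') (p'.over_def p)).toRingHom.toAlgebra
  haveI : IsScalarTower R p.ResidueField p'.ResidueField :=
    IsScalarTower.of_algebraMap_eq fun x =>
      ((Ideal.ResidueField.mapₐ p p' (Algebra.ofId R R') (p'.over_def p)).commutes x).symm
  letI iSF' : Algebra S (p'.ResidueField ⊗[R'] S') :=
    ((algebraMap S' (p'.ResidueField ⊗[R'] S')).comp (algebraMap S S')).toAlgebra
  haveI : IsScalarTower S S' (p'.ResidueField ⊗[R'] S') :=
    IsScalarTower.of_algebraMap_eq fun _ => rfl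
  haveI : IsScalarTower p.ResidueField p'.ResidueField (p'.ResidueField ⊗[R'] S') :=
    inferInstance
  haveI : IsScalarTower R S' (p'.ResidueField ⊗[R'] S') :=
    IsScalarTower.of_algebraMap_eq fun x => by
      rw [IsScalarTower.algebraMap_apply R R' (p'.ResidueField ⊗[R'] S'),
        IsScalarTower.algebraMap_apply R' S' (p'.ResidueField ⊗[R'] S'),
        ← IsScalarTower.algebraMap_apply R R' S']
  haveI : IsScalarTower R S (p'.ResidueField ⊗[R'] S') :=
    IsScalarTower.of_algebraMap_eq fun x => by
      rw [IsScalarTower.algebraMap_apply R S' (p'.ResidueField ⊗[R'] S'),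
        IsScalarTower.algebraMap_apply R S S']
      rfl
  haveI : IsScalarTower R p.ResidueField (p'.ResidueField ⊗[R'] S') :=
    IsScalarTower.of_algebraMap_eq fun x => by
      rw [IsScalarTower.algebraMap_apply R p'.ResidueField (p'.ResidueField ⊗[R'] S'),
        IsScalarTower.algebraMap_apply R p.ResidueField p'.ResidueField]
      rfl
  let ψ : (p.ResidueField ⊗[R] S) →ₐ[R] (p'.ResidueField ⊗[R'] S') :=
    Algebra.TensorProduct.lift (IsScalarTower.toAlgHom R p.ResidueField _)
      (IsScalarTower.toAlgHom R S _) (fun _ _ => Commute.all _ _)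
  letI iFF' : Algebra (p.ResidueField ⊗[R] S) (p'.ResidueField ⊗[R'] S') := ψ.toRingHom.toAlgebra
  haveI : IsScalarTower p.ResidueField (p.ResidueField ⊗[R] S) (p'.ResidueField ⊗[R'] S') :=
    IsScalarTower.of_algebraMap_eq fun c => by
      change _ = ψ (c ⊗ₜ 1)
      simp [ψ]
  haveI : IsScalarTower S (p.ResidueField ⊗[R] S) (p'.ResidueField ⊗[R'] S') :=
    IsScalarTower.of_algebraMap_eq fun s => by
      change _ = ψ (1 ⊗ₜ s)
      simp only [ψ, Algebra.TensorProduct.lift_tmul, map_one, one_mul]
      rfl
  haveI : IsScalarTower R (p.ResidueField ⊗[R] S) (p'.ResidueField ⊗[R'] S') :=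
    IsScalarTower.of_algebraMap_eq fun x => (ψ.commutes x).symm
  exact Groth.Agent.H32.OneStepBCB.supportDim_fibre_eq R R' S S' p.ResidueField p'.ResidueField
    (p.ResidueField ⊗[R] S) (p'.ResidueField ⊗[R'] S') N N' f hf

include hf in
theorem supportDim_fiberMod_eq [Module R N] [IsScalarTower R S N] [Module R' N']
    [IsScalarTower R' S' N'] :
    Module.supportDim (p'.Fiber S') (FlatCA.fiberMod p' S' N') =
      Module.supportDim (p.Fiber S) (FlatCA.fiberMod p S N) :=
  supportDim_fibre_tensor_eq R R' S S' p p' N N' f hf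

end

section Pushouts

variable (R R' S S' C C' : Type u) [CommRing R] [CommRing R'] [CommRing S] [CommRing S']
  [CommRing C] [CommRing C']
  [Algebra R R'] [Algebra R S] [Algebra R' S'] [Algebra R S'] [Algebra S S']
  [IsScalarTower R R' S'] [IsScalarTower R S S'] [Algebra.IsPushout R R' S S']
  [Algebra R C] [Algebra S C] [IsScalarTower R S C]
  [Algebra R' C'] [Algebra R C'] [Algebra C C'] [IsScalarTower R R' C'] [IsScalarTower R C C']
  [Algebra.IsPushout R R' C C']
  [Algebra S' C'] [IsScalarTower R' S' C'] [Algebra S C'] [IsScalarTower S S' C']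
  [IsScalarTower S C C']

include R R' in
/-- pasting of pushouts: `C' = S' ⊗[S] C`. -/
theorem isPushout_of_isPushout_of_isPushout : Algebra.IsPushout S S' C C' := by
  haveI : IsScalarTower R S' C' := IsScalarTower.of_algebraMap_eq fun x => by
    rw [IsScalarTower.algebraMap_apply R R' C', IsScalarTower.algebraMap_apply R' S' C',
      ← IsScalarTower.algebraMap_apply R R' S']
  haveI : Algebra.IsPushout R S R' S' := Algebra.IsPushout.symm inferInstance
  haveI : Algebra.IsPushout R C R' C' := Algebra.IsPushout.symm inferInstance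
  have h : Algebra.IsPushout S C S' C' :=
    (Algebra.IsPushout.comp_iff R S R' S' (T := C) (T' := C')).mp inferInstance
  exact h.symm

include R R' in
theorem surjective_of_isPushout (h : Function.Surjective (algebraMap S C)) :
    Function.Surjective (algebraMap S' C') := by
  haveI : Algebra.IsPushout S S' C C' := isPushout_of_isPushout_of_isPushout R R' S S' C C'
  intro x
  have hb : IsBaseChange S' (IsScalarTower.toAlgHom S C C').toLinearMap :=
    Algebra.IsPushout.out
  induction x using hb.inductionOn with
  | zero => exact ⟨0, map_zero _⟩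
  | tmul c =>
    obtain ⟨s, rfl⟩ := h c
    refine ⟨algebraMap S S' s, ?_⟩
    simp [← IsScalarTower.algebraMap_apply]
  | smul s' y ih =>
    obtain ⟨t, rfl⟩ := ih
    exact ⟨s' * t, by rw [map_mul, Algebra.smul_def]⟩
  | add y z hy hz =>
    obtain ⟨a, rfl⟩ := hy
    obtain ⟨b, rfl⟩ := hz
    exact ⟨a + b, map_add _ _ _⟩

include R R' in
theorem finitePresentation_of_isPushout [Algebra.FinitePresentation S C] :
    Algebra.FinitePresentation S' C' := by
  haveI : Algebra.IsPushout S S' C C' := isPushout_of_isPushout_of_isPushout R R' S S' C C'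
  exact Algebra.FinitePresentation.equiv (Algebra.IsPushout.equiv S S' C C')

include R R' in
theorem finite_of_isPushout [Module.Finite S C] : Module.Finite S' C' := by
  haveI : Algebra.IsPushout S S' C C' := isPushout_of_isPushout_of_isPushout R R' S S' C C'
  exact Module.Finite.equiv (Algebra.IsPushout.equiv S S' C C').toLinearEquiv

end Pushouts

end Groth.Agent.H32.OneStepBCC
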