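import Mathlib
import Groth.Agent.H32.OneStepBCB

/-!
# Fibre rings under base change with trivial residue field extension: abstract pushout form
-/

set_option autoImplicit false
universe u

open TensorProduct

namespace Groth.Agent.H32.OneStepBCD

/-- In a pushout square `k → k'`, `k → F`, `F' = k' ⊗[k] F`, if `k → k'` is bijective then so is
`F → F'`. -/
theorem bijective_algebraMap_of_isPushout (k k' F F' : Type u) [CommRing k] [CommRing k']
    [Algebra k k'] [CommRing F] [CommRing F'] [Algebra k F] [Algebra k' F'] [Algebra F F']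
    [Algebra k F'] [IsScalarTower k k' F'] [IsScalarTower k F F'] [Algebra.IsPushout k k' F F']
    (h : Function.Bijective (algebraMap k k')) : Function.Bijective (algebraMap F F') := by
  have hb : IsBaseChange k' (IsScalarTower.toAlgHom k F F').toLinearMap := Algebra.IsPushout.out
  let e0 : k ≃ₗ[k] k' := LinearEquiv.ofBijective (Algebra.linearMap k k') h
  let e1 : F ≃ₗ[k] k ⊗[k] F := (TensorProduct.lid k F).symm
  let e2 : k ⊗[k] F ≃ₗ[k] k' ⊗[k] F := TensorProduct.congr e0 (LinearEquiv.refl k F)
  let e3 : k' ⊗[k] F ≃ₗ[k] F' := hb.equiv.restrictScalars k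
  have hcomp : ∀ x : F, (e1 ≪≫ₗ e2 ≪≫ₗ e3) x = algebraMap F F' x := by
    intro x
    simp only [LinearEquiv.trans_apply, e1, e2, e3, e0, TensorProduct.lid_symm_apply,
      TensorProduct.congr_tmul, LinearEquiv.ofBijective_apply, Algebra.linearMap_apply, map_one,
      LinearEquiv.refl_apply, LinearEquiv.restrictScalars_apply, IsBaseChange.equiv_tmul, one_smul]
    rfl
  have : (algebraMap F F' : F → F') = ⇑(e1 ≪≫ₗ e2 ≪≫ₗ e3) := funext fun x => (hcomp x).symm
  rw [this]
  exact (e1 ≪≫ₗ e2 ≪≫ₗ e3).bijective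

section

variable (R R' S S' k k' F F' : Type u)
  [CommRing R] [CommRing R'] [CommRing S] [CommRing S'] [Field k] [Field k'] [CommRing F] [CommRing F']
  [Algebra R R'] [Algebra R S] [Algebra R' S'] [Algebra R S'] [Algebra S S']
  [IsScalarTower R R' S'] [IsScalarTower R S S'] [Algebra.IsPushout R R' S S']
  [Algebra R k] [Algebra R' k'] [Algebra k k'] [Algebra R k'] [IsScalarTower R k k'] [IsScalarTower R R' k']
  [Algebra k F] [Algebra S F] [Algebra R F] [IsScalarTower R k F] [IsScalarTower R S F]
  [Algebra.IsPushout R k S F]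
  [Algebra k' F'] [Algebra S' F'] [Algebra R' F'] [IsScalarTower R' k' F'] [IsScalarTower R' S' F']
  [Algebra.IsPushout R' k' S' F']
  [Algebra R F'] [Algebra S F'] [Algebra k F'] [Algebra F F']
  [IsScalarTower R k' F'] [IsScalarTower R S F'] [IsScalarTower R S' F'] [IsScalarTower S S' F']
  [IsScalarTower k k' F'] [IsScalarTower k F F'] [IsScalarTower R F F'] [IsScalarTower S F F']

include R R' S S' in
theorem bijective_fibre (h : Function.Bijective (algebraMap k k')) :
    Function.Bijective (algebraMap F F') := by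
  haveI : Algebra.IsPushout k k' F F' :=
    Groth.Agent.H32.OneStepBCB.isPushout_fibre R R' S S' k k' F F'
  exact bijective_algebraMap_of_isPushout k k' F F' h

variable (N N' : Type u) [AddCommGroup N] [Module S N] [Module.Finite S N]
  [AddCommGroup N'] [Module S' N'] [Module S N'] [IsScalarTower S S' N']
  (f : N →ₗ[S] N') (hf : IsBaseChange S' f)

include hf in
/-- The support of the fibre module over `k'` is the preimage of the support over `k`. -/
theorem support_fibre_eq :
    Module.support F' (F' ⊗[S'] N') =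
      PrimeSpectrum.comap (algebraMap F F') ⁻¹' Module.support F (F ⊗[S] N) := by
  let e1 : F' ⊗[S'] N' ≃ₗ[F'] F' ⊗[S'] (S' ⊗[S] N) :=
    AlgebraTensorModule.congr (LinearEquiv.refl F' F') hf.equiv.symm
  let e2 : F' ⊗[S'] (S' ⊗[S] N) ≃ₗ[F'] F' ⊗[S] N :=
    AlgebraTensorModule.cancelBaseChange S S' F' F' N
  let e3 : F' ⊗[F] (F ⊗[S] N) ≃ₗ[F'] F' ⊗[S] N :=
    AlgebraTensorModule.cancelBaseChange S F F' F' N
  rw [LinearEquiv.support_eq (e1 ≪≫ₗ e2 ≪≫ₗ e3.symm)]
  exact Groth.Agent.H31.support_baseChange_eq_preimage (R := F) (R' := F') (F ⊗[S] N)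

end

end Groth.Agent.H32.OneStepBCD
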