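import Mathlib
import Groth.Prelude.Def_FlatCA
import Groth.Agent.H32.OneStepBCD

/-!
# The comparison map between fibre rings `κ(p) ⊗[R] S → κ(p') ⊗[R'] S'`
-/

set_option autoImplicit false
universe u

open TensorProduct

namespace Groth.Agent.H32.OneStepBCE

attribute [local instance] Algebra.TensorProduct.rightAlgebra

section

variable (R R' S S' : Type u) [CommRing R] [CommRing R'] [CommRing S] [CommRing S']
  [Algebra R R'] [Algebra R S] [Algebra R' S'] [Algebra R S'] [Algebra S S']
  [IsScalarTower R R' S'] [IsScalarTower R S S']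
  (p : Ideal R) [p.IsPrime] (p' : Ideal R') [p'.IsPrime] [p'.LiesOver p]

/-- The comparison map of fibre rings. -/
noncomputable def fibreMap : p.Fiber S →ₐ[R] p'.Fiber S' :=
  Algebra.TensorProduct.lift
    (((Algebra.TensorProduct.includeLeft (R := R') (S := R') (A := p'.ResidueField)
      (B := S')).restrictScalars R).comp
      (Ideal.ResidueField.mapₐ p p' (Algebra.ofId R R') (p'.over_def p)))
    (((Algebra.TensorProduct.includeRight (R := R') (A := p'.ResidueField)
      (B := S')).restrictScalars R).comp (IsScalarTower.toAlgHom R S S'))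
    (fun _ _ => Commute.all _ _)

theorem fibreMap_tmul (c : p.ResidueField) (s : S) :
    fibreMap R R' S S' p p' (c ⊗ₜ s) =
      (Ideal.ResidueField.mapₐ p p' (Algebra.ofId R R') (p'.over_def p) c) ⊗ₜ
        (algebraMap S S' s) := by
  simp [fibreMap]

theorem fibreMap_algebraMap (s : S) :
    fibreMap R R' S S' p p' (algebraMap S (p.Fiber S) s) =
      algebraMap S' (p'.Fiber S') (algebraMap S S' s) := by
  change fibreMap R R' S S' p p' (1 ⊗ₜ s) = 1 ⊗ₜ (algebraMap S S' s)
  rw [fibreMap_tmul, map_one]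

variable [Algebra.IsPushout R R' S S']

theorem bijective_fibreMap
    (hκ : Function.Bijective (Ideal.ResidueField.mapₐ p p' (Algebra.ofId R R') (p'.over_def p))) :
    Function.Bijective (fibreMap R R' S S' p p') := by
  letI ikk' : Algebra p.ResidueField p'.ResidueField :=
    (Ideal.ResidueField.mapₐ p p' (Algebra.ofId R R') (p'.over_def p)).toRingHom.toAlgebra
  haveI : IsScalarTower R p.ResidueField p'.ResidueField :=
    IsScalarTower.of_algebraMap_eq fun x =>
      ((Ideal.ResidueField.mapₐ p p' (Algebra.ofId R R') (p'.over_def p)).commutes x).symm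
  letI iSF' : Algebra S (p'.ResidueField ⊗[R'] S') :=
    ((algebraMap S' (p'.ResidueField ⊗[R'] S')).comp (algebraMap S S')).toAlgebra
  haveI : IsScalarTower S S' (p'.ResidueField ⊗[R'] S') :=
    IsScalarTower.of_algebraMap_eq fun _ => rfl
  haveI : IsScalarTower p.ResidueField p'.ResidueField (p'.ResidueField ⊗[R'] S') :=
    inferInstance
  haveI : IsScalarTower R S' (p'.ResidueField ⊗[R'] S') :=
    IsScalarTower.of_algebraMap_eq fun x => by
      rw [IsScalarTower.algebraMap_apply R R' (p'.ResidueField ⊗[R'] S'),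
        IsScalarTower.algebraMap_apply R' S' (p'.ResidueField ⊗[R'] S'),
        ← IsScalarTower.algebraMap_apply R R' S']
  haveI : IsScalarTower R S (p'.ResidueField ⊗[R'] S') :=
    IsScalarTower.of_algebraMap_eq fun x => by
      rw [IsScalarTower.algebraMap_apply R S' (p'.ResidueField ⊗[R'] S'),
        IsScalarTower.algebraMap_apply R S S']
      rfl
  let ψ : (p.ResidueField ⊗[R] S) →ₐ[R] (p'.ResidueField ⊗[R'] S') := fibreMap R R' S S' p p'
  letI iFF' : Algebra (p.ResidueField ⊗[R] S) (p'.ResidueField ⊗[R'] S') := ψ.toRingHom.toAlgebra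
  haveI : IsScalarTower p.ResidueField (p.ResidueField ⊗[R] S) (p'.ResidueField ⊗[R'] S') :=
    IsScalarTower.of_algebraMap_eq fun c => by
      change _ = ψ (c ⊗ₜ 1)
      simp only [ψ, fibreMap_tmul, map_one]
      rfl
  haveI : IsScalarTower S (p.ResidueField ⊗[R] S) (p'.ResidueField ⊗[R'] S') :=
    IsScalarTower.of_algebraMap_eq fun s => by
      change _ = ψ (1 ⊗ₜ s)
      simp only [ψ, fibreMap_tmul, map_one]
      rfl
  haveI : IsScalarTower R (p.ResidueField ⊗[R] S) (p'.ResidueField ⊗[R'] S') :=
    IsScalarTower.of_algebraMap_eq fun x => (ψ.commutes x).symm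
  exact Groth.Agent.H32.OneStepBCD.bijective_fibre R R' S S' p.ResidueField p'.ResidueField
    (p.ResidueField ⊗[R] S) (p'.ResidueField ⊗[R'] S') hκ

section Setup

variable (N N' : Type u) [AddCommGroup N] [Module S N] [Module.Finite S N]
  [AddCommGroup N'] [Module S' N'] [Module S N'] [IsScalarTower S S' N']
  (f : N →ₗ[S] N') (hf : IsBaseChange S' f)

include hf in
theorem support_fibreMap :
    Module.support (p'.ResidueField ⊗[R'] S') ((p'.ResidueField ⊗[R'] S') ⊗[S'] N') =
      PrimeSpectrum.comap (fibreMap R R' S S' p p').toRingHom ⁻¹'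
        Module.support (p.ResidueField ⊗[R] S) ((p.ResidueField ⊗[R] S) ⊗[S] N) := by
  letI ikk' : Algebra p.ResidueField p'.ResidueField :=
    (Ideal.ResidueField.mapₐ p p' (Algebra.ofId R R') (p'.over_def p)).toRingHom.toAlgebra
  haveI : IsScalarTower R p.ResidueField p'.ResidueField :=
    IsScalarTower.of_algebraMap_eq fun x =>
      ((Ideal.ResidueField.mapₐ p p' (Algebra.ofId R R') (p'.over_def p)).commutes x).symm
  letI iSF' : Algebra S (p'.ResidueField ⊗[R'] S') :=
    ((algebraMap S' (p'.ResidueField ⊗[R'] S')).comp (algebraMap S S')).toAlgebra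
  haveI : IsScalarTower S S' (p'.ResidueField ⊗[R'] S') :=
    IsScalarTower.of_algebraMap_eq fun _ => rfl
  haveI : IsScalarTower p.ResidueField p'.ResidueField (p'.ResidueField ⊗[R'] S') :=
    inferInstance
  haveI : IsScalarTower R S' (p'.ResidueField ⊗[R'] S') :=
    IsScalarTower.of_algebraMap_eq fun x => by
      rw [IsScalarTower.algebraMap_apply R R' (p'.ResidueField ⊗[R'] S'),
        IsScalarTower.algebraMap_apply R' S' (p'.ResidueField ⊗[R'] S'),
        ← IsScalarTower.algebraMap_apply R R' S']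
  haveI : IsScalarTower R S (p'.ResidueField ⊗[R'] S') :=
    IsScalarTower.of_algebraMap_eq fun x => by
      rw [IsScalarTower.algebraMap_apply R S' (p'.ResidueField ⊗[R'] S'),
        IsScalarTower.algebraMap_apply R S S']
      rfl
  let ψ : (p.ResidueField ⊗[R] S) →ₐ[R] (p'.ResidueField ⊗[R'] S') := fibreMap R R' S S' p p'
  letI iFF' : Algebra (p.ResidueField ⊗[R] S) (p'.ResidueField ⊗[R'] S') := ψ.toRingHom.toAlgebra
  haveI : IsScalarTower p.ResidueField (p.ResidueField ⊗[R] S) (p'.ResidueField ⊗[R'] S') :=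
    IsScalarTower.of_algebraMap_eq fun c => by
      change _ = ψ (c ⊗ₜ 1)
      simp only [ψ, fibreMap_tmul, map_one]
      rfl
  haveI : IsScalarTower S (p.ResidueField ⊗[R] S) (p'.ResidueField ⊗[R'] S') :=
    IsScalarTower.of_algebraMap_eq fun s => by
      change _ = ψ (1 ⊗ₜ s)
      simp only [ψ, fibreMap_tmul, map_one]
      rfl
  haveI : IsScalarTower R (p.ResidueField ⊗[R] S) (p'.ResidueField ⊗[R'] S') :=
    IsScalarTower.of_algebraMap_eq fun x => (ψ.commutes x).symm
  exact Groth.Agent.H32.OneStepBCD.support_fibre_eq S S' (p.ResidueField ⊗[R] S)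
    (p'.ResidueField ⊗[R'] S') N N' f hf

end Setup

end

end Groth.Agent.H32.OneStepBCE
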