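import Mathlib
import Groth.Prelude.Def_FlatCA
import Groth.Agent.H32.FiberAss
import Groth.Agent.H32.OneStepBCE
import Groth.Agent.H17.Chev.TopLocalDim

/-!
# Base change with trivial residue field extension: primes, local dimension
-/

set_option autoImplicit false
universe u

open TensorProduct

namespace Groth.Agent.H32.OneStepBCF

attribute [local instance] Algebra.TensorProduct.rightAlgebra

section Primes

variable {R S : Type u} [CommRing R] [CommRing S] [Algebra R S]
  (p : Ideal R) [p.IsPrime]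

/-- The prime of the fibre ring corresponding to a prime of `S` over `p`. -/
theorem exists_prime_fiber (q : Ideal S) [q.IsPrime] [q.LiesOver p] :
    ∃ Q : Ideal (p.Fiber S), Q.IsPrime ∧ Q.comap (algebraMap S (p.Fiber S)) = q := by
  let x : p.primesOver S := ⟨q, ⟨inferInstance, inferInstance⟩⟩
  let Q := PrimeSpectrum.primesOverOrderIsoFiber R S p x
  refine ⟨Q.asIdeal, Q.2, ?_⟩
  have h := (PrimeSpectrum.primesOverOrderIsoFiber R S p).symm_apply_apply x
  have h2 := congrArg Subtype.val h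
  rw [PrimeSpectrum.coe_primesOverOrderIsoFiber_symm_apply] at h2
  exact h2

/-- A prime of the fibre ring contracting to `q` is the extension of `q`. -/
theorem eq_fiberIdeal_of_comap_eq (q : Ideal S) (Q : Ideal (p.Fiber S)) [Q.IsPrime]
    (h : Q.comap (algebraMap S (p.Fiber S)) = q) : Q = FlatCA.fiberIdeal p q := by
  rw [← h]
  exact (Groth.Agent.H32.FiberAss.fiberIdeal_comap p Q).symm

end Primes

section

variable (R R' S S' : Type u) [CommRing R] [CommRing R'] [CommRing S] [CommRing S']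
  [Algebra R R'] [Algebra R S] [Algebra R' S'] [Algebra R S'] [Algebra S S']
  [IsScalarTower R R' S'] [IsScalarTower R S S'] [Algebra.IsPushout R R' S S']
  (p : Ideal R) [p.IsPrime] (p' : Ideal R') [p'.IsPrime] [p'.LiesOver p]

/-- A prime of the fibre ring over `p'` contracting to `q'` over `q` pulls back along the
comparison map to the extension of `q`. -/
theorem comap_fibreMap_eq (q : Ideal S) [q.IsPrime] (q' : Ideal S') [q'.IsPrime] [q'.LiesOver q]
    (Q' : Ideal (p'.Fiber S')) [Q'.IsPrime]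
    (h : Q'.comap (algebraMap S' (p'.Fiber S')) = q') :
    Q'.comap (Groth.Agent.H32.OneStepBCE.fibreMap R R' S S' p p').toRingHom =
      FlatCA.fiberIdeal p q := by
  apply eq_fiberIdeal_of_comap_eq
  rw [Ideal.comap_comap]
  have : (Groth.Agent.H32.OneStepBCE.fibreMap R R' S S' p p').toRingHom.comp
      (algebraMap S (p.Fiber S)) = (algebraMap S' (p'.Fiber S')).comp (algebraMap S S') := by
    ext s
    exact Groth.Agent.H32.OneStepBCE.fibreMap_algebraMap R R' S S' p p' s
  rw [this, ← Ideal.comap_comap, h]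
  exact (q'.over_def q).symm

/-- Uniqueness of the prime of `S'` over `q` and `p'` when `κ(p) → κ(p')` is bijective. -/
theorem prime_unique_of_bijective
    (hκ : Function.Bijective (Ideal.ResidueField.mapₐ p p' (Algebra.ofId R R') (p'.over_def p)))
    (q : Ideal S) [q.IsPrime] [q.LiesOver p]
    (q₁ q₂ : Ideal S') [q₁.IsPrime] [q₂.IsPrime] [q₁.LiesOver q] [q₂.LiesOver q]
    [q₁.LiesOver p'] [q₂.LiesOver p'] : q₁ = q₂ := by
  obtain ⟨Q₁, hQ₁, h₁⟩ := exists_prime_fiber p' q₁
  obtain ⟨Q₂, hQ₂, h₂⟩ := exists_prime_fiber p' q₂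
  have e₁ := comap_fibreMap_eq R R' S S' p p' q q₁ Q₁ h₁
  have e₂ := comap_fibreMap_eq R R' S S' p p' q q₂ Q₂ h₂
  have hsurj : Function.Surjective (Groth.Agent.H32.OneStepBCE.fibreMap R R' S S' p p').toRingHom :=
    (Groth.Agent.H32.OneStepBCE.bijective_fibreMap R R' S S' p p' hκ).2
  have hQ : Q₁ = Q₂ := by
    rw [← Ideal.map_comap_of_surjective _ hsurj Q₁, ← Ideal.map_comap_of_surjective _ hsurj Q₂,
      e₁, e₂]
  rw [← h₁, ← h₂, hQ]

variable [Algebra.FiniteType R S]
  (N N' : Type u) [AddCommGroup N] [Module S N] [Module R N] [IsScalarTower R S N]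
  [Module.Finite S N]
  [AddCommGroup N'] [Module S' N'] [Module R' N'] [IsScalarTower R' S' N']
  [Module S N'] [IsScalarTower S S' N']
  (f : N →ₗ[S] N') (hf : IsBaseChange S' f)

include hf in
/-- The point of the fibre over `p'` given by `q'` and its local dimension in the support. -/
theorem exists_point_localDim
    (hκ : Function.Bijective (Ideal.ResidueField.mapₐ p p' (Algebra.ofId R R') (p'.over_def p)))
    (q : Ideal S) [q.IsPrime] [q.LiesOver p] (q' : Ideal S') [q'.IsPrime] [q'.LiesOver q]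
    [q'.LiesOver p'] (n : WithBot ℕ∞)
    (h1 : ∃ (ξ : PrimeSpectrum (p.Fiber S))
      (hξ : ξ ∈ Module.support (p.Fiber S) (FlatCA.fiberMod p S N)),
      ξ.asIdeal = FlatCA.fiberIdeal p q ∧
      FlatMor.localDim (Module.support (p.Fiber S) (FlatCA.fiberMod p S N)) ⟨ξ, hξ⟩ = n) :
    ∃ (ξ' : PrimeSpectrum (p'.Fiber S'))
      (hξ' : ξ' ∈ Module.support (p'.Fiber S') (FlatCA.fiberMod p' S' N')),
      ξ'.asIdeal = FlatCA.fiberIdeal p' q' ∧
      FlatMor.localDim (Module.support (p'.Fiber S') (FlatCA.fiberMod p' S' N')) ⟨ξ', hξ'⟩ = n := by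
  obtain ⟨ξ, hξ, hξq, hdim⟩ := h1
  obtain ⟨Q', hQ', hQ'q⟩ := exists_prime_fiber p' q'
  let ψ := Groth.Agent.H32.OneStepBCE.fibreMap R R' S S' p p'
  have hbij : Function.Bijective ψ :=
    Groth.Agent.H32.OneStepBCE.bijective_fibreMap R R' S S' p p' hκ
  have hsupp : Module.support (p'.Fiber S') (FlatCA.fiberMod p' S' N') =
      PrimeSpectrum.comap ψ.toRingHom ⁻¹' Module.support (p.Fiber S) (FlatCA.fiberMod p S N) :=
    Groth.Agent.H32.OneStepBCE.support_fibreMap R R' S S' p p' N N' f hf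
  let ξ' : PrimeSpectrum (p'.Fiber S') := ⟨Q', hQ'⟩
  have hcomap : PrimeSpectrum.comap ψ.toRingHom ξ' = ξ := by
    apply PrimeSpectrum.ext
    rw [hξq]
    exact comap_fibreMap_eq R R' S S' p p' q q' Q' hQ'q
  have hξ' : ξ' ∈ Module.support (p'.Fiber S') (FlatCA.fiberMod p' S' N') := by
    rw [hsupp, Set.mem_preimage, hcomap]
    exact hξ
  refine ⟨ξ', hξ', eq_fiberIdeal_of_comap_eq p' q' Q' hQ'q, ?_⟩
  rw [← hdim]
  let e : p.Fiber S ≃+* p'.Fiber S' := RingEquiv.ofBijective ψ.toRingHom hbij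
  let h : PrimeSpectrum (p'.Fiber S') ≃ₜ PrimeSpectrum (p.Fiber S) :=
    (PrimeSpectrum.homeomorphOfRingEquiv e).symm
  have hh : ∀ x, h x = PrimeSpectrum.comap ψ.toRingHom x := fun x => rfl
  let hs : ↥(Module.support (p'.Fiber S') (FlatCA.fiberMod p' S' N')) ≃ₜ
      ↥(Module.support (p.Fiber S) (FlatCA.fiberMod p S N)) :=
    h.subtype (fun x => by rw [hsupp, Set.mem_preimage, hh])
  have key := Groth.Agent.H17.Chev.localDim_eq_of_isOpenEmbedding hs.isOpenEmbedding ⟨ξ', hξ'⟩
  rw [key]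
  congr 1
  exact Subtype.ext hcomap

end

end Groth.Agent.H32.OneStepBCF
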