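import Mathlib
import Groth.Prelude.Def_FlatCA

/-!
# Residue fields under base change with trivial residue field extension; purely transcendental
-/

set_option autoImplicit false
universe u

open TensorProduct

namespace Groth.Agent.H32.OneStepBCG

section Transport

/-- Transcendence bases with full adjoin transport along compatible isomorphisms of fields. -/
theorem purelyTranscendental_transport {k K k' K' : Type u} [Field k] [Field K] [Field k'] [Field K']
    [Algebra k K] [Algebra k' K'] (σ : k →+* k') (hσ : Function.Surjective σ)
    (τ : K →+* K') (hτ : Function.Bijective τ)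
    (hcomm : (algebraMap k' K').comp σ = τ.comp (algebraMap k K))
    (h : ∃ (ι : Type u) (x : ι → K), IsTranscendenceBasis k x ∧
      IntermediateField.adjoin k (Set.range x) = ⊤) :
    ∃ (ι : Type u) (x : ι → K'), IsTranscendenceBasis k' x ∧
      IntermediateField.adjoin k' (Set.range x) = ⊤ := by
  obtain ⟨ι, x, hx, hadj⟩ := h
  have hσi : Function.Injective σ := σ.injective
  refine ⟨ι, τ ∘ x, ⟨?_, ?_⟩, ?_⟩
  · exact hx.1.ringHom_of_comp_eq σ τ hσ hτ.1 hcomm
  · intro s hs hsub
    -- pull `s` back to `K`
    let t : Set K := τ ⁻¹' s
    have hts : τ '' t = s := Set.image_preimage_eq s hτ.2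
    have hind : AlgebraicIndependent k ((↑) : t → K) := by
      have h2 : AlgebraicIndependent k' (fun x : t => τ x) := by
        have hinj : Set.InjOn τ t := fun a _ b _ hab => hτ.1 hab
        refine (algebraicIndependent_image (R := k') hinj).mpr ?_
        rw [hts]
        exact hs
      exact AlgebraicIndependent.of_ringHom_of_comp_eq (x := ((↑) : t → K)) σ τ h2 hσi hcomm
    have hsub' : Set.range x ⊆ t := by
      rintro _ ⟨i, rfl⟩
      exact hsub ⟨i, rfl⟩
    have := hx.2 t hind hsub'
    rw [Set.range_comp, this, hts]
  · -- adjoin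
    rw [eq_top_iff]
    intro z _
    obtain ⟨w, rfl⟩ := hτ.2 z
    have hw : w ∈ IntermediateField.adjoin k (Set.range x) := by rw [hadj]; trivial
    -- induction on the closure
    have key : ∀ w ∈ IntermediateField.adjoin k (Set.range x),
        τ w ∈ IntermediateField.adjoin k' (Set.range (τ ∘ x)) := by
      intro w hw
      induction hw using IntermediateField.adjoin_induction with
      | mem y hy =>
        obtain ⟨i, rfl⟩ := hy
        exact IntermediateField.subset_adjoin _ _ ⟨i, rfl⟩
      | algebraMap c =>
        have : τ (algebraMap k K c) = algebraMap k' K' (σ c) := by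
          have := congrArg (fun φ : k →+* K' => φ c) hcomm
          simpa using this.symm
        rw [this]
        exact IntermediateField.algebraMap_mem _ _
      | add a b _ _ ha hb => rw [map_add]; exact add_mem ha hb
      | inv a _ ha => rw [map_inv₀]; exact inv_mem ha
      | mul a b _ _ ha hb => rw [map_mul]; exact mul_mem ha hb
    exact key w hw

end Transport

section Residue

variable (R R' D D' : Type u) [CommRing R] [CommRing R'] [CommRing D] [CommRing D']
  [Algebra R R'] [Algebra R D] [Algebra R' D'] [Algebra R D'] [Algebra D D']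
  [IsScalarTower R R' D'] [IsScalarTower R D D'] [Algebra.IsPushout R R' D D']
  (p : Ideal R) [p.IsPrime] (p' : Ideal R') [p'.IsPrime] [p'.LiesOver p]
  (y : Ideal D) [y.IsPrime] [y.LiesOver p] (y' : Ideal D') [y'.IsPrime] [y'.LiesOver y]
  [y'.LiesOver p']

omit [Algebra.IsPushout R R' D D'] in
/-- The square of residue fields commutes. -/
theorem residueField_square :
    (Ideal.ResidueField.mapₐ p' y' (Algebra.ofId R' D') (y'.over_def p')).toRingHom.comp
      (Ideal.ResidueField.mapₐ p p' (Algebra.ofId R R') (p'.over_def p)).toRingHom =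
    (Ideal.ResidueField.mapₐ y y' (Algebra.ofId D D') (y'.over_def y)).toRingHom.comp
      (Ideal.ResidueField.mapₐ p y (Algebra.ofId R D) (y.over_def p)).toRingHom := by
  apply Ideal.ResidueField.ringHom_ext
  ext r
  simp only [RingHom.coe_comp, Function.comp_apply, AlgHom.toRingHom_eq_coe, RingHom.coe_coe,
    Ideal.ResidueField.mapₐ_apply, Ideal.ResidueField.map_algebraMap]
  simp only [AlgHom.toRingHom_eq_coe, RingHom.coe_coe, Algebra.ofId_apply,
    Ideal.ResidueField.map_algebraMap]
  rw [← IsScalarTower.algebraMap_apply R R' D', ← IsScalarTower.algebraMap_apply R D D']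

/-- The residue field extension `κ(y) → κ(y')` is bijective when `κ(p) → κ(p')` is. -/
theorem bijective_residueField_map
    (hκ : Function.Bijective (Ideal.ResidueField.mapₐ p p' (Algebra.ofId R R') (p'.over_def p))) :
    Function.Bijective (Ideal.ResidueField.mapₐ y y' (Algebra.ofId D D') (y'.over_def y)) := by
  set φ := Ideal.ResidueField.mapₐ y y' (Algebra.ofId D D') (y'.over_def y) with hφ
  refine ⟨φ.toRingHom.injective, ?_⟩
  let K : Subfield y'.ResidueField := φ.toRingHom.fieldRange
  have hsq := residueField_square R R' D D' p p' y y'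
  -- images of elements of `D'` lie in `K`
  have hA : ∀ d' : D', algebraMap D' y'.ResidueField d' ∈ K := by
    intro d'
    have hb : IsBaseChange R' (IsScalarTower.toAlgHom R D D').toLinearMap := Algebra.IsPushout.out
    induction d' using hb.inductionOn with
    | zero => rw [map_zero]; exact zero_mem K
    | tmul d =>
      refine ⟨algebraMap D y.ResidueField d, ?_⟩
      change φ (algebraMap D y.ResidueField d) = algebraMap D' y'.ResidueField (algebraMap D D' d)
      rw [hφ, Ideal.ResidueField.mapₐ_apply, Ideal.ResidueField.map_algebraMap]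
      rfl
    | smul r' x ih =>
      rw [Algebra.smul_def, map_mul]
      refine mul_mem ?_ ih
      obtain ⟨e, he⟩ := hκ.2 (algebraMap R' p'.ResidueField r')
      refine ⟨Ideal.ResidueField.mapₐ p y (Algebra.ofId R D) (y.over_def p) e, ?_⟩
      have h1 := congrArg (fun g : p.ResidueField →+* y'.ResidueField => g e) hsq
      simp only [RingHom.coe_comp, Function.comp_apply, AlgHom.toRingHom_eq_coe,
        RingHom.coe_coe] at h1
      change φ _ = _
      rw [hφ, ← h1, he, Ideal.ResidueField.mapₐ_apply, Ideal.ResidueField.map_algebraMap]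
      rfl
    | add a b ha hb' => rw [map_add]; exact add_mem ha hb'
  intro z
  obtain ⟨a, b, _, rfl⟩ := IsFractionRing.div_surjective (A := D' ⧸ y') z
  obtain ⟨a, rfl⟩ := Ideal.Quotient.mk_surjective a
  obtain ⟨b, rfl⟩ := Ideal.Quotient.mk_surjective b
  rw [Ideal.algebraMap_quotient_residueField_mk, Ideal.algebraMap_quotient_residueField_mk]
  have := div_mem (hA a) (hA b)
  obtain ⟨w, hw⟩ := this
  exact ⟨w, hw⟩

/-- Purely transcendental residue field extensions are preserved. -/
theorem purelyTranscendental_baseChange
    (hκ : Function.Bijective (Ideal.ResidueField.mapₐ p p' (Algebra.ofId R R') (p'.over_def p)))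
    (h4 : FlatCA.PurelyTranscendental p y) : FlatCA.PurelyTranscendental p' y' := by
  letI i1 : Algebra p.ResidueField y.ResidueField :=
    (Ideal.ResidueField.mapₐ p y (Algebra.ofId R D) (y.over_def p)).toRingHom.toAlgebra
  letI i2 : Algebra p'.ResidueField y'.ResidueField :=
    (Ideal.ResidueField.mapₐ p' y' (Algebra.ofId R' D') (y'.over_def p')).toRingHom.toAlgebra
  exact purelyTranscendental_transport
    (Ideal.ResidueField.mapₐ p p' (Algebra.ofId R R') (p'.over_def p)).toRingHom hκ.2
    (Ideal.ResidueField.mapₐ y y' (Algebra.ofId D D') (y'.over_def y)).toRingHom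
    (bijective_residueField_map R R' D D' p p' y y' hκ)
    (residueField_square R R' D D' p p' y y') h4

end Residue

end Groth.Agent.H32.OneStepBCG
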