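import Mathlib
import Groth.Agent.H29.FinRestrictDim
import Groth.Agent.H54.Dim

/-!
# Support dimension: restriction along finite maps, and avoiding the generic point
-/

set_option autoImplicit false
universe u

open TensorProduct

namespace Groth.Agent.H32.OneStepDimA

/-- Support dimension does not change when restricting scalars along a ring map over which the
module is finite. -/
theorem supportDim_eq_of_finite (A : Type u) {B : Type u} [CommRing A] [CommRing B] [Algebra A B]
    (M : Type u) [AddCommGroup M] [Module B M] [Module A M] [IsScalarTower A B M]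
    [Module.Finite A M] : Module.supportDim A M = Module.supportDim B M := by
  haveI : Module.Finite B M := Module.Finite.of_restrictScalars_finite A B M
  rw [Module.supportDim_eq_ringKrullDim_quotient_annihilator,
    Module.supportDim_eq_ringKrullDim_quotient_annihilator]
  set I := Module.annihilator A M
  set J := Module.annihilator B M
  have hIJ : I ≤ J.comap (algebraMap A B) := Groth.Agent.H29.FinRestrictDim.annihilator_le_comap A M
  have hJI : J.comap (algebraMap A B) ≤ I := Groth.Agent.H29.FinRestrictDim.comap_annihilator_le A M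
  let φ : A ⧸ I →+* B ⧸ J := Ideal.quotientMap J (algebraMap A B) hIJ
  have hinj : Function.Injective φ := Ideal.quotientMap_injective' hJI
  have hint : φ.IsIntegral := by
    haveI := Groth.Agent.H29.FinRestrictDim.isIntegral_quotient_annihilator A (B := B) M
    intro c
    obtain ⟨b, rfl⟩ := Ideal.Quotient.mk_surjective c
    obtain ⟨f, hf, hfb⟩ := Algebra.IsIntegral.isIntegral (R := A) (Ideal.Quotient.mk J b)
    refine ⟨f.map (Ideal.Quotient.mk I), hf.map _, ?_⟩
    rw [Polynomial.eval₂_map]
    have : φ.comp (Ideal.Quotient.mk I) = algebraMap A (B ⧸ J) := by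
      ext a
      rfl
    rw [this]
    exact hfb
  exact Groth.Agent.H54.ringKrullDim_eq_of_ringHom_isIntegral_of_injective φ hint hinj

/-- A finite module over a domain of dimension at most `n` whose support misses the generic point
has support dimension `< n`. -/
theorem supportDim_lt_of_bot_notMem_support (F : Type u) [CommRing F] [IsDomain F] (n : ℕ)
    (hF : ringKrullDim F ≤ n) (M : Type u) [AddCommGroup M] [Module F M] [Module.Finite F M]
    (h : (⟨⊥, Ideal.isPrime_bot⟩ : PrimeSpectrum F) ∉ Module.support F M) :
    Module.supportDim F M < (n : WithBot ℕ∞) := by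
  rw [Module.support_eq_zeroLocus, PrimeSpectrum.mem_zeroLocus] at h
  have hne : Module.annihilator F M ≠ ⊥ := by
    intro h0
    apply h
    rw [h0]
  obtain ⟨f, hfI, hf0⟩ := Submodule.exists_mem_ne_zero_of_ne_bot hne
  have hnzd : f ∈ nonZeroDivisors F := mem_nonZeroDivisors_of_ne_zero hf0
  have h1 := ringKrullDim_quotient_succ_le_of_nonZeroDivisor hnzd
  have hle : Ideal.span {f} ≤ Module.annihilator F M := by
    rw [Ideal.span_singleton_le_iff_mem]; exact hfI
  have h2 : ringKrullDim (F ⧸ Module.annihilator F M) ≤ ringKrullDim (F ⧸ Ideal.span {f}) :=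
    ringKrullDim_le_of_surjective (Ideal.Quotient.factor hle) (Ideal.Quotient.factor_surjective hle)
  rw [Module.supportDim_eq_ringKrullDim_quotient_annihilator]
  have h3 : ringKrullDim (F ⧸ Module.annihilator F M) + 1 ≤ (n : WithBot ℕ∞) :=
    (add_le_add_left h2 1).trans (h1.trans hF)
  generalize ringKrullDim (F ⧸ Module.annihilator F M) = x at h3
  cases x with
  | bot => exact WithBot.bot_lt_coe _
  | coe x =>
    cases x with
    | top =>
      exfalso
      have h4 : ((⊤ : ℕ∞) : WithBot ℕ∞) ≤ ((n : ℕ∞) : WithBot ℕ∞) :=
        le_trans (le_add_of_nonneg_right zero_le_one) h3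
      exact absurd (WithBot.coe_le_coe.mp h4) (by simp)
    | coe m =>
      have h4 : ((m + 1 : ℕ) : WithBot ℕ∞) ≤ (n : WithBot ℕ∞) := by exact_mod_cast h3
      have h5 : m + 1 ≤ n := by exact_mod_cast h4
      have : ((m : ℕ) : WithBot ℕ∞) < (n : WithBot ℕ∞) := by exact_mod_cast Nat.lt_of_succ_le h5
      exact this

section Cancel

variable (S C FS FC : Type u) [CommRing S] [CommRing C] [CommRing FS] [CommRing FC]
  [Algebra S C] [Algebra S FS] [Algebra C FC] [Algebra FS FC] [Algebra S FC]
  [IsScalarTower S FS FC] [IsScalarTower S C FC] [Algebra.IsPushout S FS C FC]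
  (G : Type u) [AddCommGroup G] [Module C G] [Module S G] [IsScalarTower S C G]

/-- The support dimension of a base change computed over the smaller or the bigger ring. -/
theorem supportDim_tensor_eq [Module.Finite FS (FS ⊗[S] G)] :
    Module.supportDim FS (FS ⊗[S] G) = Module.supportDim FC (FC ⊗[C] G) := by
  let e : FC ⊗[C] G ≃ₗ[FS] FS ⊗[S] G := Algebra.IsPushout.cancelBaseChange S FS C FC G
  haveI : Module.Finite FS (FC ⊗[C] G) := Module.Finite.equiv e.symm
  rw [← Module.supportDim_eq_of_equiv e]
  exact supportDim_eq_of_finite FS (B := FC) (FC ⊗[C] G)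

end Cancel

end Groth.Agent.H32.OneStepDimA
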