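import Mathlib

/-!
# Lifting a basis of a fibre to a map from a free module
-/

set_option autoImplicit false
universe u

open TensorProduct

namespace Groth.Agent.H32.OneStepDimB

variable (D : Type u) [CommRing D] (K : Type u) [Field K] [Algebra D K]
  (G : Type u) [AddCommGroup G] [Module D G]

/-- A finite module with nonzero fibre over the field `K` admits a map from a finite free module of
positive rank which is bijective after base change to `K`. -/
theorem exists_bijective_baseChange [Module.Finite D G] [Nontrivial (K ⊗[D] G)] :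
    ∃ (r : ℕ) (α : (Fin r → D) →ₗ[D] G), 0 < r ∧ Function.Bijective (α.baseChange K) := by
  classical
  let V := K ⊗[D] G
  let t : Set V := Set.range (fun g : G => (1 : K) ⊗ₜ[D] g)
  have ht : Submodule.span K t = ⊤ := by
    rw [eq_top_iff]
    rintro z -
    induction z using TensorProduct.induction_on with
    | zero => exact zero_mem _
    | tmul c g =>
      have : c ⊗ₜ[D] g = c • ((1 : K) ⊗ₜ[D] g) := by rw [TensorProduct.smul_tmul', smul_eq_mul, mul_one]
      rw [this]
      exact Submodule.smul_mem _ _ (Submodule.subset_span ⟨g, rfl⟩)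
    | add a b ha hb => exact add_mem ha hb
  obtain ⟨b, hbt, hbspan, hbli⟩ := exists_linearIndependent K t
  have hbtop : ⊤ ≤ Submodule.span K (Set.range ((↑) : b → V)) := by
    rw [Subtype.range_coe, hbspan, ht]
  let B : Module.Basis b K V := Module.Basis.mk hbli hbtop
  haveI : Finite b := Module.Finite.finite_basis B
  haveI : Fintype b := Fintype.ofFinite b
  let r := Fintype.card b
  let eb : b ≃ Fin r := Fintype.equivFin b
  have hg : ∀ i : Fin r, ∃ g : G, (1 : K) ⊗ₜ[D] g = ((eb.symm i : b) : V) := fun i =>
    hbt (eb.symm i).2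
  choose gs hgs using hg
  let α : (Fin r → D) →ₗ[D] G := Fintype.linearCombination D gs
  refine ⟨r, α, ?_, ?_⟩
  · have : Nonempty b := by
      by_contra hne
      rw [not_nonempty_iff] at hne
      have : Subsingleton V := by
        refine ⟨fun x y => ?_⟩
        apply B.ext_elem
        intro i
        exact (hne.false i).elim
      exact not_subsingleton V this
    exact Fintype.card_pos
  · let B0 : Module.Basis (Fin r) K (K ⊗[D] (Fin r → D)) :=
      (Pi.basisFun D (Fin r)).baseChange K
    let B1 : Module.Basis (Fin r) K V := B.reindex eb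
    have hα : α.baseChange K = (B0.equiv B1 (Equiv.refl _)).toLinearMap := by
      apply B0.ext
      intro i
      rw [LinearEquiv.coe_coe, Module.Basis.equiv_apply]
      simp only [B0, B1, Module.Basis.baseChange_apply, Pi.basisFun_apply,
        LinearMap.baseChange_tmul, Equiv.refl_apply, Module.Basis.reindex_apply, B,
        Module.Basis.mk_apply]
      rw [← hgs i]
      congr 1
      simp [α, Fintype.linearCombination_apply_single]
    rw [hα]
    exact (B0.equiv B1 (Equiv.refl _)).bijective

/-- If `α ⊗ K` is surjective then the fibre of the cokernel vanishes. -/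
theorem subsingleton_tensor_coker {r : ℕ} (α : (Fin r → D) →ₗ[D] G)
    (h : Function.Surjective (α.baseChange K)) :
    Subsingleton (K ⊗[D] (G ⧸ LinearMap.range α)) := by
  have hex : Function.Exact α (LinearMap.range α).mkQ := fun x => by
    rw [Submodule.mkQ_apply, Submodule.Quotient.mk_eq_zero]
    rfl
  have hex' := lTensor_exact K hex (Submodule.mkQ_surjective _)
  have hsurj : Function.Surjective ((LinearMap.range α).mkQ.lTensor K) :=
    LinearMap.lTensor_surjective K (Submodule.mkQ_surjective _)
  refine ⟨fun x y => ?_⟩
  obtain ⟨x', rfl⟩ := hsurj x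
  obtain ⟨y', rfl⟩ := hsurj y
  obtain ⟨x'', hx''⟩ := h x'
  obtain ⟨y'', hy''⟩ := h y'
  have e1 : (LinearMap.range α).mkQ.lTensor K x' = 0 := by
    rw [← hx'']
    exact (hex' _).mpr ⟨x'', rfl⟩
  have e2 : (LinearMap.range α).mkQ.lTensor K y' = 0 := by
    rw [← hy'']
    exact (hex' _).mpr ⟨y'', rfl⟩
  rw [e1, e2]

end Groth.Agent.H32.OneStepDimB
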