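import Mathlib
import Groth.Prelude.Def_FlatCA
import Groth.Agent.H32.OneStepDimA
import Groth.Agent.H32.OneStepBCC
import Groth.Agent.H32.OneStepBCF
import Groth.Agent.H31.Support

/-!
# Fibre modules along `S → C` over `R`: support dimension, and the generic point of an
irreducible fibre
-/

set_option autoImplicit false
universe u

open TensorProduct

namespace Groth.Agent.H32.OneStepDimC

attribute [local instance] Algebra.TensorProduct.rightAlgebra

section Tower

variable (R S C : Type u) [CommRing R] [CommRing S] [CommRing C] [Algebra R S] [Algebra R C]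
  [Algebra S C] [IsScalarTower R S C] (p : Ideal R) [p.IsPrime]
  (G : Type u) [AddCommGroup G] [Module C G] [Module S G] [IsScalarTower S C G]

/-- The support dimension of the fibre module does not depend on the ring over which it is
computed, for modules finite over the smaller ring. -/
theorem supportDim_fiberMod_eq_of_tower [Module.Finite S G] :
    Module.supportDim (p.Fiber S) (FlatCA.fiberMod p S G) =
      Module.supportDim (p.Fiber C) (FlatCA.fiberMod p C G) := by
  let ψ : (p.ResidueField ⊗[R] S) →ₐ[p.ResidueField] (p.ResidueField ⊗[R] C) :=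
    Algebra.TensorProduct.map (AlgHom.id p.ResidueField p.ResidueField)
      (IsScalarTower.toAlgHom R S C)
  letI iFF : Algebra (p.ResidueField ⊗[R] S) (p.ResidueField ⊗[R] C) := ψ.toRingHom.toAlgebra
  letI iSF : Algebra S (p.ResidueField ⊗[R] C) :=
    ((algebraMap C (p.ResidueField ⊗[R] C)).comp (algebraMap S C)).toAlgebra
  haveI : IsScalarTower S C (p.ResidueField ⊗[R] C) :=
    IsScalarTower.of_algebraMap_eq fun _ => rfl
  haveI : IsScalarTower S (p.ResidueField ⊗[R] S) (p.ResidueField ⊗[R] C) :=
    IsScalarTower.of_algebraMap_eq fun s => by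
      change _ = ψ (1 ⊗ₜ s)
      simp only [ψ, Algebra.TensorProduct.map_tmul, map_one]
      rfl
  haveI : IsScalarTower p.ResidueField (p.ResidueField ⊗[R] S) (p.ResidueField ⊗[R] C) :=
    IsScalarTower.of_algebraMap_eq fun c => (ψ.commutes c).symm
  haveI : Algebra.IsPushout S (p.ResidueField ⊗[R] S) C (p.ResidueField ⊗[R] C) :=
    Groth.Agent.H32.OneStepBCC.isPushout_of_isPushout_of_isPushout R p.ResidueField S
      (p.ResidueField ⊗[R] S) C (p.ResidueField ⊗[R] C)
  exact Groth.Agent.H32.OneStepDimA.supportDim_tensor_eq S C (p.ResidueField ⊗[R] S)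
    (p.ResidueField ⊗[R] C) G

end Tower

section Generic

variable (R D : Type u) [CommRing R] [CommRing D] [Algebra R D] (p : Ideal R) [p.IsPrime]

theorem fiberIdeal_map_eq_bot :
    FlatCA.fiberIdeal p (p.map (algebraMap R D)) = ⊥ := by
  unfold FlatCA.fiberIdeal
  rw [Ideal.map_map, eq_bot_iff, Ideal.map_le_iff_le_comap]
  intro a ha
  rw [Ideal.mem_comap, Ideal.mem_bot]
  change (1 : p.ResidueField) ⊗ₜ[R] (algebraMap R D a) = 0
  rw [Algebra.algebraMap_eq_smul_one, ← TensorProduct.smul_tmul, Algebra.smul_def, mul_one,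
    Ideal.algebraMap_residueField_eq_zero.mpr ha, TensorProduct.zero_tmul]

variable [hpD : (p.map (algebraMap R D)).IsPrime]

/-- If `pD` is prime and the fibre is nonzero, `pD` lies over `p`. -/
theorem liesOver_of_nontrivial_fiber [Nontrivial (p.Fiber D)] :
    (p.map (algebraMap R D)).LiesOver p := by
  refine ⟨le_antisymm Ideal.le_comap_map ?_⟩
  intro a ha
  by_contra hap
  have h1 : (1 : p.ResidueField) ⊗ₜ[R] (algebraMap R D a) ∈
      FlatCA.fiberIdeal p (p.map (algebraMap R D)) :=
    Ideal.mem_map_of_mem _ ha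
  rw [fiberIdeal_map_eq_bot, Ideal.mem_bot] at h1
  have hu : IsUnit (algebraMap R p.ResidueField a) := by
    rw [isUnit_iff_ne_zero, Ne, Ideal.algebraMap_residueField_eq_zero]
    exact hap
  have h2 : (1 : p.ResidueField) ⊗ₜ[R] (algebraMap R D a) =
      algebraMap p.ResidueField (p.Fiber D) (algebraMap R p.ResidueField a) := by
    rw [Algebra.algebraMap_eq_smul_one (A := D), ← TensorProduct.smul_tmul, Algebra.smul_def,
      mul_one]
    rfl
  have h3 : IsUnit ((1 : p.ResidueField) ⊗ₜ[R] (algebraMap R D a) : p.Fiber D) := by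
    rw [h2]; exact hu.map _
  rw [h1] at h3
  exact not_isUnit_zero h3

/-- The zero ideal of the fibre ring is the prime corresponding to `pD`. -/
theorem bot_isPrime_and_comap [Nontrivial (p.Fiber D)] :
    (⊥ : Ideal (p.Fiber D)).IsPrime ∧
      (⊥ : Ideal (p.Fiber D)).comap (algebraMap D (p.Fiber D)) = p.map (algebraMap R D) := by
  haveI := liesOver_of_nontrivial_fiber R D p
  obtain ⟨Q, hQ, hQc⟩ := Groth.Agent.H32.OneStepBCF.exists_prime_fiber p (p.map (algebraMap R D))
  have := Groth.Agent.H32.OneStepBCF.eq_fiberIdeal_of_comap_eq p _ Q hQc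
  rw [fiberIdeal_map_eq_bot] at this
  subst this
  exact ⟨hQ, hQc⟩

/-- The generic point of the fibre lies in the support of the fibre module of `X` iff
`κ(pD) ⊗ X` is nonzero. -/
theorem bot_mem_support_fiberMod_iff [Nontrivial (p.Fiber D)]
    (X : Type u) [AddCommGroup X] [Module D X] [Module.Finite D X]
    (hb : (⊥ : Ideal (p.Fiber D)).IsPrime) :
    (⟨⊥, hb⟩ : PrimeSpectrum (p.Fiber D)) ∈ Module.support (p.Fiber D) (FlatCA.fiberMod p D X) ↔
      Nontrivial ((p.map (algebraMap R D)).ResidueField ⊗[D] X) := by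
  have h1 : Module.support (p.Fiber D) (FlatCA.fiberMod p D X) =
      PrimeSpectrum.comap (algebraMap D (p.Fiber D)) ⁻¹' Module.support D X :=
    Groth.Agent.H31.support_baseChange_eq_preimage (R := D) (R' := p.Fiber D) X
  rw [h1, Set.mem_preimage]
  have h2 : PrimeSpectrum.comap (algebraMap D (p.Fiber D)) ⟨⊥, hb⟩ =
      ⟨p.map (algebraMap R D), hpD⟩ :=
    PrimeSpectrum.ext (bot_isPrime_and_comap R D p).2
  rw [h2, Module.mem_support_iff_nontrivial_residueField_tensorProduct]

end Generic

end Groth.Agent.H32.OneStepDimC
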