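import Mathlib
import Groth.Prelude.Def_FlatCA
import Groth.Agent.H32.ElemFPD
import Groth.Agent.H11.FibreBridge
import Groth.Agent.H11.FtDim
import Groth.Agent.S2768

/-!
# Fibres of a smooth algebra of relative dimension `n` have dimension at most `n`
-/

set_option autoImplicit false
universe u

open TensorProduct AlgebraicGeometry

namespace Groth.Agent.H32.OneStepDimD

attribute [local instance] Algebra.TensorProduct.rightAlgebra

theorem ringKrullDim_fiber_le (n : ℕ) (R D : Type u) [CommRing R] [CommRing D] [Algebra R D]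
    (h : FlatCA.SmoothRelDim n R D) (p : Ideal R) [p.IsPrime] [IsDomain (p.Fiber D)] :
    ringKrullDim (p.Fiber D) ≤ (n : WithBot ℕ∞) := by
  haveI : Algebra.FinitePresentation R D :=
    Groth.Agent.H32.ElemFPD.finitePresentation_of_smoothRelDim n R D h
  haveI : Algebra.FiniteType R D := inferInstance
  haveI : Algebra.FiniteType p.ResidueField (p.Fiber D) := inferInstance
  haveI hb : (⊥ : Ideal (p.Fiber D)).IsPrime := Ideal.isPrime_bot
  let q : Ideal D := (⊥ : Ideal (p.Fiber D)).comap (algebraMap D (p.Fiber D))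
  haveI : q.IsPrime := Ideal.comap_isPrime _ _
  let x : PrimeSpectrum D := ⟨q, inferInstance⟩
  have hp : (Spec.map (CommRingCat.ofHom (algebraMap R D))) x =
      (⟨p, inferInstance⟩ : PrimeSpectrum R) := by
    apply PrimeSpectrum.ext
    change q.comap (algebraMap R D) = p
    change ((⊥ : Ideal (p.Fiber D)).comap (algebraMap D (p.Fiber D))).comap (algebraMap R D) = p
    rw [Ideal.comap_comap, ← IsScalarTower.algebraMap_eq]
    exact ((⊥ : Ideal (p.Fiber D)).over_def p).symm
  obtain ⟨Q, hQ⟩ := Groth.Agent.H11.FibreBridge.exists_fibreDimAt_Spec_eq R D x ⟨p, inferInstance⟩ hp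
  haveI : SmoothOfRelativeDimension n (Spec.map (CommRingCat.ofHom (algebraMap R D))) := h
  have h1 := Groth.Agent.S2768.result n (Spec.map (CommRingCat.ofHom (algebraMap R D))) x
  rw [hQ] at h1
  have h2 := Groth.Agent.H11.FtDim.localDim_ge (k := p.ResidueField) Q
    (⊥ : Ideal (p.Fiber D)) bot_le
  rw [h1] at h2
  have h3 : ringKrullDim (p.Fiber D ⧸ (⊥ : Ideal (p.Fiber D))) = ringKrullDim (p.Fiber D) :=
    (RingEquiv.ringKrullDim (RingEquiv.quotientBot (p.Fiber D)))
  rw [← h3]
  exact h2

end Groth.Agent.H32.OneStepDimD
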