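import Mathlib
import Groth.Agent.H58.ProjResOf

/-!
# Propagating a property along the resolution built from chosen covers

A variant of `Groth.Agent.H58.ProjResOf.of_X_prop` in which the auxiliary property `P` is only
required to pass to the kernels of the chosen covers.
-/

set_option autoImplicit false
set_option linter.unusedSectionVars false

universe v u

open CategoryTheory CategoryTheory.Limits

namespace Groth.Agent.H32.ProjResProp

open Groth.Agent.H58.ProjResOf

variable {C : Type u} [Category.{v} C] [Abelian C]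
  (G : C → C) (p : ∀ Y : C, G Y ⟶ Y) [∀ Y, Epi (p Y)] [∀ Y, Projective (G Y)]

/-- the kernel of the differential `dd f` is the kernel of the chosen cover of `ker f`. -/
noncomputable def kernelDdIso {X Y : C} (f : X ⟶ Y) :
    kernel (dd G p f) ≅ kernel (p (kernel f)) :=
  kernelCompMono (p (kernel f)) (kernel.ι f)

set_option backward.isDefEq.respectTransparency.types false in
theorem ofComplex_X_prop' (Q P : C → Prop) (hQ : ∀ Y, P Y → Q (G Y))
    (hk : ∀ Y, P Y → P (kernel (p Y)))
    (hiso : ∀ {Y Y' : C}, (Y ≅ Y') → P Y → P Y') (Z : C) (hZ : P Z) (n : ℕ) :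
    Q ((ofComplex G p Z).X n) := by
  have hdd : ∀ {X Y : C} (f : X ⟶ Y), P (kernel f) → P (kernel (dd G p f)) := by
    intro X Y f hf
    exact hiso (kernelDdIso G p f).symm (hk _ hf)
  have key : ∀ n, P (kernel (ChainComplex.mkAux (G Z) (G (kernel (p Z)))
      (G (kernel (dd G p (p Z)))) (dd G p (p Z)) (dd G p (dd G p (p Z))) (by simp)
      (fun S => ⟨_, dd G p S.f, by simp⟩) n).f) ∧
      Q ((ChainComplex.mkAux (G Z) (G (kernel (p Z)))
      (G (kernel (dd G p (p Z)))) (dd G p (p Z)) (dd G p (dd G p (p Z))) (by simp)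
      (fun S => ⟨_, dd G p S.f, by simp⟩) n).X₁) ∧
      Q ((ChainComplex.mkAux (G Z) (G (kernel (p Z)))
      (G (kernel (dd G p (p Z)))) (dd G p (p Z)) (dd G p (dd G p (p Z))) (by simp)
      (fun S => ⟨_, dd G p S.f, by simp⟩) n).X₂) ∧
      Q ((ChainComplex.mkAux (G Z) (G (kernel (p Z)))
      (G (kernel (dd G p (p Z)))) (dd G p (p Z)) (dd G p (dd G p (p Z))) (by simp)
      (fun S => ⟨_, dd G p S.f, by simp⟩) n).X₃) := by
    intro n
    induction n with
    | zero =>
      have h1 : P (kernel (p Z)) := hk _ hZ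
      have h2 : P (kernel (dd G p (p Z))) := hdd _ h1
      have h3 : P (kernel (dd G p (dd G p (p Z)))) := hdd _ h2
      exact ⟨h3, hQ _ h2, hQ _ h1, hQ _ hZ⟩
    | succ n ih =>
      exact ⟨hdd _ ih.1, hQ _ ih.1, ih.2.1, ih.2.2.1⟩
  exact (key n).2.2.2

theorem of_X_prop' (Q P : C → Prop) (hQ : ∀ Y, P Y → Q (G Y))
    (hk : ∀ Y, P Y → P (kernel (p Y)))
    (hiso : ∀ {Y Y' : C}, (Y ≅ Y') → P Y → P Y') (Z : C) (hZ : P Z) (n : ℕ) :
    Q (((of G p Z).complex).X n) :=
  ofComplex_X_prop' G p Q P hQ hk hiso Z hZ n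

end Groth.Agent.H32.ProjResProp
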