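import Mathlib
import Groth.Agent.H32.ProjResProp
import Groth.Agent.H32.PCohC
import Groth.Agent.H89.FlatExt

/-!
# Resolutions by finite free modules for flat finitely presented modules
-/

set_option autoImplicit false

namespace Groth.Agent.H32.PCohRes

open CategoryTheory CategoryTheory.Limits

universe u

variable (A B : Type u) [CommRing A] [CommRing B] [Algebra A B]

/-- "finitely presented over `B` and flat over `A`", for objects of `ModuleCat B`. -/
def Pp (Y : ModuleCat.{u} B) : Prop :=
  Module.FinitePresentation B Y ∧
    @Module.Flat A Y _ _ (Module.compHom Y (algebraMap A B))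

variable {A B}

theorem Pp_of_iso {Y Y' : ModuleCat.{u} B} (e : Y ≅ Y') (h : Pp A B Y) : Pp A B Y' := by
  obtain ⟨hfp, hflat⟩ := h
  let _ : Module A Y := Module.compHom Y (algebraMap A B)
  let _ : Module A Y' := Module.compHom Y' (algebraMap A B)
  have : IsScalarTower A B Y := IsScalarTower.of_algebraMap_smul fun _ _ => rfl
  have : IsScalarTower A B Y' := IsScalarTower.of_algebraMap_smul fun _ _ => rfl
  have : Module.Flat A Y := hflat
  refine ⟨Module.FinitePresentation.of_equiv e.toLinearEquiv, ?_⟩
  exact Module.Flat.of_linearEquiv (e.symm.toLinearEquiv.restrictScalars A)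

theorem Pp_of (M : Type u) [AddCommGroup M] [Module B M] [inst : Module A M] [IsScalarTower A B M]
    [Module.FinitePresentation B M] [Module.Flat A M] : Pp A B (ModuleCat.of B M) := by
  refine ⟨inferInstanceAs (Module.FinitePresentation B M), ?_⟩
  have h : inst = Module.compHom M (algebraMap A B) :=
    Module.ext' _ _ fun a m => (algebraMap_smul B a m).symm
  change @Module.Flat A M _ _ (Module.compHom M (algebraMap A B))
  rw [← h]
  infer_instance

variable (A B)
variable [Algebra.FinitePresentation A B] [Module.Flat A B]

theorem exists_cover (Y : ModuleCat.{u} B) :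
    ∃ (G : ModuleCat.{u} B) (p : G ⟶ Y), Epi p ∧ Projective G ∧
      (Pp A B Y → (Module.Finite B G ∧ Module.Free B G) ∧ Pp A B (kernel p)) := by
  by_cases hY : Pp A B Y
  · obtain ⟨hfp, hflat⟩ := hY
    let _ : Module A Y := Module.compHom Y (algebraMap A B)
    have : IsScalarTower A B Y := IsScalarTower.of_algebraMap_smul fun _ _ => rfl
    have : Module.Flat A Y := hflat
    obtain ⟨n, f, hf, hker⟩ := Groth.Agent.H32.PCoh.exists_presentation_fp_ker A B Y
    refine ⟨ModuleCat.of B (Fin n → B), ModuleCat.ofHom f,
      (ModuleCat.epi_iff_surjective _).mpr hf, (IsProjective.iff_projective _).mp inferInstance,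
      fun _ => ⟨⟨inferInstanceAs (Module.Finite B (Fin n → B)),
        inferInstanceAs (Module.Free B (Fin n → B))⟩, ?_⟩⟩
    refine Pp_of_iso (ModuleCat.kernelIsoKer (ModuleCat.ofHom f)).symm ?_
    have hFflat : Module.Flat A (Fin n → B) := Module.Flat.trans A B (Fin n → B)
    have hKflat : Module.Flat A (LinearMap.ker f) :=
      Groth.Agent.H89.flat_of_exact_of_flat ((LinearMap.ker f).subtype.restrictScalars A)
        (f.restrictScalars A) Subtype.val_injective hf (LinearMap.exact_subtype_ker_map f)
    exact Pp_of (LinearMap.ker f)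
  · exact ⟨Projective.over Y, Projective.π Y, inferInstance, inferInstance, fun h => absurd h hY⟩

/-- **Finite free resolutions.** -/
theorem exists_resolution (M : Type u) [AddCommGroup M] [Module B M] [Module A M]
    [IsScalarTower A B M] [Module.FinitePresentation B M] [Module.Flat A M] :
    ∃ P : ProjectiveResolution (ModuleCat.of B M),
      ∀ n : ℕ, Module.Finite B (P.complex.X n) ∧ Module.Free B (P.complex.X n) := by
  choose G p hepi hproj hprop using exists_cover A B
  have : ∀ Y, Epi (p Y) := hepi
  have : ∀ Y, Projective (G Y) := hproj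
  refine ⟨Groth.Agent.H58.ProjResOf.of G p (ModuleCat.of B M), fun n => ?_⟩
  exact Groth.Agent.H32.ProjResProp.of_X_prop' G p
    (fun X => Module.Finite B X ∧ Module.Free B X) (Pp A B)
    (fun Y hY => (hprop Y hY).1) (fun Y hY => (hprop Y hY).2)
    (fun e h => Pp_of_iso e h) _ (Pp_of M) n

end Groth.Agent.H32.PCohRes
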