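import Mathlib

/-!
# A stably free invertible module is free

If `L` is an invertible module with `L × G ≃ G'` for finite free modules `G`, `G'`, then `L` is free.
-/

set_option autoImplicit false

namespace Groth.Agent.H32.StablyFreeInv

universe u

open TensorProduct

variable {S : Type u} [CommRing S] {L : Type u} [AddCommGroup L] [Module S L]
  [Module.Invertible S L]

/-- rank-one identity in an invertible module -/
theorem smul_comm_of_invertible (ψ : L →ₗ[S] S) (a b : L) : ψ a • b = ψ b • a := by
  have h := Module.Invertible.tmul_comm (R := S) (m₁ := a) (m₂ := b)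
  have h2 := congrArg (TensorProduct.lift ((LinearMap.lsmul S L) ∘ₗ ψ)) h
  simpa using h2

/-- `L × Sⁿ ≃ Sⁿ⁺¹` with `L` invertible implies `L` free. -/
theorem free_of_prod_equiv_pi (n : ℕ) (e : (L × (Fin n → S)) ≃ₗ[S] (Fin (n + 1) → S)) :
    Module.Free S L := by
  classical
  let r : L →ₗ[S] (Fin (n + 1) → S) := e.toLinearMap ∘ₗ LinearMap.inl S L (Fin n → S)
  let c : Fin n → (Fin (n + 1) → S) := fun j => e (0, Pi.single j 1)
  let φ : L →ₗ[S] S :=
    ((Matrix.detRowAlternating (R := S) (n := Fin (n + 1))).toMultilinearMap.toLinearMap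
      (Fin.cons 0 c) 0) ∘ₗ r
  have hφ : ∀ l, φ l =
      Matrix.det (Matrix.of (Fin.cons (r l) c : Fin (n + 1) → Fin (n + 1) → S)) := by
    intro l
    simp only [φ, LinearMap.coe_comp, Function.comp_apply, MultilinearMap.toLinearMap_apply,
      Fin.update_cons_zero]
    rfl
  have hdecomp : ∀ (l : L) (g : Fin n → S), e (l, g) = r l + ∑ j, g j • c j := by
    intro l g
    have h1 : (l, g) = (l, (0 : Fin n → S)) + ∑ j, g j • ((0 : L), (Pi.single j 1 : Fin n → S)) := by
      ext
      · simp [Prod.fst_sum]
      · rename_i x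
        simp [Prod.snd_sum, Pi.single_apply]
    rw [h1, map_add, map_sum]
    simp only [map_smul]
    rfl
  have hsurj : Function.Surjective φ := by
    rw [← LinearMap.range_eq_top]
    by_contra hne
    obtain ⟨m, hm, hle⟩ := Ideal.exists_le_maximal (LinearMap.range φ) hne
    letI : Field (S ⧸ m) := Ideal.Quotient.field m
    let q : S →+* (S ⧸ m) := Ideal.Quotient.mk m
    let red : (Fin (n + 1) → S) →ₗ[S] (Fin (n + 1) → S ⧸ m) :=
      (Ideal.Quotient.mkₐ S m).toLinearMap.compLeft (Fin (n + 1))
    have red_apply : ∀ v i, red v i = q (v i) := fun v i => rfl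
    have red_smul : ∀ (a : S) v, red (a • v) = q a • red v := by
      intro a v
      rw [map_smul]
      ext i
      simp only [Pi.smul_apply]
      rw [Algebra.smul_def]
      rfl
    have hprop : ∀ (i : Fin (n + 1)) (a b : L), r a i • r b = r b i • r a := by
      intro i a b
      have h1 := smul_comm_of_invertible ((LinearMap.proj i) ∘ₗ r) a b
      have h2 := congrArg r h1
      simpa using h2
    obtain ⟨l₀, hl₀⟩ : ∃ l₀ : L, ∀ l, red (r l) ∈ Submodule.span (S ⧸ m) {red (r l₀)} := by
      by_cases h0 : ∀ l, red (r l) = 0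
      · exact ⟨0, fun l => by rw [h0 l]; exact Submodule.zero_mem _⟩
      · push Not at h0
        obtain ⟨l₀, hl₀⟩ := h0
        obtain ⟨i, hi⟩ : ∃ i, red (r l₀) i ≠ 0 := by
          by_contra h
          push Not at h
          exact hl₀ (funext h)
        refine ⟨l₀, fun l => ?_⟩
        have h1 : red (r l₀) i • red (r l) = red (r l) i • red (r l₀) := by
          have := congrArg red (hprop i l₀ l)
          rwa [red_smul, red_smul] at this
        have h2 : red (r l) = (red (r l₀) i)⁻¹ • (red (r l) i • red (r l₀)) := by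
          rw [← h1, smul_smul, inv_mul_cancel₀ hi, one_smul]
        rw [h2]
        exact Submodule.smul_mem _ _ (Submodule.smul_mem _ _ (Submodule.mem_span_singleton_self _))
    let w : Fin (n + 1) → (Fin (n + 1) → S ⧸ m) :=
      fun i => red ((Fin.cons (r l₀) c : Fin (n + 1) → (Fin (n + 1) → S)) i)
    have hw0 : w 0 = red (r l₀) := rfl
    have hwsucc : ∀ j : Fin n, w j.succ = red (c j) := fun j => by simp [w]
    have hspan : ⊤ ≤ Submodule.span (S ⧸ m) (Set.range w) := by
      intro v _
      obtain ⟨v', rfl⟩ : ∃ v', red v' = v :=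
        ⟨fun i => (Ideal.Quotient.mk_surjective (v i)).choose,
          funext fun i => (Ideal.Quotient.mk_surjective (v i)).choose_spec⟩
      obtain ⟨⟨l, g⟩, rfl⟩ := e.surjective v'
      rw [hdecomp, map_add, map_sum]
      refine Submodule.add_mem _ ?_ (Submodule.sum_mem _ fun j _ => ?_)
      · refine Submodule.span_mono ?_ (hl₀ l)
        rintro _ rfl
        exact ⟨0, rfl⟩
      · rw [red_smul]
        exact Submodule.smul_mem _ _ (Submodule.subset_span ⟨j.succ, hwsucc j⟩)
    have hli : LinearIndependent (S ⧸ m) w :=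
      linearIndependent_of_top_le_span_of_card_eq_finrank hspan (by simp)
    have hunit : IsUnit (Matrix.of w) := Matrix.linearIndependent_rows_iff_isUnit.mp hli
    have hdet : IsUnit (Matrix.det (Matrix.of w)) := (Matrix.isUnit_iff_isUnit_det _).mp hunit
    have hq : Matrix.det (Matrix.of w) = q (φ l₀) := by
      rw [hφ, RingHom.map_det]
      rfl
    have hmem : φ l₀ ∈ m := hle ⟨l₀, rfl⟩
    rw [hq, Ideal.Quotient.eq_zero_iff_mem.mpr hmem] at hdet
    exact not_isUnit_zero hdet
  have hbij := Module.Invertible.bijective_of_surjective hsurj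
  exact Module.Free.of_equiv (LinearEquiv.ofBijective φ hbij).symm

/-- A stably free invertible module is free. -/
theorem free_of_prod_equiv {G G' : Type u} [AddCommGroup G] [Module S G] [Module.Free S G]
    [Module.Finite S G] [AddCommGroup G'] [Module S G'] [Module.Free S G'] [Module.Finite S G']
    (e : (L × G) ≃ₗ[S] G') : Module.Free S L := by
  rcases subsingleton_or_nontrivial S with h | h
  · have : Subsingleton L := Module.subsingleton S L
    exact Module.Free.of_subsingleton S L
  have hrank : Module.finrank S G' = Module.finrank S G + 1 := by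
    obtain ⟨m, hm⟩ := Ideal.exists_maximal S
    letI : Field (S ⧸ m) := Ideal.Quotient.field m
    have e1 : (S ⧸ m) ⊗[S] (L × G) ≃ₗ[S ⧸ m] (S ⧸ m) ⊗[S] G' := e.baseChange S (S ⧸ m) _ _
    have e2 : (S ⧸ m) ⊗[S] (L × G) ≃ₗ[S ⧸ m] ((S ⧸ m) ⊗[S] L) × ((S ⧸ m) ⊗[S] G) :=
      TensorProduct.prodRight S (S ⧸ m) (S ⧸ m) L G
    have h1 := e1.finrank_eq
    have h2 := e2.finrank_eq
    rw [Module.finrank_prod, Module.finrank_baseChange (R := S ⧸ m) (S := S) (M' := G),
      Module.Invertible.finrank_eq_one (S ⧸ m) ((S ⧸ m) ⊗[S] L)] at h2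
    rw [h2, Module.finrank_baseChange (R := S ⧸ m) (S := S) (M' := G')] at h1
    omega
  let b := Module.finBasis S G
  let b' := Module.finBasis S G'
  have e3 : G ≃ₗ[S] (Fin (Module.finrank S G) → S) := b.equivFun
  have e4 : G' ≃ₗ[S] (Fin (Module.finrank S G + 1) → S) :=
    b'.equivFun.trans (LinearEquiv.funCongrLeft S S (finCongr hrank.symm))
  exact free_of_prod_equiv_pi (Module.finrank S G)
    (((LinearEquiv.refl S L).prodCongr e3.symm).trans (e.trans e4))

end Groth.Agent.H32.StablyFreeInv
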