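import Mathlib

/-!
# Homogeneous components of vectors of polynomials: basic lemmas

Auxiliary lemmas for the finite presentation theorem over valuation rings.
-/

set_option autoImplicit false

namespace Groth.Agent.H32.ValFP

open MvPolynomial

universe u v w

variable {V : Type u} [CommRing V] {τ : Type v} {ι : Type w}

attribute [local instance] MvPolynomial.gradedAlgebra in
/-- The homogeneous components of a product whose left factor is homogeneous. -/
lemma hc_mul_of_isHomogeneous {c p : MvPolynomial τ V} {i : ℕ} (hc : c.IsHomogeneous i) (d : ℕ) :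
    homogeneousComponent d (c * p) = if i ≤ d then c * homogeneousComponent (d - i) p else 0 := by
  have h1 : ∀ (q : MvPolynomial τ V) (n : ℕ),
      ((DirectSum.decompose (homogeneousSubmodule τ V) q n : homogeneousSubmodule τ V n) :
        MvPolynomial τ V) = homogeneousComponent n q := fun q n =>
    decomposition.decompose'_apply q n
  rw [← h1, ← h1]
  have hc' : c ∈ homogeneousSubmodule τ V i := hc
  exact DirectSum.coe_decompose_mul_of_left_mem (homogeneousSubmodule τ V) d hc'

/-- A polynomial is the sum of its homogeneous components up to any bound on the total degree. -/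
lemma sum_hc_of_le (φ : MvPolynomial τ V) {D : ℕ} (hD : φ.totalDegree ≤ D) :
    (∑ i ∈ Finset.range (D + 1), homogeneousComponent i φ) = φ := by
  ext1 d
  rw [coeff_sum]
  simp only [coeff_homogeneousComponent]
  rw [Finset.sum_ite_eq]
  split_ifs with h
  · rfl
  · symm
    apply coeff_eq_zero_of_totalDegree_lt
    rw [Finset.mem_range, not_lt] at h
    have : d.degree = ∑ i ∈ d.support, d i := rfl
    omega

/-- Homogeneous components commute with change of coefficients. -/
lemma map_hc {W : Type*} [CommRing W] (f : V →+* W) (d : ℕ) (p : MvPolynomial τ V) :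
    map f (homogeneousComponent d p) = homogeneousComponent d (map f p) := by
  ext1 e
  rw [coeff_map, coeff_homogeneousComponent, coeff_homogeneousComponent, coeff_map]
  split_ifs <;> simp

/-- Componentwise homogeneous component of a vector of polynomials. -/
noncomputable def hcF (d : ℕ) : (ι → MvPolynomial τ V) →ₗ[V] (ι → MvPolynomial τ V) :=
  (homogeneousComponent d : MvPolynomial τ V →ₗ[V] MvPolynomial τ V).compLeft ι

@[simp] lemma hcF_apply (d : ℕ) (G : ι → MvPolynomial τ V) (j : ι) :
    hcF d G j = homogeneousComponent d (G j) := rfl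

/-- A vector of polynomials all of whose entries are homogeneous of degree `d`. -/
def IsHomF (d : ℕ) (G : ι → MvPolynomial τ V) : Prop := ∀ j, (G j).IsHomogeneous d

lemma isHomF_hcF (d : ℕ) (G : ι → MvPolynomial τ V) : IsHomF d (hcF d G) :=
  fun j => homogeneousComponent_isHomogeneous d (G j)

lemma hcF_of_isHomF {e : ℕ} {G : ι → MvPolynomial τ V} (hG : IsHomF e G) (d : ℕ) :
    hcF d G = if d = e then G else 0 := by
  funext j
  rw [hcF_apply, homogeneousComponent_of_mem (hG j)]
  split_ifs <;> rfl

lemma hcF_smul_of_isHomogeneous {c : MvPolynomial τ V} {i : ℕ} (hc : c.IsHomogeneous i) (d : ℕ)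
    (G : ι → MvPolynomial τ V) :
    hcF d (c • G) = if i ≤ d then c • hcF (d - i) G else 0 := by
  funext j
  rw [hcF_apply, Pi.smul_apply, smul_eq_mul, hc_mul_of_isHomogeneous hc]
  split_ifs <;> rfl

lemma sum_hcF_of_le [Finite ι] (G : ι → MvPolynomial τ V) :
    ∃ D : ℕ, (∑ i ∈ Finset.range (D + 1), hcF i G) = G := by
  classical
  cases nonempty_fintype ι
  refine ⟨Finset.univ.sup fun j => (G j).totalDegree, ?_⟩
  funext j
  rw [Finset.sum_apply]
  simp only [hcF_apply]
  exact sum_hc_of_le (G j) (Finset.le_sup (f := fun j => (G j).totalDegree) (Finset.mem_univ j))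

/-- The span of a set of homogeneous vectors is stable under taking homogeneous components. -/
lemma hcF_mem_span {X : Set (ι → MvPolynomial τ V)} (hX : ∀ G ∈ X, ∃ e, IsHomF e G)
    {G : ι → MvPolynomial τ V} (hG : G ∈ Submodule.span (MvPolynomial τ V) X) (d : ℕ) :
    hcF d G ∈ Submodule.span (MvPolynomial τ V) X := by
  induction hG using Submodule.span_induction generalizing d with
  | mem G hG =>
    obtain ⟨e, he⟩ := hX G hG
    rw [hcF_of_isHomF he]
    split_ifs
    · exact Submodule.subset_span hG
    · exact Submodule.zero_mem _
  | zero => rw [map_zero]; exact Submodule.zero_mem _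
  | add G G' _ _ h h' => rw [map_add]; exact Submodule.add_mem _ (h d) (h' d)
  | smul c G _ h =>
    have hc : c = ∑ i ∈ Finset.range (c.totalDegree + 1), homogeneousComponent i c :=
      (sum_homogeneousComponent c).symm
    rw [hc, Finset.sum_smul, map_sum]
    refine Submodule.sum_mem _ fun i _ => ?_
    rw [hcF_smul_of_isHomogeneous (homogeneousComponent_isHomogeneous i c)]
    split_ifs
    · exact Submodule.smul_mem _ _ (h _)
    · exact Submodule.zero_mem _

end Groth.Agent.H32.ValFP
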