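import Mathlib
import Groth.Agent.H32.ValFPBasic
import Groth.Agent.H36.BezoutFP

/-!
# Homogeneous saturated submodules over a valuation ring are finitely generated

Let `V` be a valuation ring, `S = V[x_τ]` a polynomial ring in finitely many variables and
`J ⊆ S^ι` a submodule which is stable under taking homogeneous components and `V`-saturated
(`a • G ∈ J` with `a ≠ 0` implies `G ∈ J`).  Then `J` is finitely generated.
-/

set_option autoImplicit false

namespace Groth.Agent.H32.ValFP

open MvPolynomial

universe u

section dvd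

variable {V : Type u} [CommRing V] [IsDomain V] [ValuationRing V]

/-- In a valuation ring every nonempty finite set contains an element dividing all the others. -/
lemma exists_mem_dvd_all (s : Finset V) (hs : s.Nonempty) : ∃ a ∈ s, ∀ b ∈ s, a ∣ b := by
  classical
  induction hs using Finset.Nonempty.cons_induction with
  | singleton a => exact ⟨a, Finset.mem_singleton_self a, fun b hb => by
      rw [Finset.mem_singleton] at hb; rw [hb]⟩
  | cons x s hx hs ih =>
    obtain ⟨a, has, ha⟩ := ih
    rcases ValuationRing.dvd_total a x with h | h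
    · refine ⟨a, Finset.mem_cons.mpr (Or.inr has), fun b hb => ?_⟩
      rcases Finset.mem_cons.mp hb with rfl | hb
      · exact h
      · exact ha b hb
    · refine ⟨x, Finset.mem_cons_self x s, fun b hb => ?_⟩
      rcases Finset.mem_cons.mp hb with rfl | hb
      · exact dvd_rfl
      · exact h.trans (ha b hb)

variable {τ : Type u} {ι : Type} [Finite ι]

/-- A vector of polynomials all of whose coefficients lie in the maximal ideal is a multiple of
a single element of the maximal ideal. -/
lemma exists_C_smul_eq (H : ι → MvPolynomial τ V)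
    (hH : ∀ j e, coeff e (H j) ∈ IsLocalRing.maximalIdeal V) :
    ∃ a ∈ IsLocalRing.maximalIdeal V, ∃ H' : ι → MvPolynomial τ V, H = (C a : MvPolynomial τ V) • H' := by
  classical
  cases nonempty_fintype ι
  set s : Finset V := Finset.univ.biUnion fun j => (H j).coeffs with hs
  by_cases hne : s.Nonempty
  · obtain ⟨a, has, ha⟩ := exists_mem_dvd_all s hne
    have ham : a ∈ IsLocalRing.maximalIdeal V := by
      rw [hs, Finset.mem_biUnion] at has
      obtain ⟨j, -, hj⟩ := has
      rw [mem_coeffs_iff] at hj
      obtain ⟨e, -, rfl⟩ := hj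
      exact hH j e
    have hdvd : ∀ j, C a ∣ H j := by
      intro j
      rw [C_dvd_iff_dvd_coeff]
      intro e
      by_cases he : coeff e (H j) = 0
      · rw [he]; exact dvd_zero a
      · apply ha
        rw [hs, Finset.mem_biUnion]
        exact ⟨j, Finset.mem_univ j, coeff_mem_coeffs _ he⟩
    choose H' hH' using hdvd
    exact ⟨a, ham, H', funext fun j => by rw [Pi.smul_apply, smul_eq_mul, hH' j]⟩
  · refine ⟨0, Ideal.zero_mem _, 0, ?_⟩
    rw [Finset.not_nonempty_iff_eq_empty] at hne
    funext j
    rw [smul_zero, Pi.zero_apply]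
    ext1 e
    rw [coeff_zero]
    by_contra he
    have : coeff e (H j) ∈ s := by
      rw [hs, Finset.mem_biUnion]
      exact ⟨j, Finset.mem_univ j, coeff_mem_coeffs _ he⟩
    rw [hne] at this
    exact absurd this (Finset.notMem_empty _)

end dvd

section main

variable {V : Type u} [CommRing V] [IsDomain V] [ValuationRing V]
variable {τ : Type u} [Finite τ] {ι : Type} [Finite ι]

/-- Reduction modulo the maximal ideal on polynomials. -/
noncomputable abbrev red : MvPolynomial τ V →+* MvPolynomial τ (IsLocalRing.ResidueField V) :=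
  map (IsLocalRing.residue V)

instance : RingHomSurjective (red (V := V) (τ := τ)) :=
  ⟨map_surjective _ IsLocalRing.residue_surjective⟩

/-- Reduction modulo the maximal ideal on vectors of polynomials. -/
noncomputable def redF : (ι → MvPolynomial τ V) →ₛₗ[red (V := V) (τ := τ)]
    (ι → MvPolynomial τ (IsLocalRing.ResidueField V)) where
  toFun G j := red (G j)
  map_add' G G' := funext fun j => map_add _ _ _
  map_smul' c G := funext fun j => by
    simp only [Pi.smul_apply, smul_eq_mul, map_mul]

omit [Finite τ] [Finite ι] in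
@[simp] lemma redF_apply (G : ι → MvPolynomial τ V) (j : ι) :
    redF G j = map (IsLocalRing.residue V) (G j) := rfl

omit [Finite τ] [Finite ι] in
lemma redF_hcF (d : ℕ) (G : ι → MvPolynomial τ V) : redF (hcF d G) = hcF d (redF G) := by
  funext j
  simp only [redF_apply, hcF_apply, map_hc]

/-- **Graded finiteness theorem.**  Over a valuation ring, a submodule of a finite free module
over a polynomial ring in finitely many variables which is stable under homogeneous components
and saturated with respect to the nonzero elements of the base is finitely generated. -/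
theorem fg_of_homogeneous_saturated
    (J : Submodule (MvPolynomial τ V) (ι → MvPolynomial τ V))
    (hhom : ∀ G ∈ J, ∀ d, hcF d G ∈ J)
    (hsat : ∀ a : V, a ≠ 0 → ∀ G : ι → MvPolynomial τ V,
      (C a : MvPolynomial τ V) • G ∈ J → G ∈ J) : J.FG := by
  classical
  cases nonempty_fintype ι
  let Hset : Set (ι → MvPolynomial τ V) := {G | G ∈ J ∧ ∃ d, IsHomF d G}
  have hfg : (Submodule.span (MvPolynomial τ (IsLocalRing.ResidueField V))
      (redF '' Hset)).FG := IsNoetherian.noetherian _
  obtain ⟨T, hT, hTspan⟩ := (Submodule.fg_span_iff_fg_span_finset_subset _).mp hfg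
  obtain ⟨T', hT', rfl⟩ := Finset.subset_set_image_iff.mp hT
  set J' := Submodule.span (MvPolynomial τ V) (T' : Set (ι → MvPolynomial τ V)) with hJ'
  have hJ'J : J' ≤ J := Submodule.span_le.mpr fun G hG => (hT' hG).1
  have hT'hom : ∀ G ∈ (T' : Set (ι → MvPolynomial τ V)), ∃ e, IsHomF e G :=
    fun G hG => (hT' hG).2
  -- key claim: homogeneous elements of `J` lie in `J'`
  have key : ∀ d, ∀ G ∈ J, IsHomF d G → G ∈ J' := by
    intro d
    let Wd : Submodule V (ι → MvPolynomial τ V) :=
      Submodule.pi Set.univ fun _ => homogeneousSubmodule τ V d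
    have hWd : ∀ G, G ∈ Wd ↔ IsHomF d G := by
      intro G
      simp only [Wd, Submodule.mem_pi, Set.mem_univ, forall_true_left, mem_homogeneousSubmodule,
        IsHomF]
    let Jd : Submodule V (ι → MvPolynomial τ V) := J.restrictScalars V ⊓ Wd
    let J'd : Submodule V (ι → MvPolynomial τ V) := J'.restrictScalars V ⊓ Wd
    suffices h : Jd ≤ J'd from fun G hG hGd => (h ⟨hG, (hWd G).mpr hGd⟩).1
    -- `Jd` is finitely generated
    have hJdfg : Jd.FG := by
      have hWdfg : Wd.FG := Submodule.fg_pi fun _ => homogeneousSubmodule_fg τ V d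
      have : Module.Finite V Wd := Module.Finite.iff_fg.mpr hWdfg
      let Kd : Submodule V Wd := Jd.comap Wd.subtype
      have : Module.IsTorsionFree V (Wd ⧸ Kd) := by
        refine ⟨fun a ha => ?_⟩
        intro x y hxy
        obtain ⟨x, rfl⟩ := Submodule.Quotient.mk_surjective _ x
        obtain ⟨y, rfl⟩ := Submodule.Quotient.mk_surjective _ y
        have hxy' : a • (Submodule.Quotient.mk x : Wd ⧸ Kd) = a • Submodule.Quotient.mk y := hxy
        rw [← Submodule.Quotient.mk_smul, ← Submodule.Quotient.mk_smul,
          Submodule.Quotient.eq, ← smul_sub] at hxy'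
        rw [Submodule.Quotient.eq]
        have h1 : (a • ((x - y : Wd) : ι → MvPolynomial τ V)) ∈ J := hxy'.1
        have h2 : (a • ((x - y : Wd) : ι → MvPolynomial τ V)) =
            (C a : MvPolynomial τ V) • ((x - y : Wd) : ι → MvPolynomial τ V) := by
          funext j
          simp only [Pi.smul_apply, smul_eq_mul, smul_eq_C_mul]
        rw [h2] at h1
        exact ⟨hsat a ha.ne_zero _ h1, (x - y).2⟩
      have : Module.Free V (Wd ⧸ Kd) := Groth.Agent.H36.free_of_finite_of_isTorsionFree V _
      have : Module.FinitePresentation V (Wd ⧸ Kd) := Module.finitePresentation_of_projective V _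
      have hker : (LinearMap.ker Kd.mkQ).FG :=
        Module.FinitePresentation.fg_ker Kd.mkQ (Submodule.mkQ_surjective _)
      rw [Submodule.ker_mkQ] at hker
      have hmap : Kd.map Wd.subtype = Jd := by
        rw [Submodule.map_comap_subtype]
        exact inf_eq_right.mpr inf_le_right
      rw [← hmap]
      exact hker.map _
    refine Submodule.le_of_le_smul_of_le_jacobson_bot hJdfg
      (IsLocalRing.maximalIdeal_le_jacobson ⊥) ?_
    rintro G ⟨hGJ, hGW⟩
    have hGH : G ∈ Hset := ⟨hGJ, d, (hWd G).mp hGW⟩
    have h1 : redF G ∈ Submodule.span (MvPolynomial τ (IsLocalRing.ResidueField V))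
        (redF '' Hset) := Submodule.subset_span ⟨G, hGH, rfl⟩
    rw [hTspan, Finset.coe_image, ← Submodule.map_span] at h1
    obtain ⟨G', hG', hGG'⟩ := h1
    set G'' := hcF d G' with hG''
    have hG''J' : G'' ∈ J' := hcF_mem_span hT'hom hG' d
    have hG''W : G'' ∈ Wd := (hWd _).mpr (isHomF_hcF d G')
    have hred : redF G'' = redF G := by
      rw [hG'', redF_hcF, hGG', ← redF_hcF, hcF_of_isHomF ((hWd G).mp hGW), if_pos rfl]
    set H := G - G'' with hH
    have hHJ : H ∈ J := J.sub_mem hGJ (hJ'J hG''J')
    have hHW : H ∈ Wd := Wd.sub_mem hGW hG''W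
    have hHred : ∀ j e, coeff e (H j) ∈ IsLocalRing.maximalIdeal V := by
      intro j e
      have h0 : redF H = 0 := by rw [hH, map_sub, hred, sub_self]
      have h1 := congrArg (coeff e) (congrFun h0 j)
      rw [redF_apply, coeff_map, Pi.zero_apply, coeff_zero] at h1
      exact (IsLocalRing.residue_eq_zero_iff _).mp h1
    obtain ⟨a, ham, H', hH'⟩ := exists_C_smul_eq H hHred
    have hG : G = G'' + H := by rw [hH]; abel
    rw [hG]
    refine Submodule.add_mem_sup ⟨hG''J', hG''W⟩ ?_
    by_cases ha0 : a = 0
    · have : H = 0 := by rw [hH', ha0, map_zero, zero_smul]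
      rw [this]
      exact Submodule.zero_mem _
    · have hH'J : H' ∈ J := hsat a ha0 H' (hH' ▸ hHJ)
      have hH'W : H' ∈ Wd := by
        rw [hWd]
        intro j e he
        have hj : (H j).IsHomogeneous d := (hWd H).mp hHW j
        apply hj
        rw [hH', Pi.smul_apply, smul_eq_mul, coeff_C_mul]
        exact mul_ne_zero ha0 he
      have : H = a • H' := by
        rw [hH']
        funext j
        simp only [Pi.smul_apply, smul_eq_mul, smul_eq_C_mul]
      rw [this]
      exact Submodule.smul_mem_smul ham ⟨hH'J, hH'W⟩
  refine ⟨T', le_antisymm hJ'J ?_⟩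
  intro G hG
  obtain ⟨D, hD⟩ := sum_hcF_of_le G
  rw [← hD]
  exact Submodule.sum_mem _ fun i _ => key i _ (hhom G hG i) (isHomF_hcF i G)

end main

end Groth.Agent.H32.ValFP
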