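import Mathlib
import Groth.Agent.H32.ValFPGraded

/-!
# Saturated submodules of finite free modules over polynomial rings over a valuation ring

Let `V` be a valuation ring, `P = V[x_σ]` a polynomial ring in finitely many variables and
`N ⊆ P^ι` a `V`-saturated submodule.  Then `N` is finitely generated (Nagata; Raynaud–Gruson
3.4.6 in the case of a valuation ring).  The proof homogenizes and applies the graded theorem.
-/

set_option autoImplicit false

namespace Groth.Agent.H32.ValFP

open MvPolynomial

universe u

section dehom

variable {V : Type u} [CommRing V] {σ : Type u} {ι : Type}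

/-- Dehomogenization: set the extra variable `none` to `1`. -/
noncomputable def dehom : MvPolynomial (Option σ) V →ₐ[V] MvPolynomial σ V :=
  aeval fun o : Option σ => o.elim 1 X

@[simp] lemma dehom_X_none : dehom (V := V) (σ := σ) (X none) = 1 := by
  simp [dehom]

@[simp] lemma dehom_rename_some (p : MvPolynomial σ V) : dehom (rename some p) = p := by
  rw [dehom, aeval_rename]
  have : ((fun o : Option σ => o.elim (1 : MvPolynomial σ V) X) ∘ some) = X := rfl
  rw [this, aeval_X_left, AlgHom.id_apply]

lemma dehom_surjective : Function.Surjective (dehom (V := V) (σ := σ)) :=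
  fun p => ⟨rename some p, dehom_rename_some p⟩

instance : RingHomSurjective ((dehom (V := V) (σ := σ)).toRingHom) := ⟨dehom_surjective⟩

/-- Dehomogenization on vectors of polynomials. -/
noncomputable def dehomF : (ι → MvPolynomial (Option σ) V) →ₛₗ[(dehom (V := V) (σ := σ)).toRingHom]
    (ι → MvPolynomial σ V) where
  toFun G j := dehom (G j)
  map_add' G G' := funext fun j => map_add _ _ _
  map_smul' c G := funext fun j => by
    simp only [Pi.smul_apply, smul_eq_mul, map_mul]
    rfl

@[simp] lemma dehomF_apply (G : ι → MvPolynomial (Option σ) V) (j : ι) :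
    dehomF G j = dehom (G j) := rfl

/-- Homogenization to degree `D`. -/
noncomputable def homog (D : ℕ) (p : MvPolynomial σ V) : MvPolynomial (Option σ) V :=
  ∑ i ∈ Finset.range (D + 1), rename some (homogeneousComponent i p) * X none ^ (D - i)

lemma homog_isHomogeneous (D : ℕ) (p : MvPolynomial σ V) : (homog D p).IsHomogeneous D := by
  refine IsHomogeneous.sum _ _ _ fun i hi => ?_
  have hi' : i + (D - i) = D := by
    have := Finset.mem_range.mp hi
    omega
  have h1 : (rename (some : σ → Option σ) (homogeneousComponent i p)).IsHomogeneous i :=
    (homogeneousComponent_isHomogeneous i p).rename_isHomogeneous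
  have h2 : (X (none : Option σ) ^ (D - i) : MvPolynomial (Option σ) V).IsHomogeneous (D - i) :=
    isHomogeneous_X_pow none (D - i)
  have := h1.mul h2
  rwa [hi'] at this

lemma dehom_homog {D : ℕ} {p : MvPolynomial σ V} (hD : p.totalDegree ≤ D) :
    dehom (homog D p) = p := by
  rw [homog, map_sum]
  simp only [map_mul, map_pow, dehom_X_none, one_pow, mul_one, dehom_rename_some]
  exact sum_hc_of_le p hD

end dehom

section main

variable {V : Type u} [CommRing V] [IsDomain V] [ValuationRing V]
variable {σ : Type u} [Finite σ] {ι : Type} [Finite ι]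

/-- **Nagata's theorem, module form over a polynomial ring.**  Over a valuation ring `V`, a
`V`-saturated submodule of a finite free module over `V[x_1, …, x_n]` is finitely generated. -/
theorem fg_of_saturated (N : Submodule (MvPolynomial σ V) (ι → MvPolynomial σ V))
    (hsat : ∀ a : V, a ≠ 0 → ∀ G : ι → MvPolynomial σ V,
      (C a : MvPolynomial σ V) • G ∈ N → G ∈ N) : N.FG := by
  classical
  cases nonempty_fintype ι
  -- the homogenized submodule
  let J : Submodule (MvPolynomial (Option σ) V) (ι → MvPolynomial (Option σ) V) :=
    { carrier := {G | ∀ d, dehomF (hcF d G) ∈ N}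
      zero_mem' := fun d => by
        rw [map_zero, map_zero]
        exact N.zero_mem
      add_mem' := fun {G G'} hG hG' d => by
        rw [map_add, map_add]
        exact N.add_mem (hG d) (hG' d)
      smul_mem' := fun c G hG d => by
        have hc : c = ∑ i ∈ Finset.range (c.totalDegree + 1), homogeneousComponent i c :=
          (sum_homogeneousComponent c).symm
        rw [hc, Finset.sum_smul, map_sum, map_sum]
        refine N.sum_mem fun i _ => ?_
        rw [hcF_smul_of_isHomogeneous (homogeneousComponent_isHomogeneous i c)]
        split_ifs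
        · rw [map_smulₛₗ]
          exact N.smul_mem _ (hG _)
        · rw [map_zero]
          exact N.zero_mem }
  have hJmem : ∀ G, G ∈ J ↔ ∀ d, dehomF (hcF d G) ∈ N := fun G => Iff.rfl
  have hJhom : ∀ G ∈ J, ∀ d, hcF d G ∈ J := by
    intro G hG d e
    rw [hcF_of_isHomF (isHomF_hcF d G)]
    split_ifs
    · exact hG d
    · rw [map_zero]
      exact N.zero_mem
  have hJsat : ∀ a : V, a ≠ 0 → ∀ G : ι → MvPolynomial (Option σ) V,
      (C a : MvPolynomial (Option σ) V) • G ∈ J → G ∈ J := by
    intro a ha G hG d
    have h1 := hG d
    have h2 : (C a : MvPolynomial (Option σ) V) • G = a • G := by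
      funext j
      simp only [Pi.smul_apply, smul_eq_mul, smul_eq_C_mul]
    rw [h2, map_smul] at h1
    have h3 : dehomF (a • hcF d G) = (C a : MvPolynomial σ V) • dehomF (hcF d G) := by
      funext j
      simp only [dehomF_apply, Pi.smul_apply, smul_eq_mul, smul_eq_C_mul, map_mul]
      congr 1
      exact (dehom (V := V) (σ := σ)).commutes a
    rw [h3] at h1
    exact hsat a ha _ h1
  have hJfg : J.FG := fg_of_homogeneous_saturated J hJhom hJsat
  have hmap : J.map dehomF = N := by
    apply le_antisymm
    · rintro _ ⟨G, hG, rfl⟩
      obtain ⟨D, hD⟩ := sum_hcF_of_le G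
      rw [← hD, map_sum]
      exact N.sum_mem fun i _ => hG i
    · intro f hf
      set D := Finset.univ.sup fun j => (f j).totalDegree with hD
      let G : ι → MvPolynomial (Option σ) V := fun j => homog D (f j)
      have hGhom : IsHomF D G := fun j => homog_isHomogeneous D (f j)
      have hGf : dehomF G = f := by
        funext j
        exact dehom_homog (Finset.le_sup (f := fun j => (f j).totalDegree) (Finset.mem_univ j))
      refine ⟨G, ?_, hGf⟩
      intro d
      rw [hcF_of_isHomF hGhom]
      split_ifs
      · rw [hGf]; exact hf
      · rw [map_zero]; exact N.zero_mem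
  rw [← hmap]
  exact hJfg.map _

end main

end Groth.Agent.H32.ValFP
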