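import Mathlib
import Groth.Agent.H32.ValFPAffine

/-!
# Flat finite modules over essentially finite type algebras over a valuation ring
are finitely presented

Nagata's theorem (Raynaud–Gruson 3.4.6 for valuation rings): let `A` be a valuation ring, `B` an
`A`-algebra essentially of finite type and `M` a finite `B`-module which is flat over `A`.  Then
`M` is a finitely presented `B`-module.
-/

set_option autoImplicit false

namespace Groth.Agent.H32.ValFP

open MvPolynomial

universe u

section frac

variable {P B M : Type*} [CommRing P] [CommRing B] [Algebra P B] [AddCommGroup M] [Module B M]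
  [Module P M] [IsScalarTower P B M]

/-- If every element of `B` is a fraction of elements coming from `P` and the `P`-linear relations
between a finite family of elements of a `B`-module are finitely generated, then so are the
`B`-linear relations. -/
theorem fg_ker_of_frac {n : ℕ}
    (hfrac : ∀ b : B, ∃ p t : P, IsUnit (algebraMap P B t) ∧ algebraMap P B t * b = algebraMap P B p)
    (m : Fin n → M) (h : (LinearMap.ker (Fintype.linearCombination P m)).FG) :
    (LinearMap.ker (Fintype.linearCombination B m)).FG := by
  classical
  set g := Fintype.linearCombination P m with hg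
  set f := Fintype.linearCombination B m with hf
  let ψF : (Fin n → P) →ₗ[P] (Fin n → B) := (Algebra.linearMap P B).compLeft (Fin n)
  have hfψ : ∀ y, f (ψF y) = g y := by
    intro y
    simp only [hf, hg, Fintype.linearCombination_apply, ψF, LinearMap.compLeft_apply,
      Function.comp_apply, Algebra.linearMap_apply, algebraMap_smul]
  obtain ⟨X, hX⟩ := h
  have hker : LinearMap.ker f = Submodule.span B (ψF '' (X : Set (Fin n → P))) := by
    apply le_antisymm
    · intro x hx
      choose p t ht hpt using fun i => hfrac (x i)
      set u : P := ∏ i, t i with hu
      have huunit : IsUnit (algebraMap P B u) := by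
        rw [hu, map_prod]
        exact IsUnit.prod_univ_iff.mpr fun i => ht i
      let y : Fin n → P := fun i => (∏ j ∈ Finset.univ.erase i, t j) * p i
      have hy : ψF y = algebraMap P B u • x := by
        funext i
        simp only [ψF, LinearMap.compLeft_apply, Function.comp_apply, Algebra.linearMap_apply, y,
          Pi.smul_apply, smul_eq_mul, map_mul]
        rw [← hpt i, ← mul_assoc, ← map_mul, Finset.prod_erase_mul _ _ (Finset.mem_univ i)]
      have hyker : y ∈ LinearMap.ker g := by
        rw [LinearMap.mem_ker, ← hfψ, hy, map_smul, LinearMap.mem_ker.mp hx, smul_zero]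
      have hψy : ψF y ∈ Submodule.span B (ψF '' (X : Set (Fin n → P))) := by
        rw [← hX] at hyker
        have h1 : ψF y ∈ (Submodule.span P (X : Set (Fin n → P))).map ψF :=
          Submodule.mem_map_of_mem hyker
        rw [Submodule.map_span] at h1
        have h2 : Submodule.span P (ψF '' (X : Set (Fin n → P))) ≤
            (Submodule.span B (ψF '' (X : Set (Fin n → P)))).restrictScalars P :=
          Submodule.span_le_restrictScalars P B _
        exact h2 h1
      obtain ⟨v, hv⟩ := huunit.exists_left_inv
      have : x = v • ψF y := by
        rw [hy, smul_smul, hv, one_smul]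
      rw [this]
      exact Submodule.smul_mem _ _ hψy
    · rw [Submodule.span_le]
      rintro _ ⟨y, hy, rfl⟩
      have : y ∈ LinearMap.ker g := by
        rw [← hX]
        exact Submodule.subset_span hy
      rw [SetLike.mem_coe, LinearMap.mem_ker, hfψ]
      exact this
  rw [hker]
  exact Submodule.fg_span (X.finite_toSet.image _)

end frac

section main

/-- **Nagata's theorem.**  A finite module over an algebra essentially of finite type over a
valuation ring which is flat over the valuation ring is finitely presented. -/
theorem finitePresentation_of_flat_essFiniteType (A B M : Type u) [CommRing A] [IsDomain A]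
    [ValuationRing A] [CommRing B] [Algebra A B] [Algebra.EssFiniteType A B] [AddCommGroup M]
    [Module B M] [Module A M] [IsScalarTower A B M] [Module.Finite B M] [Module.Flat A M] :
    Module.FinitePresentation B M := by
  classical
  obtain ⟨s, hs⟩ := (Algebra.essFiniteType_iff A B).mp inferInstance
  let ψ : MvPolynomial s A →ₐ[A] B := aeval (Subtype.val : s → B)
  have hrange : ψ.range = Algebra.adjoin A (s : Set B) := by
    rw [← Algebra.adjoin_range_eq_range_aeval, Subtype.range_coe_subtype]
    rfl
  let _ : Algebra (MvPolynomial s A) B := ψ.toRingHom.toAlgebra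
  let _ : Module (MvPolynomial s A) M := Module.compHom M ψ.toRingHom
  have : IsScalarTower (MvPolynomial s A) B M :=
    IsScalarTower.of_algebraMap_smul fun _ _ => rfl
  have hfrac : ∀ b : B, ∃ p t : MvPolynomial s A,
      IsUnit (algebraMap (MvPolynomial s A) B t) ∧
        algebraMap (MvPolynomial s A) B t * b = algebraMap (MvPolynomial s A) B p := by
    intro b
    obtain ⟨t, ht, htunit, hbt⟩ := hs b
    rw [← hrange] at ht hbt
    obtain ⟨t', rfl⟩ := ht
    obtain ⟨p', hp'⟩ := hbt
    exact ⟨p', t', htunit, by rw [mul_comm]; exact hp'.symm⟩
  obtain ⟨n, m, hm⟩ := Module.Finite.exists_fin (R := B) (M := M)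
  have hsat : ∀ a : A, a ≠ 0 → ∀ G : Fin n → MvPolynomial s A,
      (C a : MvPolynomial s A) • G ∈ LinearMap.ker (Fintype.linearCombination (MvPolynomial s A) m) →
        G ∈ LinearMap.ker (Fintype.linearCombination (MvPolynomial s A) m) := by
    intro a ha G hG
    rw [LinearMap.mem_ker] at hG ⊢
    rw [map_smul] at hG
    have h1 : (C a : MvPolynomial s A) • (Fintype.linearCombination (MvPolynomial s A) m) G =
        a • (Fintype.linearCombination (MvPolynomial s A) m) G := by
      change (ψ (C a)) • (Fintype.linearCombination (MvPolynomial s A) m) G = _
      rw [show ψ (C a) = algebraMap A B a from ψ.commutes a, algebraMap_smul]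
    rw [h1] at hG
    have hreg : IsSMulRegular M a :=
      Module.Flat.isSMulRegular_of_nonZeroDivisors (mem_nonZeroDivisors_of_ne_zero ha)
    exact hreg (by simp only [hG, smul_zero])
  have hkerP : (LinearMap.ker (Fintype.linearCombination (MvPolynomial s A) m)).FG :=
    fg_of_saturated _ hsat
  have hkerB : (LinearMap.ker (Fintype.linearCombination B m)).FG :=
    fg_ker_of_frac hfrac m hkerP
  have hsurj : Function.Surjective (Fintype.linearCombination B m) := by
    rw [← LinearMap.range_eq_top, Fintype.range_linearCombination, hm]
  exact Module.finitePresentation_of_free_of_surjective _ hsurj hkerB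

end main

end Groth.Agent.H32.ValFP
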