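import Mathlib
import Groth.Agent.H32.FibPdVal
import Groth.Agent.H32.ValFPMain
import Groth.Agent.Lead.RegularGlDim

/-!
# Projective dimension over local rings of flat finitely presented algebras over valuation rings
-/

set_option autoImplicit false

namespace Groth.Agent.H32.ValRegPd

universe u

open CategoryTheory IsLocalRing

variable (V : Type u) [CommRing V] [IsDomain V] [ValuationRing V]
  (B : Type u) [CommRing B] [Algebra V B] [Module.Flat V B] [Algebra.FinitePresentation V B]
  (q : Ideal B) [q.IsPrime]

instance essFiniteType_localization : Algebra.EssFiniteType V (Localization.AtPrime q) :=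
  have : Algebra.EssFiniteType B (Localization.AtPrime q) :=
    Algebra.EssFiniteType.of_isLocalization _ q.primeCompl
  Algebra.EssFiniteType.comp V B _

theorem map_comap_le_maximalIdeal :
    (Ideal.comap (algebraMap V B) q).map (algebraMap V (Localization.AtPrime q)) ≤
      maximalIdeal (Localization.AtPrime q) := by
  rw [Ideal.map_le_iff_le_comap]
  intro x hx
  rw [Ideal.mem_comap, IsScalarTower.algebraMap_apply V B (Localization.AtPrime q)]
  exact (IsLocalization.AtPrime.to_map_mem_maximal_iff (Localization.AtPrime q) q _).mpr hx

/-- a submodule of a `V`-flat module is `V`-flat (`V` a valuation ring) -/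
theorem flat_of_injective {N N' : Type u} [AddCommGroup N] [Module V N] [AddCommGroup N']
    [Module V N'] [Module.Flat V N'] (f : N →ₗ[V] N') (hf : Function.Injective f) :
    Module.Flat V N := by
  rw [Module.Flat.flat_iff_torsion_eq_bot_of_isBezout, eq_bot_iff]
  intro x hx
  rw [Submodule.mem_torsion_iff] at hx
  obtain ⟨a, ha⟩ := hx
  have h1 : f x ∈ Submodule.torsion V N' := by
    rw [Submodule.mem_torsion_iff]
    have ha' : (a : V) • x = 0 := ha
    refine ⟨a, ?_⟩
    show (a : V) • f x = 0
    rw [← map_smul, ha', map_zero]
  rw [Module.Flat.torsion_eq_bot] at h1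
  exact hf (by rw [(Submodule.mem_bot V).mp h1, map_zero])

/-- kernels of presentations of finitely presented `V`-flat modules are finitely presented -/
theorem finitePresentation_ker (N : Type u) [AddCommGroup N] [Module (Localization.AtPrime q) N]
    [Module V N] [IsScalarTower V (Localization.AtPrime q) N]
    [Module.FinitePresentation (Localization.AtPrime q) N] (m : ℕ)
    (g : (Fin m → Localization.AtPrime q) →ₗ[Localization.AtPrime q] N)
    (hg : Function.Surjective g) :
    Module.FinitePresentation (Localization.AtPrime q) (LinearMap.ker g) := by
  have hfg : (LinearMap.ker g).FG := Module.FinitePresentation.fg_ker g hg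
  have : Module.Finite (Localization.AtPrime q) (LinearMap.ker g) := Module.Finite.iff_fg.mpr hfg
  have hF : Module.Flat V (Fin m → Localization.AtPrime q) :=
    Module.Flat.trans V (Localization.AtPrime q) _
  have : Module.Flat V (LinearMap.ker g) :=
    flat_of_injective V ((LinearMap.ker g).subtype.restrictScalars V) Subtype.val_injective
  exact Groth.Agent.H32.ValFP.finitePresentation_of_flat_essFiniteType V (Localization.AtPrime q)
    (LinearMap.ker g)

/-- `V`-flat finitely presented modules have projective dimension at most the fibre dimension. -/
theorem hasProjectiveDimensionLE_of_flat (n : ℕ)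
    (hreg : IsRegularLocalRing (Localization.AtPrime q ⧸
      Ideal.map (algebraMap V (Localization.AtPrime q)) (Ideal.comap (algebraMap V B) q)))
    (hn : ringKrullDim (Localization.AtPrime q ⧸
      Ideal.map (algebraMap V (Localization.AtPrime q)) (Ideal.comap (algebraMap V B) q)) = n)
    (M : Type u) [AddCommGroup M] [Module (Localization.AtPrime q) M]
    [Module.FinitePresentation (Localization.AtPrime q) M]
    [Module V M] [IsScalarTower V (Localization.AtPrime q) M] [Module.Flat V M] :
    HasProjectiveDimensionLE (ModuleCat.of (Localization.AtPrime q) M) n := by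
  have hloc : IsLocalRing (Localization.AtPrime q ⧸
      Ideal.map (algebraMap V (Localization.AtPrime q)) (Ideal.comap (algebraMap V B) q)) :=
    hreg.toIsLocalRing
  refine Groth.Agent.H32.FibPdVal.hasProjectiveDimensionLT_of_fibre
    (Ideal.comap (algebraMap V B) q) (map_comap_le_maximalIdeal V B q)
    (fun N _ _ _ _ _ _ m g hg => finitePresentation_ker V B q N m g hg) n M ?_
  exact Groth.Agent.Lead.RLR.hasProjectiveDimensionLT _ n hn _

/-- all finitely presented modules have projective dimension at most the fibre dimension plus
one. -/
theorem hasProjectiveDimensionLE_succ (n : ℕ)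
    (hreg : IsRegularLocalRing (Localization.AtPrime q ⧸
      Ideal.map (algebraMap V (Localization.AtPrime q)) (Ideal.comap (algebraMap V B) q)))
    (hn : ringKrullDim (Localization.AtPrime q ⧸
      Ideal.map (algebraMap V (Localization.AtPrime q)) (Ideal.comap (algebraMap V B) q)) = n)
    (M : Type u) [AddCommGroup M] [Module (Localization.AtPrime q) M]
    [Module.FinitePresentation (Localization.AtPrime q) M] :
    HasProjectiveDimensionLE (ModuleCat.of (Localization.AtPrime q) M) (n + 1) := by
  let _ : Module V M := Module.compHom M (algebraMap V (Localization.AtPrime q))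
  have : IsScalarTower V (Localization.AtPrime q) M :=
    IsScalarTower.of_algebraMap_smul fun _ _ => rfl
  obtain ⟨m, g, hg⟩ := Module.Finite.exists_fin' (Localization.AtPrime q) M
  let K := LinearMap.ker g
  have hKfp : Module.FinitePresentation (Localization.AtPrime q) K :=
    finitePresentation_ker V B q M m g hg
  have hF : Module.Flat V (Fin m → Localization.AtPrime q) :=
    Module.Flat.trans V (Localization.AtPrime q) _
  have hKflat : Module.Flat V K :=
    flat_of_injective V (K.subtype.restrictScalars V) Subtype.val_injective
  have hexact : Function.Exact K.subtype g := LinearMap.exact_subtype_ker_map g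
  have hinj : Function.Injective K.subtype := Subtype.val_injective
  have hS := Groth.Agent.H29.GlDimL.shortExact_of_exact K.subtype g hinj hg hexact
  have hproj : Projective (ModuleCat.of (Localization.AtPrime q)
      (Fin m → Localization.AtPrime q)) :=
    (IsProjective.iff_projective _).mp inferInstance
  change HasProjectiveDimensionLT _ (n + 1 + 1)
  rw [hS.hasProjectiveDimensionLT_X₃_iff n hproj]
  exact hasProjectiveDimensionLE_of_flat V B q n hreg hn K

end Groth.Agent.H32.ValRegPd
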