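import Mathlib
import Groth.Agent.H32.ValRegPd
import Groth.Agent.H15.FFR

/-!
# Local algebras essentially of finite type and flat over a valuation ring, with regular closed fibre

Finitely presented modules over such a ring have finite free resolutions.
-/

set_option autoImplicit false

namespace Groth.Agent.H32.ValLocPd

universe u

open CategoryTheory IsLocalRing Groth.Agent.H15.FFR

variable (V : Type u) [CommRing V] [IsDomain V] [ValuationRing V]
  (A : Type u) [CommRing A] [IsLocalRing A] [Algebra V A] [IsLocalHom (algebraMap V A)]
  [Module.Flat V A] [Algebra.EssFiniteType V A]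

theorem map_le_maximalIdeal :
    (maximalIdeal V).map (algebraMap V A) ≤ maximalIdeal A :=
  ((IsLocalRing.local_hom_TFAE (algebraMap V A)).out 0 2).mp ‹_›

include V in
/-- finitely generated submodules of finite free modules are finitely presented -/
theorem finitePresentation_submodule (F : Type u) [AddCommGroup F]
    [Module A F] [Module.Free A F] [Module.Finite A F] (L : Submodule A F)
    (hL : L.FG) : Module.FinitePresentation A L := by
  let _ : Module V F := Module.compHom F (algebraMap V A)
  have : IsScalarTower V A F := IsScalarTower.of_algebraMap_smul fun _ _ => rfl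
  have : Module.Flat V F := Module.Flat.trans V A F
  have : Module.Flat V L :=
    Groth.Agent.H32.ValRegPd.flat_of_injective V (L.subtype.restrictScalars V)
      Subtype.val_injective
  have : Module.Finite A L := Module.Finite.iff_fg.mpr hL
  exact Groth.Agent.H32.ValFP.finitePresentation_of_flat_essFiniteType V A L

include V in
/-- kernels of presentations of finitely presented modules are finitely presented -/
theorem finitePresentation_ker (N : Type u) [AddCommGroup N] [Module A N]
    [Module.FinitePresentation A N] (m : ℕ) (g : (Fin m → A) →ₗ[A] N)
    (hg : Function.Surjective g) : Module.FinitePresentation A (LinearMap.ker g) :=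
  finitePresentation_submodule V A _ _ (Module.FinitePresentation.fg_ker g hg)

/-- `V`-flat finitely presented modules have projective dimension at most the dimension of the
closed fibre. -/
theorem hasProjectiveDimensionLE_of_flat (n : ℕ)
    (hreg : IsRegularLocalRing (A ⧸ (maximalIdeal V).map (algebraMap V A)))
    (hn : ringKrullDim (A ⧸ (maximalIdeal V).map (algebraMap V A)) = n)
    (M : Type u) [AddCommGroup M] [Module A M] [Module.FinitePresentation A M]
    [Module V M] [IsScalarTower V A M] [Module.Flat V M] :
    HasProjectiveDimensionLE (ModuleCat.of A M) n := by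
  have hloc : IsLocalRing (A ⧸ (maximalIdeal V).map (algebraMap V A)) := hreg.toIsLocalRing
  refine Groth.Agent.H32.FibPdVal.hasProjectiveDimensionLT_of_fibre
    (maximalIdeal V) (map_le_maximalIdeal V A)
    (fun N _ _ _ _ _ _ m g hg => finitePresentation_ker V A N m g hg) n M ?_
  exact Groth.Agent.Lead.RLR.hasProjectiveDimensionLT _ n hn _

include V in
/-- finitely presented modules of finite projective dimension have finite free resolutions -/
theorem hasFFR_of_hasProjectiveDimensionLT :
    ∀ (n : ℕ) (M : Type u) [AddCommGroup M] [Module A M] [Module.FinitePresentation A M],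
      HasProjectiveDimensionLT (ModuleCat.of A M) (n + 1) → ∃ χ : ℤ, HasFFR A n M χ
  | 0, M, _, _, _, h => by
    have hP : Module.Projective A M := by
      rw [IsProjective.iff_projective]
      exact projective_iff_hasProjectiveDimensionLT_one.mpr h
    have hF : Module.Free A M := Module.free_of_flat_of_isLocalRing
    exact ⟨_, hF, inferInstance, rfl⟩
  | n + 1, M, _, _, _, h => by
    obtain ⟨a, f, hf⟩ := Module.Finite.exists_fin' A M
    have hP : Projective (ModuleCat.of A (Fin a → A)) :=
      (IsProjective.iff_projective (Fin a → A)).mp inferInstance
    have hK : HasProjectiveDimensionLT (ModuleCat.of A (LinearMap.ker f)) (n + 1) :=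
      ((LinearMap.shortExact_shortComplexKer hf).hasProjectiveDimensionLT_X₃_iff n hP).mp h
    have hKfp : Module.FinitePresentation A (LinearMap.ker f) :=
      finitePresentation_ker V A M a f hf
    obtain ⟨χ', hχ'⟩ := hasFFR_of_hasProjectiveDimensionLT n (LinearMap.ker f) hK
    refine ⟨(Module.finrank A (Fin a → A) : ℤ) - χ', (Fin a → A), inferInstance, inferInstance,
      inferInstance, inferInstance, f, hf, ?_⟩
    rw [sub_sub_cancel]
    exact hχ'

end Groth.Agent.H32.ValLocPd
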