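import Mathlib
import Groth.Agent.H32.ValLocPd
import Groth.Agent.H32.StablyFreeInv
import Groth.Agent.H56.FFRStablyFree

/-!
# Triviality of the Picard group of the generic fibre of a local algebra over a valuation ring
-/

set_option autoImplicit false

namespace Groth.Agent.H32.PicGeneric

universe u

open CategoryTheory IsLocalRing TensorProduct Groth.Agent.H15.FFR

section Extend

variable {A : Type*} [CommRing A] (T : Submonoid A) (S : Type*) [CommRing S] [Algebra A S]
  [IsLocalization T S] (L : Type*) [AddCommGroup L] [Module A L] [Module S L]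
  [IsScalarTower A S L]

include S in
theorem isUnit_algebraMap_end (t : T) : IsUnit (algebraMap A (Module.End A L) t) := by
  have hu := IsLocalization.map_units S t
  refine (Module.End.isUnit_iff _).mpr ⟨fun x y hxy => ?_, fun y => ?_⟩
  · simp only [Module.algebraMap_end_apply] at hxy
    rw [← algebraMap_smul S (t : A) x, ← algebraMap_smul S (t : A) y] at hxy
    exact hu.smul_left_cancel.mp hxy
  · refine ⟨(hu.unit⁻¹ : Sˣ) • y, ?_⟩
    simp only [Module.algebraMap_end_apply]
    rw [← algebraMap_smul S (t : A), Units.smul_def, smul_smul, IsUnit.mul_val_inv, one_smul]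

/-- a finite module over a localization is the localization of a finitely generated submodule -/
theorem exists_fg_submodule_isLocalizedModule [Module.Finite S L] :
    ∃ M : Submodule A L, M.FG ∧ IsLocalizedModule T M.subtype := by
  obtain ⟨s, hs⟩ := (Module.Finite.fg_top : (⊤ : Submodule S L).FG)
  refine ⟨Submodule.span A (s : Set L), Submodule.fg_span s.finite_toSet, ?_⟩
  have hsurj : ∀ y : L, ∃ t : A, t ∈ T ∧ t • y ∈ Submodule.span A (s : Set L) := by
    intro y
    have hy : y ∈ Submodule.span S (s : Set L) := hs ▸ Submodule.mem_top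
    induction hy using Submodule.span_induction with
    | mem x hx => exact ⟨1, T.one_mem, by rw [one_smul]; exact Submodule.subset_span hx⟩
    | zero => exact ⟨1, T.one_mem, by simp⟩
    | add x y _ _ hx hy =>
      obtain ⟨t1, ht1, h1⟩ := hx
      obtain ⟨t2, ht2, h2⟩ := hy
      refine ⟨t1 * t2, T.mul_mem ht1 ht2, ?_⟩
      rw [smul_add]
      refine Submodule.add_mem _ ?_ ?_
      · rw [mul_comm, mul_smul]
        exact Submodule.smul_mem _ _ h1
      · rw [mul_smul]
        exact Submodule.smul_mem _ _ h2
    | smul c x _ hx =>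
      obtain ⟨t, ht, h⟩ := hx
      obtain ⟨⟨a, t'⟩, hat⟩ := IsLocalization.surj T c
      refine ⟨(t' : A) * t, T.mul_mem t'.2 ht, ?_⟩
      have h3 : ((t' : A) * t) • c • x = a • t • x := by
        rw [mul_smul, ← algebraMap_smul S (t' : A), smul_comm t c x, smul_smul, mul_comm,
          hat, algebraMap_smul]
      rw [h3]
      exact Submodule.smul_mem _ _ h
  refine ⟨isUnit_algebraMap_end T S L, fun y => ?_, fun {x₁ x₂} h => ⟨1, ?_⟩⟩
  · obtain ⟨t, ht, h⟩ := hsurj y
    exact ⟨(⟨t • y, h⟩, ⟨t, ht⟩), rfl⟩
  · rw [one_smul, one_smul]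
    exact Subtype.ext h

end Extend

attribute [local instance] Algebra.TensorProduct.rightAlgebra

theorem pic_subsingleton (R A : Type u) [CommRing R] [IsDomain R]
    [ValuationRing R] [CommRing A] [IsLocalRing A] [Algebra R A] [IsLocalHom (algebraMap R A)]
    [Module.Flat R A] [Algebra.EssFiniteType R A]
    (hreg : IsRegularRing (TensorProduct R (IsLocalRing.ResidueField R) A)) :
    Subsingleton (CommRing.Pic (TensorProduct R (FractionRing R) A)) := by
  rw [CommRing.Pic.subsingleton_iff]
  intro L _ _ hL
  rcases subsingleton_or_nontrivial (TensorProduct R (FractionRing R) A) with hS | hS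
  · have : Subsingleton L := Module.subsingleton (TensorProduct R (FractionRing R) A) L
    exact Module.Free.of_subsingleton _ L
  -- module structures on `L`
  let _ : Module A L := Module.compHom L (algebraMap A (TensorProduct R (FractionRing R) A))
  have : IsScalarTower A (TensorProduct R (FractionRing R) A) L :=
    IsScalarTower.of_algebraMap_smul fun _ _ => rfl
  let _ : Module R L := Module.compHom L (algebraMap R A)
  have : IsScalarTower R A L := IsScalarTower.of_algebraMap_smul fun _ _ => rfl
  have hloc : IsLocalization (Algebra.algebraMapSubmonoid A (nonZeroDivisors R))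
      (TensorProduct R (FractionRing R) A) :=
    inferInstance
  obtain ⟨M, hMfg, hMloc⟩ := exists_fg_submodule_isLocalizedModule
    (Algebra.algebraMapSubmonoid A (nonZeroDivisors R)) (TensorProduct R (FractionRing R) A) L
  -- `M` is flat over `R`
  have hMflat : Module.Flat R M := by
    rw [Module.Flat.flat_iff_torsion_eq_bot_of_isBezout, eq_bot_iff]
    intro x hx
    rw [Submodule.mem_torsion_iff] at hx
    obtain ⟨a, ha⟩ := hx
    have ha' : (a : R) • (x : L) = 0 := by
      have : (a : R) • x = 0 := ha
      rw [← Submodule.coe_smul_of_tower, this, Submodule.coe_zero]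
    have hu : IsUnit (algebraMap A (TensorProduct R (FractionRing R) A) (algebraMap R A a)) :=
      IsLocalization.map_units (TensorProduct R (FractionRing R) A)
        (⟨algebraMap R A a, Algebra.mem_algebraMapSubmonoid_of_mem a⟩ :
          Algebra.algebraMapSubmonoid A (nonZeroDivisors R))
    have h2 : algebraMap A (TensorProduct R (FractionRing R) A) (algebraMap R A a) • (x : L) = 0 :=
      ha'
    rw [Submodule.mem_bot]
    exact Subtype.ext (hu.smul_eq_zero.mp h2)
  have : Module.Finite A M := Module.Finite.iff_fg.mpr hMfg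
  have hMfp : Module.FinitePresentation A M :=
    Groth.Agent.H32.ValFP.finitePresentation_of_flat_essFiniteType R A M
  -- the closed fibre is a regular local ring
  have hne : (maximalIdeal R).map (algebraMap R A) ≠ ⊤ :=
    ne_top_of_le_ne_top (maximalIdeal.isMaximal A).ne_top
      (Groth.Agent.H32.ValLocPd.map_le_maximalIdeal R A)
  have : Nontrivial (A ⧸ (maximalIdeal R).map (algebraMap R A)) :=
    Ideal.Quotient.nontrivial_iff.mpr hne
  have hlocal : IsLocalRing (A ⧸ (maximalIdeal R).map (algebraMap R A)) :=
    IsLocalRing.of_surjective' (Ideal.Quotient.mk _) Ideal.Quotient.mk_surjective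
  have e0 : (A ⧸ (maximalIdeal R).map (algebraMap R A)) ≃+*
      TensorProduct R (IsLocalRing.ResidueField R) A :=
    (Algebra.TensorProduct.quotIdealMapEquivQuotTensor A (maximalIdeal R)).toRingEquiv
  have hreg' : IsRegularRing (A ⧸ (maximalIdeal R).map (algebraMap R A)) :=
    IsRegularRing.of_ringEquiv e0.symm
  have hrl : IsRegularLocalRing (A ⧸ (maximalIdeal R).map (algebraMap R A)) :=
    IsRegularLocalRing.of_isRegularRing_of_isLocalRing _
  obtain ⟨n, hn⟩ : ∃ n : ℕ, ringKrullDim (A ⧸ (maximalIdeal R).map (algebraMap R A)) = n := by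
    have h1 := ringKrullDim_ne_bot (R := A ⧸ (maximalIdeal R).map (algebraMap R A))
    have h2 := ringKrullDim_ne_top (R := A ⧸ (maximalIdeal R).map (algebraMap R A))
    obtain ⟨d, hd⟩ := WithBot.ne_bot_iff_exists.mp h1
    have hd' : d ≠ ⊤ := by
      rintro rfl
      exact h2 hd.symm
    obtain ⟨n, rfl⟩ := ENat.ne_top_iff_exists.mp hd'
    exact ⟨n, hd.symm⟩
  have hpd := Groth.Agent.H32.ValLocPd.hasProjectiveDimensionLE_of_flat R A n hrl hn M
  obtain ⟨χ, hχ⟩ := Groth.Agent.H32.ValLocPd.hasFFR_of_hasProjectiveDimensionLT R A n M hpd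
  have : Module.Flat A (TensorProduct R (FractionRing R) A) :=
    IsLocalization.flat _ (Algebra.algebraMapSubmonoid A (nonZeroDivisors R))
  have hχ' := HasFFR.baseChange (TensorProduct R (FractionRing R) A) n hχ
  have hbc : IsBaseChange (TensorProduct R (FractionRing R) A) M.subtype :=
    IsLocalizedModule.isBaseChange (Algebra.algebraMapSubmonoid A (nonZeroDivisors R))
      (TensorProduct R (FractionRing R) A) M.subtype
  have hχ'' := HasFFR.of_equiv n hbc.equiv hχ'
  obtain ⟨G, G', _, _, _, _, _, _, _, _, ⟨e⟩⟩ :=
    Groth.Agent.H56.FFRStablyFree.exists_prod_equiv_of_hasFFR_of_projective n hχ'' inferInstance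
  exact Groth.Agent.H32.StablyFreeInv.free_of_prod_equiv e

end Groth.Agent.H32.PicGeneric
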