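import Mathlib
import Groth.Agent.H32.LocFPMain
import Groth.Agent.H32.LocFPQuot
import Groth.Agent.H32.ValFPMain

/-!
# Finitely presented algebras over a Prüfer domain are coherent
-/

set_option autoImplicit false

namespace Groth.Agent.H32.LocFP

open TensorProduct

universe u

/-- Over a Prüfer domain `R`, a finite module over a finitely presented `R`-algebra which is
`R`-torsion-free is finitely presented. -/
theorem finitePresentation_of_isTorsionFree_of_prufer {R S M : Type u} [CommRing R] [IsDomain R]
    (hR : ∀ (p : Ideal R) [p.IsPrime], ValuationRing (Localization.AtPrime p))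
    [CommRing S] [Algebra R S] [Algebra.FinitePresentation R S]
    [AddCommGroup M] [Module R M] [Module S M] [IsScalarTower R S M] [Module.Finite S M]
    [Module.IsTorsionFree R M] : Module.FinitePresentation S M := by
  classical
  have hflat : Module.Flat R M := by
    rw [Module.Flat.flat_iff_torsion_eq_bot_of_valuationRing_localization_isMaximal
      (fun P hP => hR P), ← Submodule.isTorsionFree_iff_torsion_eq_bot]
    infer_instance
  let s : Finset (PrimeSpectrum R) := {⟨⊥, Ideal.isPrime_bot⟩}
  have hs : Function.Injective fun r : R => fun p : s =>
      algebraMap R (Localization.AtPrime p.1.asIdeal) r := by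
    intro a b hab
    have h1 := congrFun hab ⟨⟨⊥, Ideal.isPrime_bot⟩, Finset.mem_singleton_self _⟩
    refine IsLocalization.injective (M := (⊥ : Ideal R).primeCompl)
      (Localization.AtPrime (⊥ : Ideal R)) ?_ h1
    intro x hx
    exact mem_nonZeroDivisors_of_ne_zero fun h => hx (by rw [h]; exact Ideal.zero_mem _)
  refine finitePresentation_of_forall_localized s hs ?_
  intro p _
  have := hR p
  let _ : Module (Localization.AtPrime p)
      (LocalizedModule (Algebra.algebraMapSubmonoid S p.primeCompl) M) :=
    Module.compHom _ (algebraMap (Localization.AtPrime p)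
      (Localization (Algebra.algebraMapSubmonoid S p.primeCompl)))
  have : IsScalarTower (Localization.AtPrime p)
      (Localization (Algebra.algebraMapSubmonoid S p.primeCompl))
      (LocalizedModule (Algebra.algebraMapSubmonoid S p.primeCompl) M) :=
    IsScalarTower.of_algebraMap_smul fun r x => rfl
  have : IsScalarTower R (Localization.AtPrime p)
      (LocalizedModule (Algebra.algebraMapSubmonoid S p.primeCompl) M) := by
    refine IsScalarTower.of_algebraMap_smul fun r x => ?_
    change algebraMap (Localization.AtPrime p)
      (Localization (Algebra.algebraMapSubmonoid S p.primeCompl))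
      (algebraMap R (Localization.AtPrime p) r) • x = r • x
    rw [← IsScalarTower.algebraMap_apply, algebraMap_smul]
  have : Algebra.EssFiniteType R (Localization (Algebra.algebraMapSubmonoid S p.primeCompl)) :=
    have : Algebra.EssFiniteType S (Localization (Algebra.algebraMapSubmonoid S p.primeCompl)) :=
      Algebra.EssFiniteType.of_isLocalization _ (Algebra.algebraMapSubmonoid S p.primeCompl)
    Algebra.EssFiniteType.comp R S _
  have : Algebra.EssFiniteType (Localization.AtPrime p)
      (Localization (Algebra.algebraMapSubmonoid S p.primeCompl)) :=
    Algebra.EssFiniteType.of_comp R _ _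
  have : Module.Flat R (LocalizedModule (Algebra.algebraMapSubmonoid S p.primeCompl) M) :=
    Groth.Agent.H1.FlatLocus.flat_of_isLocalizedModule_algebra (R := R)
      (Algebra.algebraMapSubmonoid S p.primeCompl)
      (LocalizedModule.mkLinearMap (Algebra.algebraMapSubmonoid S p.primeCompl) M)
  have : Module.Flat (Localization.AtPrime p)
      (LocalizedModule (Algebra.algebraMapSubmonoid S p.primeCompl) M) :=
    (Module.flat_iff_of_isLocalization (Localization.AtPrime p) p.primeCompl _).mpr this
  exact Groth.Agent.H32.ValFP.finitePresentation_of_flat_essFiniteType (Localization.AtPrime p)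
    (Localization (Algebra.algebraMapSubmonoid S p.primeCompl))
    (LocalizedModule (Algebra.algebraMapSubmonoid S p.primeCompl) M)

end Groth.Agent.H32.LocFP

namespace Groth.Agent.H32.LocFP

universe u

/-- A finitely presented algebra over a Prüfer domain is a coherent ring. -/
theorem finitePresentation_ideal_of_prufer {R A : Type u} [CommRing R] [IsDomain R]
    (hR : ∀ (p : Ideal R) [p.IsPrime], ValuationRing (Localization.AtPrime p))
    [CommRing A] [Algebra R A] [Algebra.FinitePresentation R A] (I : Ideal A) (hI : I.FG) :
    Module.FinitePresentation A I := by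
  obtain ⟨n, π, hπ, hker⟩ := Algebra.FinitePresentation.out (R := R) (A := A)
  let _ : Algebra (MvPolynomial (Fin n) R) A := π.toRingHom.toAlgebra
  have : IsScalarTower R (MvPolynomial (Fin n) R) A :=
    IsScalarTower.of_algebraMap_eq fun r => (π.commutes r).symm
  have hsurj : Function.Surjective (algebraMap (MvPolynomial (Fin n) R) A) := hπ
  let It : Ideal (MvPolynomial (Fin n) R) := I.comap (algebraMap (MvPolynomial (Fin n) R) A)
  have hItfg : It.FG := by
    have h := Ideal.fg_ker_comp (algebraMap (MvPolynomial (Fin n) R) A) (Ideal.Quotient.mk I)
      hker (by rw [Ideal.mk_ker]; exact hI) hsurj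
    rwa [← RingHom.comap_ker, Ideal.mk_ker] at h
  have : Module.IsTorsionFree R It := inferInstance
  have : Module.Finite (MvPolynomial (Fin n) R) It := Module.Finite.iff_fg.mpr hItfg
  have hfpIt : Module.FinitePresentation (MvPolynomial (Fin n) R) It :=
    finitePresentation_of_isTorsionFree_of_prufer hR
  let l : It →ₗ[MvPolynomial (Fin n) R] I :=
    { toFun := fun x => ⟨algebraMap (MvPolynomial (Fin n) R) A x.1, x.2⟩
      map_add' := fun x y => by
        apply Subtype.ext
        simp
      map_smul' := fun c x => by
        apply Subtype.ext
        simp [Algebra.smul_def] }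
  have hl : Function.Surjective l := by
    rintro ⟨a, ha⟩
    obtain ⟨x, rfl⟩ := hsurj a
    exact ⟨⟨x, ha⟩, rfl⟩
  have hkerl : (LinearMap.ker l).FG := by
    apply Submodule.fg_of_fg_map_injective It.subtype Subtype.val_injective
    have : (LinearMap.ker l).map It.subtype =
        RingHom.ker (algebraMap (MvPolynomial (Fin n) R) A) := by
      ext x
      constructor
      · rintro ⟨y, hy, rfl⟩
        exact congrArg Subtype.val hy
      · intro hx
        have hxI : x ∈ It := by
          change algebraMap (MvPolynomial (Fin n) R) A x ∈ I
          rw [RingHom.mem_ker.mp hx]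
          exact I.zero_mem
        exact ⟨⟨x, hxI⟩, Subtype.ext hx, rfl⟩
    rw [this]
    exact hker
  have hfpI : Module.FinitePresentation (MvPolynomial (Fin n) R) I :=
    Module.finitePresentation_of_surjective l hl hkerl
  exact finitePresentation_of_surjective_algebraMap hsurj

end Groth.Agent.H32.LocFP
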