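import Mathlib
import Groth.Prelude.Def_CAlgX

set_option autoImplicit false
universe u
open TensorProduct LinearMap

namespace Groth.Agent.H32

section
variable {R : Type*} [CommRing R]

/-- Purity lets one solve linear systems: if `t ∈ M₁ ⊗ F₂` becomes a `τ`-image in `M₂ ⊗ F₂`
then it is already a `τ`-image, provided `f ⊗ (F₂ / range τ)` is injective. -/
theorem mem_range_lTensor_of_rTensor_injective
    {M₁ M₂ F₁ F₂ : Type*} [AddCommGroup M₁] [Module R M₁] [AddCommGroup M₂] [Module R M₂]
    [AddCommGroup F₁] [Module R F₁] [AddCommGroup F₂] [Module R F₂]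
    (f : M₁ →ₗ[R] M₂) (τ : F₁ →ₗ[R] F₂)
    (hf : Function.Injective (f.rTensor (F₂ ⧸ LinearMap.range τ)))
    (t : M₁ ⊗[R] F₂) (ht : f.rTensor F₂ t ∈ LinearMap.range (τ.lTensor M₂)) :
    t ∈ LinearMap.range (τ.lTensor M₁) := by
  have hex : Function.Exact τ (LinearMap.range τ).mkQ := LinearMap.exact_map_mkQ_range τ
  have hq := Submodule.mkQ_surjective (LinearMap.range τ)
  have h1 : (LinearMap.range τ).mkQ.lTensor M₂ (f.rTensor F₂ t) = 0 :=
    (lTensor_exact M₂ hex hq _).2 ht
  have h2 : f.rTensor _ ((LinearMap.range τ).mkQ.lTensor M₁ t) = 0 := by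
    rw [← LinearMap.comp_apply, LinearMap.rTensor_comp_lTensor, ← LinearMap.lTensor_comp_rTensor]
    exact h1
  have h3 : (LinearMap.range τ).mkQ.lTensor M₁ t = 0 := hf (by rw [h2, map_zero])
  exact (lTensor_exact M₁ hex hq _).1 h3

/-- The map `(Fin n → R) → (Fin m → R)` given by a family of rows `c`. -/
def rowsMap {n m : ℕ} (c : Fin m → (Fin n → R)) : (Fin n → R) →ₗ[R] (Fin m → R) :=
  LinearMap.pi fun i => Fintype.linearCombination R (c i) ∘ₗ LinearMap.id

theorem rowsMap_apply {n m : ℕ} (c : Fin m → (Fin n → R)) (v : Fin n → R) (i : Fin m) :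
    rowsMap c v i = ∑ j, v j * c i j := by
  simp [rowsMap, Fintype.linearCombination_apply]

theorem piScalarRight_lTensor_rowsMap {M : Type*} [AddCommGroup M] [Module R M] {n m : ℕ}
    (c : Fin m → (Fin n → R)) (w : M ⊗[R] (Fin n → R)) (i : Fin m) :
    TensorProduct.piScalarRight R R M (Fin m) ((rowsMap c).lTensor M w) i =
      ∑ j, c i j • (TensorProduct.piScalarRight R R M (Fin n) w j) := by
  induction w using TensorProduct.induction_on with
  | zero => simp
  | tmul x v =>
    simp only [LinearMap.lTensor_tmul, TensorProduct.piScalarRight_apply,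
      TensorProduct.piScalarRightHom_tmul, rowsMap_apply, Finset.sum_smul, smul_smul]
    apply Finset.sum_congr rfl
    intro j _
    rw [mul_comm]
  | add a b ha hb =>
    simp only [map_add, Pi.add_apply, ha, hb, smul_add, Finset.sum_add_distrib]

theorem piScalarRight_rTensor {M₁ M₂ : Type*} [AddCommGroup M₁] [Module R M₁] [AddCommGroup M₂]
    [Module R M₂] (f : M₁ →ₗ[R] M₂) {m : ℕ} (t : M₁ ⊗[R] (Fin m → R)) (i : Fin m) :
    TensorProduct.piScalarRight R R M₂ (Fin m) (f.rTensor _ t) i =
      f (TensorProduct.piScalarRight R R M₁ (Fin m) t i) := by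
  induction t using TensorProduct.induction_on with
  | zero => simp
  | tmul x v =>
    simp [TensorProduct.piScalarRight_apply, TensorProduct.piScalarRightHom_tmul]
  | add a b ha hb =>
    simp only [map_add, Pi.add_apply, ha, hb]

end

/-- Finitely presented modules lift along the cokernel of a universally injective map. -/
theorem exists_lift_of_universallyInjective {R : Type u} [CommRing R] {M₁ M₂ M₃ P : Type u}
    [AddCommGroup M₁] [Module R M₁] [AddCommGroup M₂] [Module R M₂] [AddCommGroup M₃] [Module R M₃]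
    [AddCommGroup P] [Module R P] [Module.FinitePresentation R P]
    (f : M₁ →ₗ[R] M₂) (g : M₂ →ₗ[R] M₃) (hexact : Function.Exact f g)
    (hg : Function.Surjective g) (hf : CAlgX.UniversallyInjective R f) (h : P →ₗ[R] M₃) :
    ∃ h' : P →ₗ[R] M₂, g.comp h' = h := by
  classical
  obtain ⟨n, K, e, hK⟩ := Module.FinitePresentation.exists_fin R P
  obtain ⟨m, c, hc⟩ := Submodule.fg_iff_exists_fin_generating_family.1 hK
  -- the composite (Fin n → R) → P → M₃
  let xbar : (Fin n → R) →ₗ[R] M₃ := h ∘ₗ e.symm.toLinearMap ∘ₗ K.mkQ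
  choose y hy using fun j : Fin n => hg (xbar (Pi.single j 1))
  let ζ : (Fin n → R) →ₗ[R] M₂ := Fintype.linearCombination R y
  have hζ : g ∘ₗ ζ = xbar := by
    apply LinearMap.pi_ext'
    intro j
    ext
    simp [ζ, Fintype.linearCombination_apply, Pi.single_apply, hy]
  have hcK : ∀ i, c i ∈ K := fun i => hc ▸ Submodule.subset_span (Set.mem_range_self i)
  have hker : ∀ i, g (ζ (c i)) = 0 := by
    intro i
    have := LinearMap.congr_fun hζ (c i)
    rw [LinearMap.comp_apply] at this
    rw [this]
    simp only [xbar, LinearMap.comp_apply, Submodule.mkQ_apply,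
      (Submodule.Quotient.mk_eq_zero K).2 (hcK i), map_zero]
  choose u₁ hu₁ using fun i : Fin m => (hexact (ζ (c i))).1 (hker i)
  -- solve the system in M₁
  let t : M₁ ⊗[R] (Fin m → R) := (TensorProduct.piScalarRight R R M₁ (Fin m)).symm u₁
  have ht : f.rTensor _ t ∈ LinearMap.range ((rowsMap c).lTensor M₂) := by
    refine ⟨(TensorProduct.piScalarRight R R M₂ (Fin n)).symm y, ?_⟩
    apply (TensorProduct.piScalarRight R R M₂ (Fin m)).injective
    ext i
    rw [piScalarRight_lTensor_rowsMap, piScalarRight_rTensor]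
    simp only [LinearEquiv.apply_symm_apply, t, hu₁, ζ, Fintype.linearCombination_apply]
  obtain ⟨w, hw⟩ := mem_range_lTensor_of_rTensor_injective f (rowsMap c) (hf _) t ht
  let z : Fin n → M₁ := TensorProduct.piScalarRight R R M₁ (Fin n) w
  have hz : ∀ i, ∑ j, c i j • z j = u₁ i := by
    intro i
    have := piScalarRight_lTensor_rowsMap (M := M₁) c w i
    rw [hw] at this
    simp only [t, LinearEquiv.apply_symm_apply] at this
    exact this.symm
  -- corrected lift
  let s' : (Fin n → R) →ₗ[R] M₂ := ζ - f ∘ₗ Fintype.linearCombination R z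
  have hs'K : K ≤ LinearMap.ker s' := by
    rw [← hc, Submodule.span_le]
    rintro _ ⟨i, rfl⟩
    rw [SetLike.mem_coe, LinearMap.mem_ker]
    simp only [s', LinearMap.sub_apply, LinearMap.comp_apply, Fintype.linearCombination_apply, hz,
      hu₁, sub_self]
  have hgs' : g ∘ₗ s' = xbar := by
    ext v
    simp only [s', LinearMap.comp_apply, LinearMap.sub_apply, map_sub]
    rw [hexact.apply_apply_eq_zero, sub_zero]
    exact LinearMap.congr_fun hζ _
  refine ⟨K.liftQ s' hs'K ∘ₗ e.toLinearMap, ?_⟩
  ext p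
  obtain ⟨v, hv⟩ := K.mkQ_surjective (e p)
  simp only [LinearMap.comp_apply, LinearEquiv.coe_coe, ← hv, Submodule.mkQ_apply, Submodule.liftQ_apply]
  have := LinearMap.congr_fun hgs' v
  rw [LinearMap.comp_apply] at this
  rw [this]
  simp only [xbar, LinearMap.comp_apply, LinearEquiv.coe_coe, hv, LinearEquiv.symm_apply_apply]

end Groth.Agent.H32
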