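import Mathlib
import Groth.Prelude.Def_FlatCA
import Groth.Agent.H32.ContentSub

/-!
# Content ideals and universal injectivity from a pure spreadout
-/

set_option autoImplicit false
set_option linter.unusedSectionVars false
universe u

open TensorProduct

namespace Groth.Agent.H32.PureSpreadoutContent

open Groth.Agent.H32.ContentSub

variable {A : Type u} [CommRing A]

section LocLike

variable {T₀ : Type u} [CommMonoid T₀] {N N' : Type u} [AddCommGroup N] [Module A N]
  [AddCommGroup N'] [Module A N']

theorem lTensor_injective_of_isUnit (f : Module.End A N) (hf : IsUnit f) (Q : Type u)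
    [AddCommGroup Q] [Module A Q] : Function.Injective (f.lTensor Q) := by
  obtain ⟨⟨f, f', h1, h2⟩, rfl⟩ := hf
  have hl : Function.LeftInverse (f'.lTensor Q) (f.lTensor Q) := by
    intro z
    rw [← LinearMap.comp_apply, ← LinearMap.lTensor_comp, ← Module.End.mul_eq_comp, h2,
      Module.End.one_eq_id, LinearMap.lTensor_id, LinearMap.id_apply]
  exact hl.injective

/-- if every element of `N` becomes an element of `g (N')` after acting by some `t`, the same holds
in `Q ⊗ N` -/
theorem exists_lTensor_eq (φ' : T₀ →* Module.End A N') (φ : T₀ →* Module.End A N)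
    (g : N' →ₗ[A] N) (hcomm : ∀ t, g ∘ₗ φ' t = φ t ∘ₗ g) (hsurj : ∀ n, ∃ t n', φ t n = g n')
    (Q : Type u) [AddCommGroup Q] [Module A Q] (x : Q ⊗[A] N) :
    ∃ t x', (φ t).lTensor Q x = g.lTensor Q x' := by
  induction x with
  | zero => exact ⟨1, 0, by rw [map_zero, map_zero]⟩
  | tmul q n =>
    obtain ⟨t, n', h⟩ := hsurj n
    exact ⟨t, q ⊗ₜ n', by rw [LinearMap.lTensor_tmul, LinearMap.lTensor_tmul, h]⟩
  | add x₁ x₂ h₁ h₂ =>
    obtain ⟨t₁, x'₁, h₁⟩ := h₁
    obtain ⟨t₂, x'₂, h₂⟩ := h₂
    refine ⟨t₁ * t₂, (φ' t₂).lTensor Q x'₁ + (φ' t₁).lTensor Q x'₂, ?_⟩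
    have e1 : (φ (t₁ * t₂)).lTensor Q x₁ = (φ t₂).lTensor Q ((φ t₁).lTensor Q x₁) := by
      rw [mul_comm, map_mul, Module.End.mul_eq_comp, LinearMap.lTensor_comp, LinearMap.comp_apply]
    have e2 : (φ (t₁ * t₂)).lTensor Q x₂ = (φ t₁).lTensor Q ((φ t₂).lTensor Q x₂) := by
      rw [map_mul, Module.End.mul_eq_comp, LinearMap.lTensor_comp, LinearMap.comp_apply]
    have e3 : ∀ (t : T₀) (z : Q ⊗[A] N'),
        (φ t).lTensor Q (g.lTensor Q z) = g.lTensor Q ((φ' t).lTensor Q z) := by
      intro t z
      rw [← LinearMap.comp_apply, ← LinearMap.lTensor_comp, ← hcomm, LinearMap.lTensor_comp,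
        LinearMap.comp_apply]
    rw [map_add, e1, e2, h₁, h₂, e3, e3, map_add]

end LocLike

section Spreadout

variable (A) {B : Type u} [CommRing B] [Algebra A B] (T : Submonoid B)
  (N : Type u) [AddCommGroup N] [Module (Localization T) N] [Module A N]
  [IsScalarTower A (Localization T) N]
  (C : Type u) [CommRing C] [Algebra B C] [Algebra A C] [IsScalarTower A B C]
  [Algebra C (Localization T)] [IsScalarTower B C (Localization T)]
  [IsScalarTower A C (Localization T)]
  [Module C N] [IsScalarTower C (Localization T) N] [IsScalarTower A C N]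
  (N' : Type u) [AddCommGroup N'] [Module C N'] [Module A N'] [IsScalarTower A C N']

/-- the action of `T` on `N` by `A`-linear endomorphisms -/
noncomputable def actN : T →* Module.End A N :=
  ((Module.toModuleEnd A (S := Localization T) N : Localization T →* Module.End A N)).comp
    (((algebraMap B (Localization T) : B →* Localization T)).comp T.subtype)

/-- the action of `T` on `N'` by `A`-linear endomorphisms -/
noncomputable def actN' : T →* Module.End A N' :=
  ((Module.toModuleEnd A (S := C) N' : C →* Module.End A N')).comp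
    (((algebraMap B C : B →* C)).comp T.subtype)

theorem actN_apply (t : T) (n : N) :
    actN A T N t n = (algebraMap B (Localization T) t) • n := rfl

theorem actN'_apply (t : T) (n : N') : actN' A T C N' t n = (algebraMap B C t) • n := rfl

theorem isUnit_actN (t : T) : IsUnit (actN A T N t) := by
  have h : IsUnit (algebraMap B (Localization T) t) := IsLocalization.map_units (Localization T) t
  exact h.map (Module.toModuleEnd A (S := Localization T) N : Localization T →* Module.End A N)

variable {N N'}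

theorem smul_map_eq (g : N' →ₗ[C] N) (b : B) (n' : N') :
    (algebraMap B (Localization T) b) • g n' = g ((algebraMap B C b) • n') := by
  rw [map_smul, IsScalarTower.algebraMap_apply B C (Localization T), algebraMap_smul]

theorem actN_comm (g : N' →ₗ[C] N) (t : T) :
    (g.restrictScalars A) ∘ₗ actN' A T C N' t = actN A T N t ∘ₗ (g.restrictScalars A) := by
  ext n'
  rw [LinearMap.comp_apply, LinearMap.comp_apply, actN_apply, actN'_apply,
    LinearMap.restrictScalars_apply, LinearMap.restrictScalars_apply, smul_map_eq]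

theorem exists_actN_eq (g : N' →ₗ[C] N) (hbc : IsBaseChange (Localization T) g) (n : N) :
    ∃ (t : T) (n' : N'), actN A T N t n = (g.restrictScalars A) n' := by
  induction n using hbc.inductionOn with
  | zero => exact ⟨1, 0, by rw [map_zero, map_zero]⟩
  | tmul m =>
    refine ⟨1, m, ?_⟩
    rw [map_one, Module.End.one_apply, LinearMap.restrictScalars_apply]
  | smul s n ih =>
    obtain ⟨t, n', h⟩ := ih
    obtain ⟨b, t₀, rfl⟩ := IsLocalization.exists_mk'_eq T s
    refine ⟨t₀ * t, (algebraMap B C b) • n', ?_⟩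
    rw [actN_apply] at h
    rw [actN_apply, LinearMap.restrictScalars_apply, ← smul_map_eq T C g,
      ← LinearMap.restrictScalars_apply A g,
      ← h, smul_smul, smul_smul, Submonoid.coe_mul, map_mul]
    congr 1
    rw [mul_comm (algebraMap B (Localization T) t₀), mul_assoc, IsLocalization.mk'_spec',
      mul_comm]
  | add n₁ n₂ h₁ h₂ =>
    obtain ⟨t₁, n'₁, h₁⟩ := h₁
    obtain ⟨t₂, n'₂, h₂⟩ := h₂
    refine ⟨t₁ * t₂, actN' A T C N' t₂ n'₁ + actN' A T C N' t₁ n'₂, ?_⟩
    have e3 : ∀ (t : T) (z : N'),
        actN A T N t ((g.restrictScalars A) z) = (g.restrictScalars A) (actN' A T C N' t z) := by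
      intro t z
      rw [← LinearMap.comp_apply, ← actN_comm, LinearMap.comp_apply]
    have e1 : actN A T N (t₁ * t₂) n₁ = actN A T N t₂ (actN A T N t₁ n₁) := by
      rw [mul_comm, map_mul, Module.End.mul_apply]
    have e2 : actN A T N (t₁ * t₂) n₂ = actN A T N t₁ (actN A T N t₂ n₂) := by
      rw [map_mul, Module.End.mul_apply]
    rw [map_add, e1, e2, h₁, h₂, e3, e3, map_add]

end Spreadout

section Final

variable (A) {B : Type u} [CommRing B] [Algebra A B] (T : Submonoid B)
  {N : Type u} [AddCommGroup N] [Module (Localization T) N] [Module A N]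
  [IsScalarTower A (Localization T) N]
  (C : Type u) [CommRing C] [Algebra B C] [Algebra A C] [IsScalarTower A B C]
  [Algebra C (Localization T)] [IsScalarTower B C (Localization T)]
  [IsScalarTower A C (Localization T)]
  [Module C N] [IsScalarTower C (Localization T) N] [IsScalarTower A C N]
  {N' : Type u} [AddCommGroup N'] [Module C N'] [Module A N'] [IsScalarTower A C N']

theorem exists_isContent (g : N' →ₗ[C] N) (hbc : IsBaseChange (Localization T) g)
    [Module.Projective A N'] (hg : FlatCA.UnivInj A (g.restrictScalars A))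
    (Q : Type u) [AddCommGroup Q] [Module A Q] (x : Q ⊗[A] N) :
    ∃ Q₀ : Submodule A Q, Q₀.FG ∧ IsContent x Q₀ := by
  obtain ⟨t, x', hx'⟩ := exists_lTensor_eq (actN' A T C N') (actN A T N) (g.restrictScalars A)
    (actN_comm A T C g) (exists_actN_eq A T C g hbc) Q x
  obtain ⟨Q₀, hfg, hc⟩ := exists_isContent_of_projective x'
  exact ⟨Q₀, hfg, isContent_of_univInj (g.restrictScalars A) hg (actN A T N t)
    (fun Q' _ _ => lTensor_injective_of_isUnit _ (isUnit_actN A T N t) Q') x x' hx' Q₀ hc⟩

theorem univInj_of_injective_mod_maximal (g : N' →ₗ[C] N) (hbc : IsBaseChange (Localization T) g)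
    [Module.Projective A N'] (hg : FlatCA.UnivInj A (g.restrictScalars A))
    (M : Type u) [AddCommGroup M] [Module A M] [Module.Flat A M] (u : N →ₗ[A] M)
    (hmax : ∀ (m : Ideal A) [m.IsMaximal], Function.Injective (u.lTensor (A ⧸ m))) :
    FlatCA.UnivInj A u := by
  intro Q _ _
  rw [injective_iff_map_eq_zero]
  intro x hx
  obtain ⟨Q₀, hfg, hc⟩ := exists_isContent A T C g hbc hg Q x
  exact eq_zero_of_isContent u hmax x hx Q₀ hfg hc

theorem rTensor_mkQ_one_tmul_eq_zero_iff {N : Type u} [AddCommGroup N] [Module A N] (J : Ideal A)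
    (x : N) : (Submodule.mkQ J).rTensor N ((1 : A) ⊗ₜ[A] x) = 0 ↔ x ∈ J • (⊤ : Submodule A N) := by
  have h := LinearMap.congr_fun (TensorProduct.quotTensorEquivQuotSMul_comp_mkQ_rTensor (M := N) J)
    ((1 : A) ⊗ₜ[A] x)
  rw [LinearMap.comp_apply, LinearMap.comp_apply, LinearEquiv.coe_toLinearMap,
    LinearEquiv.coe_toLinearMap, TensorProduct.lid_tmul, one_smul, Submodule.mkQ_apply] at h
  rw [← (TensorProduct.quotTensorEquivQuotSMul N J).map_eq_zero_iff, h,
    Submodule.Quotient.mk_eq_zero]

theorem exists_content_ideal (g : N' →ₗ[C] N) (hbc : IsBaseChange (Localization T) g)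
    [Module.Projective A N'] (hg : FlatCA.UnivInj A (g.restrictScalars A)) (x : N) :
    ∃ I : Ideal A, x ∈ I • (⊤ : Submodule A N) ∧
      ∀ J : Ideal A, x ∈ J • (⊤ : Submodule A N) → I ≤ J := by
  obtain ⟨I, -, h0, hmin⟩ := exists_isContent A T C g hbc hg A ((1 : A) ⊗ₜ[A] x)
  refine ⟨I, (rTensor_mkQ_one_tmul_eq_zero_iff A I x).mp h0, fun J hJ => ?_⟩
  exact hmin J ((rTensor_mkQ_one_tmul_eq_zero_iff A J x).mpr hJ)

end Final

end Groth.Agent.H32.PureSpreadoutContent
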