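import Groth.Agent.H32.RGLocalE

/-!
# Flatness and universal injectivity, global form: general lemmas on universal injectivity
-/

set_option autoImplicit false
set_option linter.style.haveILetI false
universe u

open TensorProduct

namespace Groth.Agent.H32.RGGlobA

section

variable {R : Type u} [CommRing R] {M N P : Type u} [AddCommGroup M] [AddCommGroup N]
  [AddCommGroup P] [Module R M] [Module R N] [Module R P]

/-- the first factor of a universally injective composite is universally injective -/
theorem univInj_of_comp (f : M →ₗ[R] N) (g : N →ₗ[R] P) (h : FlatCA.UnivInj R (g ∘ₗ f)) :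
    FlatCA.UnivInj R f := by
  intro Q _ _
  have h1 := h Q
  rw [LinearMap.lTensor_comp] at h1
  exact Function.Injective.of_comp h1

theorem univInj_comp (f : M →ₗ[R] N) (g : N →ₗ[R] P) (hf : FlatCA.UnivInj R f)
    (hg : FlatCA.UnivInj R g) : FlatCA.UnivInj R (g ∘ₗ f) := by
  intro Q _ _
  rw [LinearMap.lTensor_comp]
  exact (hg Q).comp (hf Q)

theorem univInj_equiv (e : M ≃ₗ[R] N) : FlatCA.UnivInj R e.toLinearMap := by
  intro Q _ _
  exact (LinearEquiv.lTensor Q e).injective

/-- precomposition with an equivalence does not affect universal injectivity -/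
theorem univInj_of_comp_equiv (e : M ≃ₗ[R] N) (g : N →ₗ[R] P)
    (h : FlatCA.UnivInj R (g ∘ₗ e.toLinearMap)) : FlatCA.UnivInj R g := by
  intro Q _ _
  have h1 := h Q
  rw [LinearMap.lTensor_comp] at h1
  have hs : Function.Surjective (e.toLinearMap.lTensor Q) := (LinearEquiv.lTensor Q e).surjective
  exact Function.Injective.of_comp_right h1 hs

theorem injective_rTensor_of_univInj (f : M →ₗ[R] N) (h : FlatCA.UnivInj R f)
    (Q : Type u) [AddCommGroup Q] [Module R Q] : Function.Injective (f.rTensor Q) := by
  have h1 := h Q
  have : f.rTensor Q = (TensorProduct.comm R Q N).toLinearMap ∘ₗ f.lTensor Q ∘ₗ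
      (TensorProduct.comm R M Q).toLinearMap := by
    ext; simp
  rw [this]
  exact (TensorProduct.comm R Q N).injective.comp (h1.comp (TensorProduct.comm R M Q).injective)

theorem univInj_of_injective_rTensor (f : M →ₗ[R] N)
    (h : ∀ (Q : Type u) [AddCommGroup Q] [Module R Q], Function.Injective (f.rTensor Q)) :
    FlatCA.UnivInj R f := by
  intro Q _ _
  have h1 := h Q
  have : f.lTensor Q = (TensorProduct.comm R N Q).toLinearMap ∘ₗ f.rTensor Q ∘ₗ
      (TensorProduct.comm R Q M).toLinearMap := by
    ext; simp
  rw [this]
  exact (TensorProduct.comm R N Q).injective.comp (h1.comp (TensorProduct.comm R Q M).injective)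

end

section

variable {R R' : Type u} [CommRing R] [CommRing R'] [Algebra R R']
  {M N : Type u} [AddCommGroup M] [AddCommGroup N] [Module R' M] [Module R' N] [Module R M]
  [Module R N] [IsScalarTower R R' M] [IsScalarTower R R' N]

/-- universal injectivity over an algebra implies universal injectivity over the base -/
theorem univInj_restrictScalars (u : M →ₗ[R'] N) (h : FlatCA.UnivInj R' u) :
    FlatCA.UnivInj R (u.restrictScalars R) := by
  apply univInj_of_injective_rTensor
  intro Q _ _
  have h1 := injective_rTensor_of_univInj u h (R' ⊗[R] Q)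
  have hnat : ∀ y : M ⊗[R'] (R' ⊗[R] Q),
      (u.restrictScalars R).rTensor Q
        (TensorProduct.AlgebraTensorModule.cancelBaseChange R R' R' M Q y) =
      TensorProduct.AlgebraTensorModule.cancelBaseChange R R' R' N Q
        (u.rTensor (R' ⊗[R] Q) y) := by
    intro y
    induction y using TensorProduct.induction_on with
    | zero => simp
    | tmul m z =>
      induction z using TensorProduct.induction_on with
      | zero => simp
      | tmul a q => simp
      | add z₁ z₂ h₁ h₂ => simp only [TensorProduct.tmul_add, map_add, h₁, h₂]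
    | add y₁ y₂ h₁ h₂ => simp only [map_add, h₁, h₂]
  rw [injective_iff_map_eq_zero]
  intro x hx
  obtain ⟨y, rfl⟩ := (TensorProduct.AlgebraTensorModule.cancelBaseChange R R' R' M Q).surjective x
  rw [hnat, LinearEquiv.map_eq_zero_iff] at hx
  have : y = 0 := h1 (by rw [hx, map_zero])
  rw [this, map_zero]

end

end Groth.Agent.H32.RGGlobA
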