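import Groth.Agent.H32.RGGlobA

/-!
# Flatness and universal injectivity, global form: the main implication

`S` a flat finitely presented `R`-algebra with geometrically integral fibres, `rr` a prime of `R`,
`P = rr S`, `q ⊇ P` a prime over `rr`.  If `N_q` is flat over `R` and `α : S^r → N` is injective on
the fibre at `P`, then the induced map `R_rr ⊗ S^r → N_q` is universally injective over `R`.
-/

set_option autoImplicit false
set_option linter.style.haveILetI false
universe u

open TensorProduct IsLocalRing

namespace Groth.Agent.H32.RGGlobB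

open Groth.Agent.H32.RGLocalA Groth.Agent.H32.RGLocalB Groth.Agent.H32.RGGlobA

section gen

variable {R S : Type u} [CommRing R] [CommRing S] [Algebra R S]
  (p q : Ideal S) [p.IsPrime] [q.IsPrime]
  (N : Type u) [AddCommGroup N] [Module S N] [Module R N] [IsScalarTower R S N]

theorem toFibre_eq_zero_of_mem' (hpq : p ≤ q) (I : Ideal R)
    (hp : I.map (algebraMap R S) ≤ p) (y : LocalizedModule q.primeCompl N)
    (hy : y ∈ (I • ⊤ : Submodule R (LocalizedModule q.primeCompl N))) :
    toFibre p q N hpq y = 0 := by
  refine Submodule.smul_induction_on hy (fun a ha z _ => ?_) (fun y₁ y₂ h₁ h₂ => ?_)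
  · rw [← algebraMap_smul S a z, map_smul]
    have hmem : algebraMap R S a ∈ p := hp (Ideal.mem_map_of_mem _ ha)
    rw [← algebraMap_smul p.ResidueField (algebraMap R S a),
      Ideal.algebraMap_residueField_eq_zero.mpr hmem, zero_smul]
  · rw [map_add, h₁, h₂, add_zero]

theorem mem_smul_top_of_coord_mem' (I : Ideal R) {r : ℕ} (x : Fin r → S)
    (hx : ∀ i, x i ∈ I.map (algebraMap R S)) :
    x ∈ (I • ⊤ : Submodule R (Fin r → S)) := by
  have hx' : ∀ i, x i ∈ (I • ⊤ : Submodule R S) := fun i => by
    rw [Ideal.smul_top_eq_map]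
    exact hx i
  have hsum : x = ∑ i, (LinearMap.single R (fun _ : Fin r => S) i) (x i) := by
    ext j
    simp [Finset.sum_apply, Pi.single_apply]
  rw [hsum]
  refine Submodule.sum_mem _ fun i _ => ?_
  have := Submodule.mem_map_of_mem (f := LinearMap.single R (fun _ : Fin r => S) i) (hx' i)
  rw [Submodule.map_smul''] at this
  exact Submodule.smul_mono le_rfl le_top this

/-- elements of `R` outside the contraction of `q` act invertibly on localizations at `q` -/
theorem isUnit_algebraMap_end_localizedModule (t : R) (ht : algebraMap R S t ∉ q) :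
    IsUnit (algebraMap R (Module.End R (LocalizedModule q.primeCompl N)) t) := by
  have h := IsLocalizedModule.map_units (LocalizedModule.mkLinearMap q.primeCompl N)
    (⟨algebraMap R S t, ht⟩ : q.primeCompl)
  rw [Module.End.isUnit_iff] at h ⊢
  have heq : ∀ y : LocalizedModule q.primeCompl N,
      algebraMap R (Module.End R (LocalizedModule q.primeCompl N)) t y =
      algebraMap S (Module.End S (LocalizedModule q.primeCompl N)) (algebraMap R S t) y := by
    intro y
    rw [Module.algebraMap_end_apply, Module.algebraMap_end_apply, algebraMap_smul]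
  constructor
  · intro a b hab
    apply h.1
    rw [← heq, ← heq]
    exact hab
  · intro y
    obtain ⟨z, hz⟩ := h.2 y
    exact ⟨z, (heq z).trans hz⟩

end gen

section core

variable {R S : Type u} [CommRing R] [CommRing S] [Algebra R S]
  (rr : Ideal R) [rr.IsPrime] (P q : Ideal S) [P.IsPrime] [q.IsPrime] [q.LiesOver rr]
  (N : Type u) [AddCommGroup N] [Module S N] [Module R N] [IsScalarTower R S N]
  {r : ℕ} (α : (Fin r → S) →ₗ[S] N)

theorem algebraMap_notMem_of_liesOver (t : rr.primeCompl) : algebraMap R S t ∉ q := by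
  intro h
  apply t.2
  have h1 : (t : R) ∈ q.under R := h
  rwa [← Ideal.LiesOver.over (P := q) (p := rr)] at h1

/-- the `R`-linear map `S^r → N_q` -/
noncomputable def phi0 : (Fin r → S) →ₗ[R] LocalizedModule q.primeCompl N :=
  ((LocalizedModule.mkLinearMap q.primeCompl N) ∘ₗ α).restrictScalars R

/-- the induced map from the localization of `S^r` at `rr` to `N_q` -/
noncomputable def chi :
    Localization.AtPrime rr ⊗[R] (Fin r → S) →ₗ[R] LocalizedModule q.primeCompl N :=
  IsLocalizedModule.lift rr.primeCompl
    (TensorProduct.mk R (Localization.AtPrime rr) (Fin r → S) 1) (phi0 q N α)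
    (fun t => isUnit_algebraMap_end_localizedModule q N (t : R)
      (algebraMap_notMem_of_liesOver rr q t))

theorem chi_one_tmul (x : Fin r → S) :
    chi rr q N α (1 ⊗ₜ x) = LocalizedModule.mkLinearMap q.primeCompl N (α x) :=
  IsLocalizedModule.lift_apply rr.primeCompl
    (TensorProduct.mk R (Localization.AtPrime rr) (Fin r → S) 1) (phi0 q N α) _ x

end core

section main

variable {R S : Type u} [CommRing R] [CommRing S] [Algebra R S]
  [Algebra.FinitePresentation R S] [Module.Flat R S]
  (hgi : FlatCA.GeomIntegralFibres R S)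
  (rr : Ideal R) [rr.IsPrime] (P q : Ideal S) [P.IsPrime] [q.IsPrime] [q.LiesOver rr]
  (N : Type u) [AddCommGroup N] [Module S N] [Module R N] [IsScalarTower R S N]
  {r : ℕ} (α : (Fin r → S) →ₗ[S] N)

attribute [local instance] Algebra.TensorProduct.rightAlgebra

include hgi in
theorem isMittagLeffler_tensor_pi (r : ℕ) :
    CAlg.IsMittagLeffler (Localization.AtPrime rr)
      (Localization.AtPrime rr ⊗[R] (Fin r → S)) := by
  have hgi' : FlatCA.GeomIntegralFibres (Localization.AtPrime rr)
      (Localization.AtPrime rr ⊗[R] S) :=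
    Groth.Agent.H6.GeomIntFibres.of_isPushout hgi _ _
  have h1 := Groth.Agent.H32.RGLocalA.isMittagLeffler_pi_fin hgi' r
  exact Groth.Agent.H32.isMittagLeffler_of_equiv _
    (TensorProduct.piRight R (Localization.AtPrime rr) (Localization.AtPrime rr)
      (fun _ : Fin r => S)).symm h1

include hgi in
theorem univInj_chi (hP : P = rr.map (algebraMap R S)) (hPq : P ≤ q)
    (hflat : Module.Flat R (LocalizedModule q.primeCompl N))
    (hβ : Function.Injective (α.baseChange P.ResidueField)) :
    FlatCA.UnivInj R (chi rr q N α) := by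
  let R' := Localization.AtPrime rr
  let S' := Localization.AtPrime q
  letI : Algebra R' S' := Localization.AtPrime.algebraOfLiesOver rr q
  let Nq := LocalizedModule q.primeCompl N
  letI : Module R' Nq := Module.compHom Nq (algebraMap R' S')
  haveI : IsScalarTower R' S' Nq := ⟨fun r s n => by
    change (r • s) • n = (algebraMap R' S' r) • (s • n)
    rw [Algebra.smul_def, mul_smul]⟩
  haveI : IsScalarTower R R' Nq := ⟨fun a r n => by
    change (algebraMap R' S' (a • r)) • n = a • ((algebraMap R' S' r) • n)
    rw [← smul_assoc]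
    congr 1
    rw [Algebra.smul_def, map_mul, ← IsScalarTower.algebraMap_apply R R' S', Algebra.smul_def]⟩
  haveI : Module.Flat R' Nq := (Module.flat_iff_of_isLocalization R' rr.primeCompl Nq).mpr hflat
  let ψ : R' ⊗[R] (Fin r → S) →ₗ[R'] Nq := LinearMap.liftBaseChange R' (phi0 q N α)
  have hψ1 : ∀ x : Fin r → S, ψ (1 ⊗ₜ x) = LocalizedModule.mkLinearMap q.primeCompl N (α x) := by
    intro x
    simp only [ψ, LinearMap.liftBaseChange_tmul, one_smul]
    rfl
  have hψχ : ψ.restrictScalars R = chi rr q N α := by
    symm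
    apply IsLocalizedModule.lift_unique
    refine LinearMap.ext fun x => ?_
    exact hψ1 x
  rw [← hψχ]
  apply univInj_restrictScalars
  haveI : Module.Flat R (Fin r → S) := flat_pi_fin R S r
  haveI : Module.Flat R' (R' ⊗[R] (Fin r → S)) := inferInstance
  apply Groth.Agent.H32.UnivInjOfML.univInj_of_flat_mittagLeffler
    (isMittagLeffler_tensor_pi hgi rr r)
  rw [Groth.Agent.H2.lTensor_quotient_injective_iff]
  intro x hx
  -- the map to the fibre kills `𝔪' • ⊤`
  have hkill : ∀ y ∈ (maximalIdeal R' • ⊤ : Submodule R' Nq), toFibre P q N hPq y = 0 := by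
    intro y hy
    refine Submodule.smul_induction_on hy (fun a' ha' z _ => ?_) (fun y₁ y₂ h₁ h₂ => ?_)
    · obtain ⟨a, s, rfl⟩ := IsLocalization.exists_mk'_eq rr.primeCompl a'
      have ha : a ∈ rr := (IsLocalization.AtPrime.mk'_mem_maximal_iff R' rr a s).mp ha'
      have h1 : (algebraMap R S (s : R)) • (IsLocalization.mk' R' a s • z) =
          (algebraMap R S a) • z := by
        rw [algebraMap_smul, algebraMap_smul, ← smul_assoc]
        have : (s : R) • IsLocalization.mk' R' a s = algebraMap R R' a := by
          rw [Algebra.smul_def, IsLocalization.mk'_spec']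
        rw [this, algebraMap_smul]
      have h3 : (algebraMap R S (s : R)) •
          toFibre P q N hPq (IsLocalization.mk' R' a s • z) = 0 := by
        rw [← map_smul, h1, map_smul]
        have hmem : algebraMap R S a ∈ P := by
          rw [hP]
          exact Ideal.mem_map_of_mem _ ha
        rw [← algebraMap_smul P.ResidueField (algebraMap R S a),
          Ideal.algebraMap_residueField_eq_zero.mpr hmem, zero_smul]
      have hu := isUnit_algebraMap_end P N (algebraMap R S (s : R))
        (fun h => algebraMap_notMem_of_liesOver rr q s (hPq h))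
      rw [Module.End.isUnit_iff] at hu
      apply hu.1
      rw [Module.algebraMap_end_apply, Module.algebraMap_end_apply, smul_zero]
      exact h3
    · rw [map_add, h₁, h₂, add_zero]
  obtain ⟨⟨x0, t⟩, hxt⟩ := IsLocalizedModule.surj rr.primeCompl
    (TensorProduct.mk R R' (Fin r → S) 1) x
  have hxt' : (t : R) • x = (1 : R') ⊗ₜ[R] x0 := hxt
  have h1 : ψ ((t : R) • x) ∈ (maximalIdeal R' • ⊤ : Submodule R' Nq) := by
    rw [LinearMap.map_smul_of_tower]
    exact Submodule.smul_of_tower_mem _ (t : R) hx
  rw [hxt', hψ1] at h1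
  have h2 := hkill _ h1
  rw [toFibre_mk] at h2
  have h3 : α.baseChange P.ResidueField (1 ⊗ₜ x0) = 0 := by
    rw [LinearMap.baseChange_tmul]
    exact h2
  have h4 : (1 : P.ResidueField) ⊗ₜ[S] x0 = 0 := hβ (by rw [h3, map_zero])
  have h5 : x0 ∈ (rr • ⊤ : Submodule R (Fin r → S)) := by
    apply mem_smul_top_of_coord_mem'
    intro i
    rw [← hP]
    exact coord_mem_of_one_tmul_eq_zero P x0 h4 i
  have h6 : (1 : R') ⊗ₜ[R] x0 ∈
      (maximalIdeal R' • ⊤ : Submodule R' (R' ⊗[R] (Fin r → S))) := by
    refine Submodule.smul_induction_on h5 (fun a ha m _ => ?_) (fun y₁ y₂ h₁ h₂ => ?_)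
    · have : (1 : R') ⊗ₜ[R] (a • m) = (algebraMap R R' a) • ((1 : R') ⊗ₜ[R] m) := by
        rw [TensorProduct.tmul_smul, algebraMap_smul]
      rw [this]
      apply Submodule.smul_mem_smul _ Submodule.mem_top
      exact (IsLocalization.AtPrime.to_map_mem_maximal_iff R' rr a).mpr ha
    · rw [TensorProduct.tmul_add]
      exact Submodule.add_mem _ h₁ h₂
  rw [← hxt'] at h6
  have hu : IsUnit (algebraMap R R' (t : R)) := IsLocalization.map_units R' t
  obtain ⟨u, hu'⟩ := hu
  have hx' : x = (↑u⁻¹ : R') • ((t : R) • x) := by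
    rw [← algebraMap_smul R' (t : R) x, ← hu', smul_smul, Units.inv_mul, one_smul]
  rw [hx']
  exact Submodule.smul_mem _ _ h6

end main

end Groth.Agent.H32.RGGlobB
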