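import Groth.Agent.H32.RGGlobB

/-!
# Flatness and universal injectivity, global form: consequences of the main implication

Universal injectivity of the localization of `α` at the image of `R ∖ rr`, and flatness of the
cokernel at `q`.
-/

set_option autoImplicit false
set_option linter.style.haveILetI false
universe u

open TensorProduct IsLocalRing

namespace Groth.Agent.H32.RGGlobC

open Groth.Agent.H32.RGLocalA Groth.Agent.H32.RGLocalB Groth.Agent.H32.RGGlobA
  Groth.Agent.H32.RGGlobB

section

variable {R S : Type u} [CommRing R] [CommRing S] [Algebra R S]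
  (q : Ideal S) [q.IsPrime]
  (N : Type u) [AddCommGroup N] [Module S N] [Module R N] [IsScalarTower R S N]

/-- the submodule `I • ⊤` of a localized module is stable under division -/
theorem divBy_mem_smul_top' (I : Ideal R) (t : q.primeCompl) (y : LocalizedModule q.primeCompl N)
    (hy : y ∈ (I • ⊤ : Submodule R (LocalizedModule q.primeCompl N))) :
    LocalizedModule.divBy t y ∈ (I • ⊤ : Submodule R (LocalizedModule q.primeCompl N)) := by
  have := Submodule.mem_map_of_mem (f := (LocalizedModule.divBy t).restrictScalars R) hy
  rw [Submodule.map_smul''] at this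
  exact Submodule.smul_mono le_rfl le_top this

theorem smul_mem_smul_top' (I : Ideal R) (t : S) (y : LocalizedModule q.primeCompl N)
    (hy : y ∈ (I • ⊤ : Submodule R (LocalizedModule q.primeCompl N))) :
    t • y ∈ (I • ⊤ : Submodule R (LocalizedModule q.primeCompl N)) := by
  have := Submodule.mem_map_of_mem
    (f := (LinearMap.lsmul S (LocalizedModule q.primeCompl N) t).restrictScalars R) hy
  rw [Submodule.map_smul''] at this
  exact Submodule.smul_mono le_rfl le_top this

theorem map_mem_smul_top {M M' : Type u} [AddCommGroup M] [AddCommGroup M'] [Module R M]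
    [Module R M'] (f : M →ₗ[R] M') (I : Ideal R) (y : M)
    (hy : y ∈ (I • ⊤ : Submodule R M)) : f y ∈ (I • ⊤ : Submodule R M') := by
  have := Submodule.mem_map_of_mem (f := f) hy
  rw [Submodule.map_smul''] at this
  exact Submodule.smul_mono le_rfl le_top this

end

section main

variable {R S : Type u} [CommRing R] [CommRing S] [Algebra R S]
  (rr : Ideal R) [rr.IsPrime] (q : Ideal S) [q.IsPrime] [q.LiesOver rr]
  (N : Type u) [AddCommGroup N] [Module S N] [Module R N] [IsScalarTower R S N]
  {r : ℕ} (α : (Fin r → S) →ₗ[S] N)

theorem algebraMapSubmonoid_le_primeCompl :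
    Algebra.algebraMapSubmonoid S rr.primeCompl ≤ q.primeCompl := by
  rintro _ ⟨t, ht, rfl⟩
  exact algebraMap_notMem_of_liesOver rr q ⟨t, ht⟩

/-- the comparison map from the localization at the image of `R ∖ rr` to the localization at `q` -/
noncomputable def toLocQ :
    LocalizedModule (Algebra.algebraMapSubmonoid S rr.primeCompl) N →ₗ[S]
      LocalizedModule q.primeCompl N :=
  IsLocalizedModule.lift (Algebra.algebraMapSubmonoid S rr.primeCompl)
    (LocalizedModule.mkLinearMap (Algebra.algebraMapSubmonoid S rr.primeCompl) N)
    (LocalizedModule.mkLinearMap q.primeCompl N)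
    (fun s => IsLocalizedModule.map_units (LocalizedModule.mkLinearMap q.primeCompl N)
      (⟨s.1, algebraMapSubmonoid_le_primeCompl rr q s.2⟩ : q.primeCompl))

theorem toLocQ_mk (n : N) :
    toLocQ rr q N (LocalizedModule.mkLinearMap (Algebra.algebraMapSubmonoid S rr.primeCompl) N n) =
      LocalizedModule.mkLinearMap q.primeCompl N n :=
  IsLocalizedModule.lift_apply _ _ _ _ n

/-- universal injectivity of `chi` gives universal injectivity of the localization of `α` at the
image of `R ∖ rr` -/
theorem univInj_map_of_univInj_chi (h : FlatCA.UnivInj R (chi rr q N α)) :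
    FlatCA.UnivInj R
      ((LocalizedModule.map (Algebra.algebraMapSubmonoid S rr.primeCompl) α).restrictScalars R) := by
  haveI : IsLocalizedModule rr.primeCompl
      ((LocalizedModule.mkLinearMap (Algebra.algebraMapSubmonoid S rr.primeCompl)
        (Fin r → S)).restrictScalars R) :=
    IsLocalizedModule.restrictScalars rr.primeCompl _
  let e : Localization.AtPrime rr ⊗[R] (Fin r → S) ≃ₗ[R]
      LocalizedModule (Algebra.algebraMapSubmonoid S rr.primeCompl) (Fin r → S) :=
    IsLocalizedModule.linearEquiv rr.primeCompl
      (TensorProduct.mk R (Localization.AtPrime rr) (Fin r → S) 1)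
      ((LocalizedModule.mkLinearMap (Algebra.algebraMapSubmonoid S rr.primeCompl)
        (Fin r → S)).restrictScalars R)
  have hχ : chi rr q N α =
      ((toLocQ rr q N).restrictScalars R ∘ₗ
        (LocalizedModule.map (Algebra.algebraMapSubmonoid S rr.primeCompl) α).restrictScalars R) ∘ₗ
        e.toLinearMap := by
    apply IsLocalizedModule.lift_unique
    refine LinearMap.ext fun x => ?_
    have h1 : e ((TensorProduct.mk R (Localization.AtPrime rr) (Fin r → S) 1) x) =
        LocalizedModule.mkLinearMap (Algebra.algebraMapSubmonoid S rr.primeCompl) (Fin r → S) x :=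
      IsLocalizedModule.linearEquiv_apply rr.primeCompl _ _ x
    simp only [LinearMap.coe_comp, Function.comp_apply, LinearEquiv.coe_coe,
      LinearMap.coe_restrictScalars]
    rw [h1, LocalizedModule.mkLinearMap_apply, LocalizedModule.map_mk,
      ← LocalizedModule.mkLinearMap_apply, toLocQ_mk]
    rfl
  rw [hχ] at h
  exact univInj_of_comp _ _ (univInj_of_comp_equiv e _ h)

end main

section coker

variable {R S : Type u} [CommRing R] [CommRing S] [Algebra R S]
  (rr : Ideal R) [rr.IsPrime] (q : Ideal S) [q.IsPrime] [q.LiesOver rr]
  (N : Type u) [AddCommGroup N] [Module S N] [Module R N] [IsScalarTower R S N]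
  {r : ℕ} (α : (Fin r → S) →ₗ[S] N)

theorem flat_coker_of_univInj_chi (hflat : Module.Flat R (LocalizedModule q.primeCompl N))
    (h : FlatCA.UnivInj R (chi rr q N α)) :
    Module.Flat R (LocalizedModule q.primeCompl (N ⧸ LinearMap.range α)) := by
  have h' : ∀ (I : Ideal R) (x : Localization.AtPrime rr ⊗[R] (Fin r → S)),
      chi rr q N α x ∈ (I • ⊤ : Submodule R (LocalizedModule q.primeCompl N)) →
      x ∈ (I • ⊤ : Submodule R (Localization.AtPrime rr ⊗[R] (Fin r → S))) := fun I =>
    (Groth.Agent.H2.lTensor_quotient_injective_iff I _).mp (h (R ⧸ I))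
  have hex : Function.Exact (LocalizedModule.map q.primeCompl α)
      (LocalizedModule.map q.primeCompl (LinearMap.range α).mkQ) :=
    LocalizedModule.map_exact q.primeCompl α (LinearMap.range α).mkQ
      (LinearMap.exact_map_mkQ_range α)
  have hsurj : Function.Surjective (LocalizedModule.map q.primeCompl (LinearMap.range α).mkQ) :=
    LocalizedModule.map_surjective q.primeCompl _ (Submodule.mkQ_surjective _)
  refine (Groth.Agent.H56.FlatDesc.injective_and_flat_of_forall_ideal
    ((LocalizedModule.map q.primeCompl α).restrictScalars R)
    ((LocalizedModule.map q.primeCompl (LinearMap.range α).mkQ).restrictScalars R) hex hsurj ?_).2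
  intro I y hy
  induction y using LocalizedModule.induction_on with
  | h x t =>
    have h1 : (LocalizedModule.map q.primeCompl α) (LocalizedModule.mk x t) =
        LocalizedModule.mk (α x) t := LocalizedModule.map_mk _ _ _ _
    have h2 : LocalizedModule.mkLinearMap q.primeCompl N (α x) =
        (t : S) • LocalizedModule.mk (α x) t := by
      rw [LocalizedModule.mkLinearMap_apply, LocalizedModule.smul'_mk]
      exact (LocalizedModule.mk_cancel t (α x)).symm
    have h3 : LocalizedModule.mkLinearMap q.primeCompl N (α x) ∈
        (I • ⊤ : Submodule R (LocalizedModule q.primeCompl N)) := by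
      rw [h2]
      apply smul_mem_smul_top'
      rw [← h1]
      exact hy
    have h4 := h' I ((1 : Localization.AtPrime rr) ⊗ₜ[R] x) (by rw [chi_one_tmul]; exact h3)
    have h5 : LocalizedModule.mkLinearMap q.primeCompl (Fin r → S) x ∈
        (I • ⊤ : Submodule R (LocalizedModule q.primeCompl (Fin r → S))) := by
      have := map_mem_smul_top (chi rr q (Fin r → S) LinearMap.id) I _ h4
      rwa [chi_one_tmul] at this
    have h6 := divBy_mem_smul_top' q (Fin r → S) I t _ h5
    rw [LocalizedModule.mkLinearMap_apply, LocalizedModule.divBy_apply] at h6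
    convert h6 using 1
    simp [LocalizedModule.liftOn_mk]

end coker

end Groth.Agent.H32.RGGlobC
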