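import Groth.Agent.H32.RGGlobC
import Groth.Agent.H32.LocalUnivInj

/-!
# Flatness and universal injectivity, global form: spreading out universal injectivity
-/

set_option autoImplicit false
set_option linter.style.haveILetI false
universe u

open TensorProduct

namespace Groth.Agent.H32.RGGlobD

open Groth.Agent.H32.RGLocalD

section inj

variable {S : Type u} [CommRing S] {T U : Submonoid S} {M N : Type u} [AddCommGroup M]
  [Module S M] [AddCommGroup N] [Module S N]

/-- injectivity of a localized map passes to localizations at larger submonoids -/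
theorem injective_map_of_le (hTU : T ≤ U) (α : M →ₗ[S] N)
    (h : Function.Injective (LocalizedModule.map T α)) :
    Function.Injective (LocalizedModule.map U α) := by
  rw [injective_iff_map_eq_zero]
  intro y hy
  induction y using LocalizedModule.induction_on with
  | h m u =>
    rw [LocalizedModule.map_mk, mk_eq_zero_iff'] at hy
    obtain ⟨c, hc⟩ := hy
    have hc' : (c : S) • α m = 0 := hc
    have h1 : LocalizedModule.map T α (LocalizedModule.mk ((c : S) • m) 1) = 0 := by
      rw [LocalizedModule.map_mk, map_smul, hc', LocalizedModule.zero_mk]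
    have h2 := h (h1.trans (map_zero _).symm)
    rw [mk_eq_zero_iff'] at h2
    obtain ⟨s, hs⟩ := h2
    have hs' : (s : S) • (c : S) • m = 0 := hs
    rw [mk_eq_zero_iff']
    refine ⟨⟨(s : S) * (c : S), U.mul_mem (hTU s.2) c.2⟩, ?_⟩
    change ((s : S) * (c : S)) • m = 0
    rw [mul_smul, hs']

end inj

section open_

variable {R S : Type u} [CommRing R] [CommRing S] [Algebra R S]
  [Algebra.FinitePresentation R S] [Module.Flat R S]

/-- an element not in the prime `P` over `rr` stays outside `p S` for all `p` near `rr` -/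
theorem exists_notMem_forall_notMem_map (rr : Ideal R) [rr.IsPrime] (P : Ideal S) [P.IsPrime]
    (hP : P.comap (algebraMap R S) = rr) (h : S) (hh : h ∉ P) :
    ∃ f : R, f ∉ rr ∧ ∀ (p : Ideal R) [p.IsPrime], f ∉ p → h ∉ p.map (algebraMap R S) := by
  have hopen := PrimeSpectrum.isOpenMap_comap_of_hasGoingDown_of_finitePresentation
    (R := R) (S := S)
  have hU : IsOpen (PrimeSpectrum.comap (algebraMap R S) ''
      (PrimeSpectrum.basicOpen h : Set (PrimeSpectrum S))) :=
    hopen _ (PrimeSpectrum.basicOpen h).isOpen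
  have hmem : (⟨rr, inferInstance⟩ : PrimeSpectrum R) ∈
      PrimeSpectrum.comap (algebraMap R S) '' (PrimeSpectrum.basicOpen h : Set (PrimeSpectrum S)) :=
    ⟨⟨P, inferInstance⟩, hh, PrimeSpectrum.ext hP⟩
  obtain ⟨_, ⟨f, rfl⟩, hf1, hf2⟩ :=
    PrimeSpectrum.isTopologicalBasis_basic_opens.exists_subset_of_mem_open hmem hU
  refine ⟨f, hf1, fun p _ hfp hhp => ?_⟩
  have hp : (⟨p, inferInstance⟩ : PrimeSpectrum R) ∈
      (PrimeSpectrum.basicOpen f : Set (PrimeSpectrum R)) := hfp
  obtain ⟨Q, hQ1, hQ2⟩ := hf2 hp
  apply hQ1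
  have hle : p.map (algebraMap R S) ≤ Q.asIdeal := by
    rw [Ideal.map_le_iff_le_comap]
    exact (congrArg PrimeSpectrum.asIdeal hQ2).ge
  exact hle hhp

end open_

section reg

variable {R S : Type u} [CommRing R] [CommRing S] [Algebra R S] [Module.Flat R S]

/-- an element which is nonzero on the fibre over `p` (a domain) acts injectively on the fibre of a
finite free module -/
theorem isSMulRegular_pi_tensor_residueField (p : Ideal R) [p.IsPrime] [IsDomain (p.Fiber S)]
    (r : ℕ) (h : S) (hh : h ∉ p.map (algebraMap R S)) :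
    IsSMulRegular ((Fin r → S) ⊗[R] p.ResidueField) h := by
  classical
  let e : (Fin r → S) ⊗[R] p.ResidueField ≃ₗ[R] (Fin r → p.ResidueField ⊗[R] S) :=
    (TensorProduct.comm R _ _) ≪≫ₗ
      (TensorProduct.piRight R R p.ResidueField (fun _ : Fin r => S))
  have he : ∀ (z : (Fin r → S) ⊗[R] p.ResidueField) (i : Fin r),
      e (h • z) i = ((1 : p.ResidueField) ⊗ₜ[R] h) * e z i := by
    intro z i
    induction z using TensorProduct.induction_on with
    | zero => simp
    | tmul x k =>
      simp [e, TensorProduct.smul_tmul', Algebra.TensorProduct.tmul_mul_tmul]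
    | add a b ha hb =>
      rw [smul_add, map_add, Pi.add_apply, ha, hb, map_add, Pi.add_apply, mul_add]
  have hne : (1 : p.ResidueField) ⊗ₜ[R] h ≠ (0 : p.Fiber S) := fun h0 =>
    hh (Groth.Agent.H6.GeomIntFibres.mem_map_of_one_tmul_eq_zero p h0)
  intro a b hab
  have h1 : h • (a - b) = 0 := by
    rw [smul_sub, sub_eq_zero]
    exact hab
  have h2 : e (a - b) = 0 := by
    funext i
    have := he (a - b) i
    rw [h1, map_zero, Pi.zero_apply] at this
    exact (mul_eq_zero.mp this.symm).resolve_left hne
  have h3 : a - b = 0 := e.map_eq_zero_iff.mp h2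
  exact sub_eq_zero.mp h3

end reg

section U

variable {R S : Type u} [CommRing R] [CommRing S] [Algebra R S]
  [Algebra.FinitePresentation R S] [Module.Flat R S]
  (hdom : ∀ (p : Ideal R) [p.IsPrime], IsDomain (p.Fiber S))
  (f : R) (h : S)
  (H : ∀ (p : Ideal R) [p.IsPrime], f ∉ p → h ∉ p.map (algebraMap R S))
  (r : ℕ) (Q : Type u) [AddCommGroup Q] [Module R Q]

include hdom H in
theorem exists_pow_smul_eq_zero (y : (Fin r → S) ⊗[R] Q) (hy : h • y = 0) :
    ∃ m : ℕ, (algebraMap R S f) ^ m • y = 0 := by
  by_contra hcon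
  push Not at hcon
  set I : Ideal S := LinearMap.ker (LinearMap.toSpanSingleton S ((Fin r → S) ⊗[R] Q) y) with hIdef
  have hmemI : ∀ t : S, t ∈ I ↔ t • y = 0 := by
    intro t
    rw [hIdef, LinearMap.mem_ker, LinearMap.toSpanSingleton_apply]
  have hdisj : Disjoint (I : Set S) (Submonoid.powers (algebraMap R S f)) := by
    rw [Set.disjoint_left]
    rintro _ hx ⟨m, rfl⟩
    exact hcon m ((hmemI _).mp hx)
  obtain ⟨q, hq, hIq, hqdisj⟩ := Ideal.exists_le_prime_disjoint I _ hdisj
  haveI := hq
  set p : Ideal R := q.under R with hp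
  haveI : p.IsPrime := Ideal.IsPrime.under R q
  haveI : q.LiesOver p := ⟨rfl⟩
  have hfp : f ∉ p := by
    intro hf
    have hfq : algebraMap R S f ∈ q := hf
    exact Set.disjoint_left.mp hqdisj hfq (Submonoid.mem_powers _)
  haveI := hdom p
  have hs := isSMulRegular_pi_tensor_residueField p r h (H p hfp)
  haveI : Module.Flat R (Fin r → S) := Groth.Agent.H32.RGLocalB.flat_pi_fin R S r
  have hflatq : Module.Flat R (LocalizedModule q.primeCompl (Fin r → S)) :=
    Groth.Agent.H1.FlatLocus.flat_of_isLocalizedModule_algebra (R := R) q.primeCompl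
      (LocalizedModule.mkLinearMap q.primeCompl (Fin r → S))
  have hUI := Groth.Agent.H32.LocalUnivInj.univInj_lsmul_localizedModule (Fin r → S) p q hflatq h hs
  let φ := AlgebraTensorModule.rTensor R Q (LocalizedModule.mkLinearMap q.primeCompl (Fin r → S))
  have hloc : IsLocalizedModule q.primeCompl φ := inferInstance
  have h1 : h • φ y = 0 := by rw [← map_smul, hy, map_zero]
  have h2 : ((LinearMap.lsmul S (LocalizedModule q.primeCompl (Fin r → S)) h).restrictScalars
      R).rTensor Q (φ y) = 0 := by
    rw [← h1]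
    generalize φ y = w
    induction w using TensorProduct.induction_on with
    | zero => simp
    | tmul n q =>
      simp only [LinearMap.rTensor_tmul, LinearMap.coe_restrictScalars, LinearMap.lsmul_apply]
      rfl
    | add a b ha hb => rw [map_add, smul_add, ha, hb]
  have hinj := Groth.Agent.H32.RGGlobA.injective_rTensor_of_univInj _ hUI Q
  have h4 : φ y = 0 := hinj (by rw [h2, map_zero])
  obtain ⟨t, ht⟩ := (IsLocalizedModule.eq_zero_iff q.primeCompl φ).mp h4
  have : (t : S) ∈ I := (hmemI t).mpr ht
  exact t.2 (hIq this)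

include hdom H in
theorem exists_pow_smul_eq_zero_of_pow (l : ℕ) (y : (Fin r → S) ⊗[R] Q) (hy : h ^ l • y = 0) :
    ∃ m : ℕ, (algebraMap R S f) ^ m • y = 0 := by
  induction l generalizing y with
  | zero =>
    refine ⟨0, ?_⟩
    rwa [pow_zero, one_smul] at hy ⊢
  | succ l ih =>
    have h1 : h • (h ^ l • y) = 0 := by rw [smul_smul, ← pow_succ']; exact hy
    obtain ⟨m, hm⟩ := exists_pow_smul_eq_zero hdom f h H r Q _ h1
    have h2 : h ^ l • ((algebraMap R S f) ^ m • y) = 0 := by
      rw [smul_comm]; exact hm
    obtain ⟨m', hm'⟩ := ih _ h2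
    exact ⟨m' + m, by rw [pow_add, mul_smul]; exact hm'⟩

end U

section spread

variable {R S : Type u} [CommRing R] [CommRing S] [Algebra R S]
  [Algebra.FinitePresentation R S] [Module.Flat R S]
  (hdom : ∀ (p : Ideal R) [p.IsPrime], IsDomain (p.Fiber S))
  (f : R) (h : S)
  (H : ∀ (p : Ideal R) [p.IsPrime], f ∉ p → h ∉ p.map (algebraMap R S))
  (N : Type u) [AddCommGroup N] [Module S N] [Module R N] [IsScalarTower R S N]
  {r : ℕ} (α : (Fin r → S) →ₗ[S] N)

include hdom H in
theorem univInj_map_powers
    (hbij : Function.Bijective (LocalizedModule.map (Submonoid.powers h) α)) :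
    FlatCA.UnivInj R
      ((LocalizedModule.map (Submonoid.powers (algebraMap R S f)) α).restrictScalars R) := by
  apply Groth.Agent.H32.RGGlobA.univInj_of_injective_rTensor
  intro Q _ _
  set g₁ := algebraMap R S f with hg₁
  let αf : LocalizedModule (Submonoid.powers g₁) (Fin r → S) →ₗ[S]
      LocalizedModule (Submonoid.powers g₁) N :=
    (LocalizedModule.map (Submonoid.powers g₁) α).restrictScalars S
  let αh : LocalizedModule (Submonoid.powers h) (Fin r → S) →ₗ[S]
      LocalizedModule (Submonoid.powers h) N :=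
    (LocalizedModule.map (Submonoid.powers h) α).restrictScalars S
  let φM := AlgebraTensorModule.rTensor R Q
    (LocalizedModule.mkLinearMap (Submonoid.powers g₁) (Fin r → S))
  let φN := AlgebraTensorModule.rTensor R Q (LocalizedModule.mkLinearMap (Submonoid.powers g₁) N)
  haveI : IsLocalizedModule (Submonoid.powers g₁) φM := inferInstance
  haveI : IsLocalizedModule (Submonoid.powers g₁) φN := inferInstance
  let ψM := AlgebraTensorModule.rTensor R Q
    (LocalizedModule.mkLinearMap (Submonoid.powers h) (Fin r → S))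
  let ψN := AlgebraTensorModule.rTensor R Q (LocalizedModule.mkLinearMap (Submonoid.powers h) N)
  haveI : IsLocalizedModule (Submonoid.powers h) ψM := inferInstance
  haveI : IsLocalizedModule (Submonoid.powers h) ψN := inferInstance
  let A := AlgebraTensorModule.rTensor R Q α
  let Af := AlgebraTensorModule.rTensor R Q αf
  let Ah := AlgebraTensorModule.rTensor R Q αh
  have hnatf : ∀ y, Af (φM y) = φN (A y) := by
    intro y
    induction y using TensorProduct.induction_on with
    | zero => simp
    | tmul m q =>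
      simp only [Af, φM, φN, A, αf, AlgebraTensorModule.rTensor_tmul,
        LocalizedModule.mkLinearMap_apply]
      congr 1
      exact LocalizedModule.map_mk _ _ _ _
    | add a b ha hb => simp only [map_add, ha, hb]
  have hnath : ∀ y, Ah (ψM y) = ψN (A y) := by
    intro y
    induction y using TensorProduct.induction_on with
    | zero => simp
    | tmul m q =>
      simp only [Ah, ψM, ψN, A, αh, AlgebraTensorModule.rTensor_tmul,
        LocalizedModule.mkLinearMap_apply]
      congr 1
      exact LocalizedModule.map_mk _ _ _ _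
    | add a b ha hb => simp only [map_add, ha, hb]
  have hAhinj : Function.Injective Ah := by
    let E : LocalizedModule (Submonoid.powers h) (Fin r → S) ≃ₗ[R]
        LocalizedModule (Submonoid.powers h) N :=
      (LinearEquiv.ofBijective αh hbij).restrictScalars R
    exact (LinearEquiv.rTensor Q E).injective
  rw [injective_iff_map_eq_zero]
  intro x hx
  have hx' : Af x = 0 := hx
  obtain ⟨⟨y, s⟩, hys⟩ := IsLocalizedModule.surj (Submonoid.powers g₁) φM x
  have hys' : (s : S) • x = φM y := hys
  have h1 : φN (A y) = 0 := by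
    rw [← hnatf, ← hys', map_smul, hx', smul_zero]
  obtain ⟨t, ht⟩ := (IsLocalizedModule.eq_zero_iff (Submonoid.powers g₁) φN).mp h1
  obtain ⟨_, n', rfl⟩ := t
  have ht' : g₁ ^ n' • A y = 0 := ht
  have h2 : A (g₁ ^ n' • y) = 0 := by rw [map_smul]; exact ht'
  have h3 : ψM (g₁ ^ n' • y) = 0 := hAhinj (by rw [hnath, h2, map_zero, map_zero])
  obtain ⟨u, hu⟩ := (IsLocalizedModule.eq_zero_iff (Submonoid.powers h) ψM).mp h3
  obtain ⟨_, l, rfl⟩ := u
  have hu' : h ^ l • (g₁ ^ n' • y) = 0 := hu
  obtain ⟨m, hm⟩ := exists_pow_smul_eq_zero_of_pow hdom f h H r Q l _ hu'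
  have h4 : φM y = 0 := by
    rw [IsLocalizedModule.eq_zero_iff (Submonoid.powers g₁) φM]
    refine ⟨⟨g₁ ^ (m + n'), ⟨m + n', rfl⟩⟩, ?_⟩
    change g₁ ^ (m + n') • y = 0
    rw [pow_add, mul_smul]
    exact hm
  rw [h4] at hys'
  exact IsLocalizedModule.smul_injective φM s (hys'.trans (smul_zero s).symm)

end spread

end Groth.Agent.H32.RGGlobD
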