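import Groth.Agent.S6379
import Groth.Agent.H32.ContentSub

/-!
# Maps from flat Mittag-Leffler modules to flat modules over a local ring

A map `u : N → M` from a flat Mittag-Leffler module to a flat module over a local ring which is
injective modulo the maximal ideal is universally injective.
-/

set_option autoImplicit false
set_option linter.style.haveILetI false
universe u

open TensorProduct IsLocalRing

namespace Groth.Agent.H32.UnivInjOfML

theorem univInj_of_flat_mittagLeffler {R : Type u} [CommRing R] [IsLocalRing R] {N M : Type u}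
    [AddCommGroup N] [Module R N] [Module.Flat R N] (hN : CAlg.IsMittagLeffler R N)
    [AddCommGroup M] [Module R M] [Module.Flat R M] (u : N →ₗ[R] M)
    (h : Function.Injective (u.lTensor (R ⧸ maximalIdeal R))) : FlatCA.UnivInj R u := by
  intro Q _ _
  rw [injective_iff_map_eq_zero]
  intro x hx
  obtain ⟨F', hfg, hmem, hmin⟩ := Groth.Agent.S6379.result R N hN Q x
  have hex : ∀ Q₁ : Submodule R Q, Function.Exact (Q₁.subtype.rTensor N) (Q₁.mkQ.rTensor N) :=
    fun Q₁ => rTensor_exact N (LinearMap.exact_subtype_mkQ Q₁) (Submodule.mkQ_surjective Q₁)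
  have hc : Groth.Agent.H32.ContentSub.IsContent x F' := by
    refine ⟨((hex F') x).mpr hmem, fun Q₁ h0 => hmin Q₁ (((hex Q₁) x).mp h0)⟩
  refine Groth.Agent.H32.ContentSub.eq_zero_of_isContent u ?_ x hx F' hfg hc
  intro m hm
  obtain rfl : m = maximalIdeal R := IsLocalRing.eq_maximalIdeal hm
  exact h

end Groth.Agent.H32.UnivInjOfML
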