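import Groth.Agent.H32.MLGeomInt
import Groth.Agent.H32.UnivInjOfML
import Groth.Agent.H2.InjModMax
import Groth.Agent.H56.FlatDesc.Final
import Groth.Agent.H12.FlatExact

/-!
# Flatness and universal injectivity over a local base: preparations

`R` is a local ring, `S` a flat finitely presented `R`-algebra with geometrically integral fibres.
-/

set_option autoImplicit false
set_option linter.style.haveILetI false
universe u

open TensorProduct IsLocalRing

namespace Groth.Agent.H32.RGLocalA

theorem injective_of_univInj {R : Type u} [CommRing R] {M N : Type u} [AddCommGroup M]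
    [AddCommGroup N] [Module R M] [Module R N] (f : M →ₗ[R] N) (h : FlatCA.UnivInj R f) :
    Function.Injective f := by
  have h1 := h R
  have h2 : f = (TensorProduct.lid R N).toLinearMap ∘ₗ f.lTensor R ∘ₗ
      (TensorProduct.lid R M).symm.toLinearMap := by
    ext x
    simp
  rw [h2]
  exact (TensorProduct.lid R N).injective.comp (h1.comp (TensorProduct.lid R M).symm.injective)

theorem isMittagLeffler_pi_fin_of (R : Type u) [CommRing R] (M : Type u) [AddCommGroup M]
    [Module R M] (h : CAlg.IsMittagLeffler R M) (n : ℕ) : CAlg.IsMittagLeffler R (Fin n → M) := by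
  induction n with
  | zero => exact Groth.Agent.H32.isMittagLeffler_of_subsingleton R
  | succ n ih =>
    exact Groth.Agent.H32.isMittagLeffler_of_equiv R (Fin.consLinearEquiv R (fun _ : Fin (n + 1) => M))
      (Groth.Agent.H32.isMittagLeffler_prod R h ih)

section

variable {R S : Type u} [CommRing R] [IsLocalRing R] [CommRing S] [Algebra R S]
  [Algebra.FinitePresentation R S] [Module.Flat R S]

/-- elements outside the generic point of the closed fibre are nonzerodivisors -/
theorem eq_zero_of_mul_eq_zero_of_notMem (hgi : FlatCA.GeomIntegralFibres R S)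
    [((maximalIdeal R).map (algebraMap R S)).IsPrime] {s x : S}
    (hs : s ∉ (maximalIdeal R).map (algebraMap R S)) (hsx : s * x = 0) : x = 0 := by
  have hU := Groth.Agent.H32.UnivInjGenericLoc.univInj_algebraMap_atPrime (R := R) (S := S)
    (fun P _ => Groth.Agent.H6.GeomIntFibres.isDomain_fiber hgi P)
    ((maximalIdeal R).map (algebraMap R S)) le_rfl
  have hinj := injective_of_univInj _ hU
  apply hinj
  rw [map_zero]
  show algebraMap S (Localization.AtPrime ((maximalIdeal R).map (algebraMap R S))) x = 0
  have h1 : algebraMap S (Localization.AtPrime ((maximalIdeal R).map (algebraMap R S))) (s * x)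
      = 0 := by rw [hsx, map_zero]
  rw [map_mul] at h1
  have hu : IsUnit (algebraMap S (Localization.AtPrime ((maximalIdeal R).map (algebraMap R S))) s) :=
    (IsLocalization.AtPrime.isUnit_to_map_iff _ ((maximalIdeal R).map (algebraMap R S)) s).mpr hs
  exact (hu.mul_right_eq_zero).mp h1

theorem isMittagLeffler_pi_fin (hgi : FlatCA.GeomIntegralFibres R S) (n : ℕ) :
    CAlg.IsMittagLeffler R (Fin n → S) :=
  isMittagLeffler_pi_fin_of R S
    (Groth.Agent.H32.MLGeomInt.isMittagLeffler_of_geomIntegralFibres R S hgi) n

end

end Groth.Agent.H32.RGLocalA
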