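import Groth.Agent.H32.RGLocalA

/-!
# Flatness and universal injectivity over a local base: injectivity modulo the maximal ideal
-/

set_option autoImplicit false
set_option linter.style.haveILetI false
universe u

open TensorProduct IsLocalRing

namespace Groth.Agent.H32.RGLocalB

theorem flat_pi_fin (R S : Type u) [CommRing R] [CommRing S] [Algebra R S] [Module.Flat R S]
    (n : ℕ) : Module.Flat R (Fin n → S) :=
  Module.Flat.of_linearEquiv (DirectSum.linearEquivFunOnFintype R (Fin n) (fun _ => S)).symm

section

variable {R S : Type u} [CommRing R] [IsLocalRing R] [CommRing S] [Algebra R S]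
  (p q : Ideal S) [p.IsPrime] [q.IsPrime]
  (N : Type u) [AddCommGroup N] [Module S N] [Module R N] [IsScalarTower R S N]

/-- elements outside `p` act invertibly on `κ(p) ⊗ N` -/
theorem isUnit_algebraMap_end (s : S) (hs : s ∉ p) :
    IsUnit (algebraMap S (Module.End S (p.ResidueField ⊗[S] N)) s) := by
  rw [Module.End.isUnit_iff]
  have hne : algebraMap S p.ResidueField s ≠ 0 := fun h =>
    hs (Ideal.algebraMap_residueField_eq_zero.mp h)
  have hsm : ∀ y : p.ResidueField ⊗[S] N,
      algebraMap S (Module.End S (p.ResidueField ⊗[S] N)) s y = algebraMap S p.ResidueField s • y :=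
    fun y => by
      rw [Module.algebraMap_end_apply, algebraMap_smul]
  constructor
  · intro y₁ y₂ h
    rw [hsm, hsm] at h
    exact smul_right_injective _ hne h
  · intro y
    refine ⟨(algebraMap S p.ResidueField s)⁻¹ • y, ?_⟩
    rw [hsm, smul_smul, mul_inv_cancel₀ hne, one_smul]

/-- the map from the localization at `q ⊇ p` to the fibre at `p` -/
noncomputable def toFibre (hpq : p ≤ q) :
    LocalizedModule q.primeCompl N →ₗ[S] p.ResidueField ⊗[S] N :=
  IsLocalizedModule.lift q.primeCompl (LocalizedModule.mkLinearMap q.primeCompl N)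
    (TensorProduct.mk S p.ResidueField N 1)
    (fun s => isUnit_algebraMap_end p N s.1 (fun h => s.2 (hpq h)))

theorem toFibre_mk (hpq : p ≤ q) (n : N) :
    toFibre p q N hpq (LocalizedModule.mkLinearMap q.primeCompl N n) = 1 ⊗ₜ n :=
  IsLocalizedModule.lift_apply _ _ _ _ n

theorem toFibre_eq_zero_of_mem (hpq : p ≤ q)
    (hp : (maximalIdeal R).map (algebraMap R S) ≤ p) (y : LocalizedModule q.primeCompl N)
    (hy : y ∈ (maximalIdeal R • ⊤ : Submodule R (LocalizedModule q.primeCompl N))) :
    toFibre p q N hpq y = 0 := by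
  refine Submodule.smul_induction_on hy (fun a ha z _ => ?_) (fun y₁ y₂ h₁ h₂ => ?_)
  · rw [← algebraMap_smul S a z, map_smul]
    have hmem : algebraMap R S a ∈ p := hp (Ideal.mem_map_of_mem _ ha)
    rw [← algebraMap_smul p.ResidueField (algebraMap R S a),
      Ideal.algebraMap_residueField_eq_zero.mpr hmem, zero_smul]
  · rw [map_add, h₁, h₂, add_zero]

end

section

variable {R S : Type u} [CommRing R] [IsLocalRing R] [CommRing S] [Algebra R S]
  (p : Ideal S) [p.IsPrime]

/-- if `1 ⊗ x = 0` in `κ(p) ⊗ S^r` then all coordinates of `x` lie in `p` -/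
theorem coord_mem_of_one_tmul_eq_zero {r : ℕ} (x : Fin r → S)
    (hx : (1 : p.ResidueField) ⊗ₜ[S] x = 0) (i : Fin r) : x i ∈ p := by
  have h1 := congrArg (fun z => TensorProduct.piScalarRight S p.ResidueField p.ResidueField (Fin r) z i)
    hx
  simp only [TensorProduct.piScalarRight_apply, TensorProduct.piScalarRightHom_tmul, map_zero,
    Pi.zero_apply] at h1
  rw [← Ideal.algebraMap_residueField_eq_zero, Algebra.algebraMap_eq_smul_one]
  exact h1

theorem mem_smul_top_of_coord_mem {r : ℕ} (x : Fin r → S)
    (hx : ∀ i, x i ∈ (maximalIdeal R).map (algebraMap R S)) :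
    x ∈ (maximalIdeal R • ⊤ : Submodule R (Fin r → S)) := by
  have hx' : ∀ i, x i ∈ (maximalIdeal R • ⊤ : Submodule R S) := fun i => by
    rw [Ideal.smul_top_eq_map]
    exact hx i
  have hsum : x = ∑ i, (LinearMap.single R (fun _ : Fin r => S) i) (x i) := by
    ext j
    simp [Finset.sum_apply, Pi.single_apply]
  rw [hsum]
  refine Submodule.sum_mem _ fun i _ => ?_
  have := Submodule.mem_map_of_mem (f := LinearMap.single R (fun _ : Fin r => S) i) (hx' i)
  rw [Submodule.map_smul''] at this
  exact Submodule.smul_mono le_rfl le_top this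

end

end Groth.Agent.H32.RGLocalB
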