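import Groth.Agent.H32.RGLocalB

/-!
# Flatness and universal injectivity over a local base: the main implication
-/

set_option autoImplicit false
set_option linter.style.haveILetI false
universe u

open TensorProduct IsLocalRing

namespace Groth.Agent.H32.RGLocalC

open Groth.Agent.H32.RGLocalA Groth.Agent.H32.RGLocalB

section

variable {R S : Type u} [CommRing R] [IsLocalRing R] [CommRing S] [Algebra R S]
  (p q : Ideal S) [p.IsPrime] [q.IsPrime]
  (N : Type u) [AddCommGroup N] [Module S N] [Module R N] [IsScalarTower R S N]
  {r : ℕ} (α : (Fin r → S) →ₗ[S] N)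

/-- injectivity modulo the maximal ideal, elementwise -/
theorem mem_smul_top_of_mk_mem (hp : p = (maximalIdeal R).map (algebraMap R S)) (hpq : p ≤ q)
    (hβ : Function.Injective (α.baseChange p.ResidueField)) (x : Fin r → S)
    (hx : LocalizedModule.mkLinearMap q.primeCompl N (α x) ∈
      (maximalIdeal R • ⊤ : Submodule R (LocalizedModule q.primeCompl N))) :
    x ∈ (maximalIdeal R • ⊤ : Submodule R (Fin r → S)) := by
  have h1 := toFibre_eq_zero_of_mem p q N hpq hp.ge _ hx
  rw [toFibre_mk] at h1
  have h2 : α.baseChange p.ResidueField (1 ⊗ₜ x) = 0 := by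
    rw [LinearMap.baseChange_tmul]
    exact h1
  have h3 : (1 : p.ResidueField) ⊗ₜ[S] x = 0 := hβ (by rw [h2, map_zero])
  apply mem_smul_top_of_coord_mem
  intro i
  rw [← hp]
  exact coord_mem_of_one_tmul_eq_zero p x h3 i

/-- the submodule `I • ⊤` of a localized module is stable under division -/
theorem divBy_mem_smul_top (I : Ideal R) (t : q.primeCompl) (y : LocalizedModule q.primeCompl N)
    (hy : y ∈ (I • ⊤ : Submodule R (LocalizedModule q.primeCompl N))) :
    LocalizedModule.divBy t y ∈ (I • ⊤ : Submodule R (LocalizedModule q.primeCompl N)) := by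
  have := Submodule.mem_map_of_mem (f := (LocalizedModule.divBy t).restrictScalars R) hy
  rw [Submodule.map_smul''] at this
  exact Submodule.smul_mono le_rfl le_top this

theorem smul_mem_smul_top (I : Ideal R) (t : S) (y : LocalizedModule q.primeCompl N)
    (hy : y ∈ (I • ⊤ : Submodule R (LocalizedModule q.primeCompl N))) :
    t • y ∈ (I • ⊤ : Submodule R (LocalizedModule q.primeCompl N)) := by
  have := Submodule.mem_map_of_mem
    (f := (LinearMap.lsmul S (LocalizedModule q.primeCompl N) t).restrictScalars R) hy
  rw [Submodule.map_smul''] at this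
  exact Submodule.smul_mono le_rfl le_top this

end

section

variable {R S : Type u} [CommRing R] [IsLocalRing R] [CommRing S] [Algebra R S]
  [Algebra.FinitePresentation R S] [Module.Flat R S]
  (hgi : FlatCA.GeomIntegralFibres R S)
  (p q : Ideal S) [p.IsPrime] [q.IsPrime]
  (N : Type u) [AddCommGroup N] [Module S N] [Module R N] [IsScalarTower R S N]
  {r : ℕ} (α : (Fin r → S) →ₗ[S] N)

include hgi in
theorem univInj_mk_comp (hp : p = (maximalIdeal R).map (algebraMap R S)) (hpq : p ≤ q)
    (hflat : Module.Flat R (LocalizedModule q.primeCompl N))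
    (hβ : Function.Injective (α.baseChange p.ResidueField)) :
    FlatCA.UnivInj R (((LocalizedModule.mkLinearMap q.primeCompl N) ∘ₗ α).restrictScalars R) := by
  haveI := flat_pi_fin R S r
  apply Groth.Agent.H32.UnivInjOfML.univInj_of_flat_mittagLeffler
    (Groth.Agent.H32.RGLocalA.isMittagLeffler_pi_fin hgi r)
  rw [Groth.Agent.H2.lTensor_quotient_injective_iff]
  intro x hx
  exact mem_smul_top_of_mk_mem p q N α hp hpq hβ x hx

include hgi in
theorem univInj_of_flatAt (hp : p = (maximalIdeal R).map (algebraMap R S)) (hpq : p ≤ q)
    (hflat : Module.Flat R (LocalizedModule q.primeCompl N))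
    (hβ : Function.Injective (α.baseChange p.ResidueField)) :
    FlatCA.UnivInj R (α.restrictScalars R) := by
  have h := univInj_mk_comp hgi p q N α hp hpq hflat hβ
  intro Q _ _
  have h1 := h Q
  have h2 : ((LocalizedModule.mkLinearMap q.primeCompl N) ∘ₗ α).restrictScalars R =
      ((LocalizedModule.mkLinearMap q.primeCompl N).restrictScalars R) ∘ₗ
        (α.restrictScalars R) := rfl
  rw [h2, LinearMap.lTensor_comp] at h1
  exact Function.Injective.of_comp h1

include hgi in
theorem flat_coker_of_flatAt (hp : p = (maximalIdeal R).map (algebraMap R S)) (hpq : p ≤ q)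
    (hflat : Module.Flat R (LocalizedModule q.primeCompl N))
    (hβ : Function.Injective (α.baseChange p.ResidueField)) :
    Module.Flat R (LocalizedModule q.primeCompl (N ⧸ LinearMap.range α)) := by
  have h := univInj_mk_comp hgi p q N α hp hpq hflat hβ
  have h' : ∀ (I : Ideal R) (x : Fin r → S),
      LocalizedModule.mkLinearMap q.primeCompl N (α x) ∈
        (I • ⊤ : Submodule R (LocalizedModule q.primeCompl N)) →
      x ∈ (I • ⊤ : Submodule R (Fin r → S)) := fun I =>
    (Groth.Agent.H2.lTensor_quotient_injective_iff I _).mp (h (R ⧸ I))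
  have hex : Function.Exact (LocalizedModule.map q.primeCompl α)
      (LocalizedModule.map q.primeCompl (LinearMap.range α).mkQ) :=
    LocalizedModule.map_exact q.primeCompl α (LinearMap.range α).mkQ
      (LinearMap.exact_map_mkQ_range α)
  have hsurj : Function.Surjective (LocalizedModule.map q.primeCompl (LinearMap.range α).mkQ) :=
    LocalizedModule.map_surjective q.primeCompl _ (Submodule.mkQ_surjective _)
  refine (Groth.Agent.H56.FlatDesc.injective_and_flat_of_forall_ideal
    ((LocalizedModule.map q.primeCompl α).restrictScalars R)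
    ((LocalizedModule.map q.primeCompl (LinearMap.range α).mkQ).restrictScalars R) hex hsurj ?_).2
  intro I y hy
  induction y using LocalizedModule.induction_on with
  | h x t =>
    have h1 : (LocalizedModule.map q.primeCompl α) (LocalizedModule.mk x t) =
        LocalizedModule.mk (α x) t := LocalizedModule.map_mk _ _ _ _
    have h2 : LocalizedModule.mkLinearMap q.primeCompl N (α x) =
        (t : S) • LocalizedModule.mk (α x) t := by
      rw [LocalizedModule.mkLinearMap_apply, LocalizedModule.smul'_mk]
      exact (LocalizedModule.mk_cancel t (α x)).symm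
    have h3 : LocalizedModule.mkLinearMap q.primeCompl N (α x) ∈
        (I • ⊤ : Submodule R (LocalizedModule q.primeCompl N)) := by
      rw [h2]
      apply smul_mem_smul_top
      rw [← h1]
      exact hy
    have h4 := h' I x h3
    have h5 : LocalizedModule.mkLinearMap q.primeCompl (Fin r → S) x ∈
        (I • ⊤ : Submodule R (LocalizedModule q.primeCompl (Fin r → S))) := by
      have := Submodule.mem_map_of_mem
        (f := (LocalizedModule.mkLinearMap q.primeCompl (Fin r → S)).restrictScalars R) h4
      rw [Submodule.map_smul''] at this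
      exact Submodule.smul_mono le_rfl le_top this
    have h6 := divBy_mem_smul_top q (Fin r → S) I t _ h5
    rw [LocalizedModule.mkLinearMap_apply, LocalizedModule.divBy_apply] at h6
    convert h6 using 1
    simp [LocalizedModule.liftOn_mk]

end

end Groth.Agent.H32.RGLocalC
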