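import Groth.Agent.H32.RGLocalC

/-!
# Flatness and universal injectivity over a local base: the remaining implications
-/

set_option autoImplicit false
set_option linter.style.haveILetI false
universe u

open TensorProduct IsLocalRing

namespace Groth.Agent.H32.RGLocalD

section

variable {S : Type u} [CommRing S] {T : Submonoid S} {M : Type u} [AddCommGroup M] [Module S M]

theorem mk_eq_zero_iff' {m : M} {s : T} : LocalizedModule.mk m s = 0 ↔ ∃ u : T, u • m = 0 := by
  rw [← LocalizedModule.zero_mk (1 : T), LocalizedModule.mk_eq]
  simp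

end

section

variable {S : Type u} [CommRing S] (p q : Ideal S) [p.IsPrime] [q.IsPrime]
  (N : Type u) [AddCommGroup N] [Module S N] {r : ℕ} (α : (Fin r → S) →ₗ[S] N)

theorem surjective_map_of_surjective_baseChange [Module.Finite S N]
    (hβ : Function.Surjective (α.baseChange p.ResidueField)) :
    Function.Surjective (LocalizedModule.map p.primeCompl α) := by
  have hzero : ∀ z : p.ResidueField ⊗[S] (N ⧸ LinearMap.range α), z = 0 := by
    intro z
    obtain ⟨y, rfl⟩ := LinearMap.lTensor_surjective p.ResidueField
      (Submodule.mkQ_surjective (LinearMap.range α)) z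
    obtain ⟨w, rfl⟩ := hβ y
    have h1 : (α.baseChange p.ResidueField) w = α.lTensor p.ResidueField w := rfl
    rw [h1, ← LinearMap.comp_apply, ← LinearMap.lTensor_comp]
    have h2 : (LinearMap.range α).mkQ ∘ₗ α = 0 := LinearMap.range_mkQ_comp α
    rw [h2, LinearMap.lTensor_zero, LinearMap.zero_apply]
  have hsub : Subsingleton (p.ResidueField ⊗[S] (N ⧸ LinearMap.range α)) :=
    ⟨fun a b => by rw [hzero a, hzero b]⟩
  have hsupp : (⟨p, inferInstance⟩ : PrimeSpectrum S) ∉
      Module.support S (N ⧸ LinearMap.range α) := by
    rw [Module.mem_support_iff_nontrivial_residueField_tensorProduct]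
    exact not_nontrivial _
  rw [Module.notMem_support_iff'] at hsupp
  intro y
  induction y using LocalizedModule.induction_on with
  | h n t =>
    obtain ⟨s, hs, hsn⟩ := hsupp ((LinearMap.range α).mkQ n)
    rw [← map_smul, Submodule.mkQ_apply, Submodule.Quotient.mk_eq_zero] at hsn
    obtain ⟨f, hf⟩ := hsn
    refine ⟨LocalizedModule.mk f (⟨s, hs⟩ * t), ?_⟩
    rw [LocalizedModule.map_mk, hf]
    exact LocalizedModule.mk_cancel_common_left ⟨s, hs⟩ t n

theorem injective_map_of_injective_map (hpq : p ≤ q)
    (hnzd : ∀ s : S, s ∉ p → ∀ x : S, s * x = 0 → x = 0)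
    (h : Function.Injective (LocalizedModule.map p.primeCompl α)) :
    Function.Injective (LocalizedModule.map q.primeCompl α) := by
  rw [injective_iff_map_eq_zero]
  intro y hy
  induction y using LocalizedModule.induction_on with
  | h f t =>
    rw [LocalizedModule.map_mk, mk_eq_zero_iff'] at hy
    obtain ⟨c, hc⟩ := hy
    have h1 : LocalizedModule.map p.primeCompl α (LocalizedModule.mk f 1) = 0 := by
      rw [LocalizedModule.map_mk, mk_eq_zero_iff']
      exact ⟨⟨c.1, fun hcp => c.2 (hpq hcp)⟩, hc⟩
    have h2 := h (h1.trans (map_zero _).symm)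
    rw [mk_eq_zero_iff'] at h2
    obtain ⟨s, hs⟩ := h2
    have hf : f = 0 := by
      funext i
      have := congrFun hs i
      exact hnzd s.1 s.2 (f i) this
    rw [hf, LocalizedModule.zero_mk]

end

section

variable {R S : Type u} [CommRing R] [CommRing S] [Algebra R S] [Module.Flat R S]
  (q : Ideal S) [q.IsPrime]
  (N : Type u) [AddCommGroup N] [Module S N] [Module R N] [IsScalarTower R S N]
  {r : ℕ} (α : (Fin r → S) →ₗ[S] N)

theorem flatAt_of_injective_map
    (hinj : Function.Injective (LocalizedModule.map q.primeCompl α))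
    (hC : Module.Flat R (LocalizedModule q.primeCompl (N ⧸ LinearMap.range α))) :
    Module.Flat R (LocalizedModule q.primeCompl N) := by
  haveI := Groth.Agent.H32.RGLocalB.flat_pi_fin R S r
  haveI : Module.Flat R (LocalizedModule q.primeCompl (Fin r → S)) :=
    Groth.Agent.H1.FlatLocus.flat_of_isLocalizedModule_algebra (R := R) q.primeCompl
      (LocalizedModule.mkLinearMap q.primeCompl (Fin r → S))
  have hex : Function.Exact (LocalizedModule.map q.primeCompl α)
      (LocalizedModule.map q.primeCompl (LinearMap.range α).mkQ) :=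
    LocalizedModule.map_exact q.primeCompl α (LinearMap.range α).mkQ
      (LinearMap.exact_map_mkQ_range α)
  have hsurj : Function.Surjective (LocalizedModule.map q.primeCompl (LinearMap.range α).mkQ) :=
    LocalizedModule.map_surjective q.primeCompl _ (Submodule.mkQ_surjective _)
  exact Groth.Agent.H12.flat_of_exact_middle
    ((LocalizedModule.map q.primeCompl α).restrictScalars R)
    ((LocalizedModule.map q.primeCompl (LinearMap.range α).mkQ).restrictScalars R) hinj hsurj hex

end

end Groth.Agent.H32.RGLocalD
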