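import Groth.Agent.H32.RGLocalD

/-!
# Lifting a basis of the fibre at a prime to a map from a finite free module
-/

set_option autoImplicit false
set_option linter.style.haveILetI false
universe u

open TensorProduct IsLocalRing

namespace Groth.Agent.H32.RGLocalE

theorem exists_fiber_basis {S : Type u} [CommRing S] (p : Ideal S) [p.IsPrime]
    (N : Type u) [AddCommGroup N] [Module S N] [Module.Finite S N] :
    ∃ (r : ℕ) (α : (Fin r → S) →ₗ[S] N),
      Function.Bijective (α.baseChange p.ResidueField) := by
  classical
  let t : Set (p.ResidueField ⊗[S] N) := Set.range (fun n : N => (1 : p.ResidueField) ⊗ₜ[S] n)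
  have ht : Submodule.span p.ResidueField t = ⊤ := by
    rw [eq_top_iff]
    rintro z -
    induction z using TensorProduct.induction_on with
    | zero => exact Submodule.zero_mem _
    | tmul k n =>
      have : k ⊗ₜ[S] n = k • ((1 : p.ResidueField) ⊗ₜ[S] n) := by
        rw [TensorProduct.smul_tmul', smul_eq_mul, mul_one]
      rw [this]
      exact Submodule.smul_mem _ _ (Submodule.subset_span ⟨n, rfl⟩)
    | add x y hx hy => exact Submodule.add_mem _ hx hy
  obtain ⟨b, hbt, hspan, hli⟩ := exists_linearIndependent p.ResidueField t
  let B : Module.Basis b p.ResidueField (p.ResidueField ⊗[S] N) :=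
    Module.Basis.mk hli (by rw [Subtype.range_coe, hspan, ht])
  haveI : Finite b := Module.Finite.finite_basis B
  let e := Finite.equivFin b
  let B' : Module.Basis (Fin (Nat.card b)) p.ResidueField (p.ResidueField ⊗[S] N) := B.reindex e
  have hB' : ∀ i, ∃ n : N, (1 : p.ResidueField) ⊗ₜ[S] n = B' i := by
    intro i
    have h1 : B' i = ((e.symm i : b) : p.ResidueField ⊗[S] N) := by
      rw [Module.Basis.reindex_apply, Module.Basis.mk_apply]
    have h2 := hbt (e.symm i).2
    obtain ⟨n, hn⟩ := h2
    exact ⟨n, hn.trans h1.symm⟩
  choose n hn using hB'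
  refine ⟨Nat.card b, Fintype.linearCombination S n, ?_⟩
  let b₁ := (Pi.basisFun S (Fin (Nat.card b))).baseChange p.ResidueField
  have heq : (Fintype.linearCombination S n).baseChange p.ResidueField =
      (b₁.equiv B' (Equiv.refl _)).toLinearMap := by
    apply b₁.ext
    intro i
    rw [LinearEquiv.coe_coe, Module.Basis.equiv_apply, Module.Basis.baseChange_apply,
      LinearMap.baseChange_tmul, Pi.basisFun_apply, Fintype.linearCombination_apply_single,
      one_smul, Equiv.refl_apply, hn]
  rw [heq]
  exact (b₁.equiv B' (Equiv.refl _)).bijective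

end Groth.Agent.H32.RGLocalE
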