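import Groth.Prelude.Def_W4c6secantcecoversSchSt
import Mathlib

/-!
# Helper lemmas for the Scheja–Storch pairing (S18927)
-/

set_option autoImplicit false

universe u v

namespace Groth.Agent.H32.SchejaStorch

open TensorProduct W4c6secantcecovers

variable (R : Type u) [CommRing R] (r : ℕ)

/-- More than `r` vectors of `R^r` wedge to zero. -/
theorem ιMulti_eq_zero_of_lt {n : ℕ} (h : r < n) (v : Fin n → (Fin r → R)) :
    ExteriorAlgebra.ιMulti R n v = 0 := by
  have : ExteriorAlgebra.ιMulti R n (M := Fin r → R) = 0 := by
    refine (Pi.basisFun R (Fin r)).ext_alternating ?_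
    intro w hw
    exfalso
    have := Fintype.card_le_of_injective w hw
    simp at this
    omega
  rw [this]; rfl

/-- Contraction is a graded derivation (on wedge monomials). -/
theorem contr_ιMulti_mul (j : Fin r) {m : ℕ} (a : Fin m → (Fin r → R)) (b : SSLam R r) :
    ssContr R r j (ExteriorAlgebra.ιMulti R m a * b) =
      ssContr R r j (ExteriorAlgebra.ιMulti R m a) * b +
        (-1 : R) ^ m • (ExteriorAlgebra.ιMulti R m a * ssContr R r j b) := by
  induction m generalizing b with
  | zero =>
    simp [ExteriorAlgebra.ιMulti_zero_apply, ssContr, CliffordAlgebra.contractLeft_one]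
  | succ m ih =>
    rw [ExteriorAlgebra.ιMulti_succ_apply]
    have h1 : ∀ x : SSLam R r, ssContr R r j (ExteriorAlgebra.ι R (a 0) * x) =
        (a 0 j) • x - ExteriorAlgebra.ι R (a 0) * ssContr R r j x := by
      intro x
      simp only [ssContr]
      exact CliffordAlgebra.contractLeft_ι_mul _ _ _
    rw [mul_assoc, h1, ih, h1, pow_succ]
    simp only [mul_add, sub_mul, smul_mul_assoc, mul_assoc, mul_smul_comm, neg_smul,
      mul_neg, mul_one]
    abel

end Groth.Agent.H32.SchejaStorch
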