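import Mathlib
import Groth.Prelude.Def_EtMil
import Groth.Agent.H32.ValFPMain

/-!
# Semi-valuation rings: `O = A ×_K R`

Let `A` be a local ring with residue field `K`, `R` a valuation subring of `K` and `O ⊆ A` the
preimage of `R`.  We set up the Milnor square `O = A ×_K R`, show that for an `O`-algebra `C`
injecting into `A ⊗_O C` the special fibre `R ⊗_O C` is `R`-torsion-free, and give the algebra
form of Nagata's theorem.
-/

set_option autoImplicit false

namespace Groth.Agent.H32.SemiVal

open TensorProduct

universe u

section nagata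

/-- **Nagata's theorem, algebra form.**  A flat algebra of finite type over a valuation ring is of
finite presentation. -/
theorem finitePresentation_of_flat_finiteType (V B : Type u) [CommRing V] [IsDomain V]
    [ValuationRing V] [CommRing B] [Algebra V B] [Algebra.FiniteType V B] [Module.Flat V B] :
    Algebra.FinitePresentation V B := by
  obtain ⟨n, f, hf⟩ := Algebra.FiniteType.iff_quotient_mvPolynomial''.mp
    (inferInstance : Algebra.FiniteType V B)
  let _ : Algebra (MvPolynomial (Fin n) V) B := f.toRingHom.toAlgebra
  have : IsScalarTower V (MvPolynomial (Fin n) V) B :=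
    IsScalarTower.of_algebraMap_eq fun a => (f.commutes a).symm
  have hfin : Module.Finite (MvPolynomial (Fin n) V) B :=
    Module.Finite.of_surjective (Algebra.linearMap (MvPolynomial (Fin n) V) B) hf
  have hfp : Module.FinitePresentation (MvPolynomial (Fin n) V) B :=
    Groth.Agent.H32.ValFP.finitePresentation_of_flat_essFiniteType V (MvPolynomial (Fin n) V) B
  have hker : (LinearMap.ker (Algebra.linearMap (MvPolynomial (Fin n) V) B)).FG :=
    Module.FinitePresentation.fg_ker _ hf
  refine Algebra.FinitePresentation.of_surjective hf ?_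
  have : (RingHom.ker f.toRingHom : Submodule (MvPolynomial (Fin n) V) (MvPolynomial (Fin n) V)) =
      LinearMap.ker (Algebra.linearMap (MvPolynomial (Fin n) V) B) := by
    ext x
    rfl
  rw [Ideal.FG, this] at *
  exact hker

end nagata

section setup

variable (A : Type u) [CommRing A] [IsLocalRing A]
  (R : ValuationSubring (IsLocalRing.ResidueField A))

/-- The semi-valuation ring attached to a valuation subring of the residue field. -/
abbrev Oo : Subring A := R.toSubring.comap (IsLocalRing.residue A)

/-- The projection `O → R`. -/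
noncomputable def toR : ↥(Oo A R) →+* ↥R :=
  (IsLocalRing.residue A).restrict (Oo A R) R fun _ hx => hx

@[simp] lemma toR_coe (o : ↥(Oo A R)) : ((toR A R o : ↥R) : IsLocalRing.ResidueField A) =
    IsLocalRing.residue A (o : A) := rfl

lemma toR_surjective : Function.Surjective (toR A R) := by
  intro r
  obtain ⟨a, ha⟩ := IsLocalRing.residue_surjective (r : IsLocalRing.ResidueField A)
  have hmem : a ∈ Oo A R := by
    change IsLocalRing.residue A a ∈ R.toSubring
    rw [ha]
    exact r.2
  exact ⟨⟨a, hmem⟩, Subtype.ext ha⟩

lemma toR_eq_zero_iff (o : ↥(Oo A R)) : toR A R o = 0 ↔ (o : A) ∈ IsLocalRing.maximalIdeal A := by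
  rw [← IsLocalRing.residue_eq_zero_iff]
  constructor
  · intro h
    exact congrArg Subtype.val h
  · intro h
    exact Subtype.ext h

lemma maximalIdeal_le (a : A) (ha : a ∈ IsLocalRing.maximalIdeal A) : a ∈ Oo A R := by
  change IsLocalRing.residue A a ∈ R.toSubring
  rw [(IsLocalRing.residue_eq_zero_iff a).mpr ha]
  exact R.toSubring.zero_mem

/-- Every element of `A` becomes an element of `O` after multiplication by an element of `O`
which is a unit of `A`. -/
lemma exists_mul_mem (a : A) : ∃ s : ↥(Oo A R), IsUnit (s : A) ∧ (s : A) * a ∈ Oo A R := by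
  by_cases ha : a ∈ IsLocalRing.maximalIdeal A
  · exact ⟨1, by simp, by simpa using maximalIdeal_le A R a ha⟩
  · have hunit : IsUnit a := by
      by_contra h
      exact ha ((IsLocalRing.mem_maximalIdeal a).mpr h)
    rcases R.mem_or_inv_mem (IsLocalRing.residue A a) with h | h
    · exact ⟨1, by simp, by simpa using h⟩
    · obtain ⟨u, rfl⟩ := hunit
      have hmem : ((u⁻¹ : Aˣ) : A) ∈ Oo A R := by
        change IsLocalRing.residue A ((u⁻¹ : Aˣ) : A) ∈ R.toSubring
        have : IsLocalRing.residue A ((u⁻¹ : Aˣ) : A) = (IsLocalRing.residue A (u : A))⁻¹ := by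
          rw [eq_comm, inv_eq_iff_eq_inv, ← map_units_inv]
          simp
        rw [this]
        exact h
      refine ⟨⟨_, hmem⟩, (u⁻¹).isUnit, ?_⟩
      simp

end setup

end Groth.Agent.H32.SemiVal
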