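import Mathlib
import Groth.Agent.H32.SemiVal
import Groth.Agent.S14952

/-!
# Flatness over a semi-valuation ring

For `O = A ×_K R` and an `O`-algebra `C` with `C → A ⊗_O C` injective and `A ⊗_O C` flat over `A`:
the special fibre `R ⊗_O C` is `R`-torsion-free, hence flat, and `C` is flat over `O`.
-/

set_option autoImplicit false

namespace Groth.Agent.H32.SemiVal

open TensorProduct

universe u

variable (A : Type u) [CommRing A] [IsLocalRing A]
  (R : ValuationSubring (IsLocalRing.ResidueField A))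

/-- The `O`-algebra structure on `R`. -/
noncomputable abbrev algOR : Algebra ↥(Oo A R) ↥R := (toR A R).toAlgebra

/-- The `O`-algebra structure on the residue field `K`. -/
noncomputable abbrev algOK : Algebra ↥(Oo A R) (IsLocalRing.ResidueField A) :=
  ((algebraMap A (IsLocalRing.ResidueField A)).comp (algebraMap ↥(Oo A R) A)).toAlgebra

attribute [local instance] algOR algOK

instance : IsScalarTower ↥(Oo A R) ↥R (IsLocalRing.ResidueField A) :=
  IsScalarTower.of_algebraMap_eq fun _ => rfl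

instance : IsScalarTower ↥(Oo A R) A (IsLocalRing.ResidueField A) :=
  IsScalarTower.of_algebraMap_eq fun _ => rfl

/-- The Milnor square `O = R ×_K A`. -/
theorem isFibreSquare :
    EtMil.IsFibreSquare ↥(Oo A R) ↥R A (IsLocalRing.ResidueField A) := by
  refine ⟨IsLocalRing.residue_surjective, ?_⟩
  intro b a' h
  have hmem : a' ∈ Oo A R := by
    change IsLocalRing.residue A a' ∈ R.toSubring
    have : IsLocalRing.residue A a' = (b : IsLocalRing.ResidueField A) := h.symm
    rw [this]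
    exact b.2
  refine ⟨⟨a', hmem⟩, ⟨Subtype.ext h.symm, rfl⟩, ?_⟩
  rintro o ⟨-, ho⟩
  exact Subtype.ext ho

variable (C : Type u) [CommRing C] [Algebra ↥(Oo A R) C]

/-- Elements of `O` which are units in `A` are nonzerodivisors on an admissible algebra. -/
lemma eq_zero_of_smul_eq_zero
    (hadm : Function.Injective (Algebra.TensorProduct.includeRight : C →ₐ[↥(Oo A R)] A ⊗[↥(Oo A R)] C))
    (o : ↥(Oo A R)) (ho : IsUnit (o : A)) (x : C) (hx : o • x = 0) : x = 0 := by
  apply hadm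
  rw [map_zero]
  obtain ⟨u, hu⟩ := ho
  have h1 : ((o : A) ⊗ₜ[↥(Oo A R)] (1 : C)) * ((1 : A) ⊗ₜ[↥(Oo A R)] x) = 0 := by
    rw [Algebra.TensorProduct.tmul_mul_tmul, mul_one, one_mul]
    have : ((o : A) ⊗ₜ[↥(Oo A R)] x) = (1 : A) ⊗ₜ[↥(Oo A R)] (o • x) := by
      rw [TensorProduct.tmul_smul, TensorProduct.smul_tmul']
      congr 1
      rw [Algebra.smul_def, mul_one]
      rfl
    rw [this, hx, TensorProduct.tmul_zero]
  have h2 : (((u⁻¹ : Aˣ) : A) ⊗ₜ[↥(Oo A R)] (1 : C)) * (((o : A) ⊗ₜ[↥(Oo A R)] (1 : C)) *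
      ((1 : A) ⊗ₜ[↥(Oo A R)] x)) = 0 := by rw [h1, mul_zero]
  rw [← mul_assoc, Algebra.TensorProduct.tmul_mul_tmul, ← hu, Units.inv_mul, mul_one,
    Algebra.TensorProduct.tmul_mul_tmul, one_mul, one_mul] at h2
  exact h2

/-- Every element of `R ⊗_O C` is of the form `1 ⊗ c`. -/
lemma exists_one_tmul (z : ↥R ⊗[↥(Oo A R)] C) : ∃ c : C, z = (1 : ↥R) ⊗ₜ[↥(Oo A R)] c := by
  induction z using TensorProduct.induction_on with
  | zero => exact ⟨0, (TensorProduct.tmul_zero _ _).symm⟩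
  | tmul r c =>
    obtain ⟨o, rfl⟩ := toR_surjective A R r
    refine ⟨o • c, ?_⟩
    rw [TensorProduct.tmul_smul, TensorProduct.smul_tmul']
    congr 1
    rw [Algebra.smul_def, mul_one]
    rfl
  | add x y hx hy =>
    obtain ⟨c, rfl⟩ := hx
    obtain ⟨c', rfl⟩ := hy
    exact ⟨c + c', (TensorProduct.tmul_add _ _ _).symm⟩

/-- `1 ⊗ c` vanishes in `R ⊗_O C` exactly when `c ∈ 𝔪 C`. -/
lemma one_tmul_eq_zero_iff (c : C) :
    (1 : ↥R) ⊗ₜ[↥(Oo A R)] c = 0 ↔
      c ∈ (RingHom.ker (toR A R)) • (⊤ : Submodule ↥(Oo A R) C) := by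
  constructor
  · intro h
    let f : ↥(Oo A R) →ₐ[↥(Oo A R)] ↥R := Algebra.ofId _ _
    have hf : Function.Surjective f := toR_surjective A R
    let e := Ideal.quotientKerAlgEquivOfSurjective hf
    let Φ : (↥(Oo A R) ⧸ RingHom.ker f) ⊗[↥(Oo A R)] C ≃ₗ[↥(Oo A R)] ↥R ⊗[↥(Oo A R)] C :=
      TensorProduct.congr e.toLinearEquiv (LinearEquiv.refl _ C)
    have h1 : Φ ((Ideal.Quotient.mk (RingHom.ker f) 1) ⊗ₜ[↥(Oo A R)] c) = 0 := by
      rw [TensorProduct.congr_tmul]
      simpa only [map_one, AlgEquiv.toLinearEquiv_apply, LinearEquiv.refl_apply] using h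
    have h2 : (Ideal.Quotient.mk (RingHom.ker f) 1) ⊗ₜ[↥(Oo A R)] c = 0 := by
      apply Φ.injective
      rw [h1, map_zero]
    have h3 := congrArg (quotTensorEquivQuotSMul C (RingHom.ker f)) h2
    rw [quotTensorEquivQuotSMul_mk_tmul, map_zero, one_smul, Submodule.Quotient.mk_eq_zero] at h3
    exact h3
  · intro h
    refine Submodule.smul_induction_on h ?_ ?_
    · intro m hm c₁ _
      rw [TensorProduct.tmul_smul, TensorProduct.smul_tmul']
      have : m • (1 : ↥R) = 0 := by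
        rw [Algebra.smul_def, mul_one]
        exact hm
      rw [this, TensorProduct.zero_tmul]
    · intro x y hx hy
      rw [TensorProduct.tmul_add, hx, hy, add_zero]

/-- The special fibre of an admissible algebra is torsion-free, hence flat, over `R`. -/
theorem flat_special
    (hadm : Function.Injective (Algebra.TensorProduct.includeRight : C →ₐ[↥(Oo A R)] A ⊗[↥(Oo A R)] C)) :
    Module.Flat ↥R (↥R ⊗[↥(Oo A R)] C) := by
  rw [Module.Flat.flat_iff_torsion_eq_bot_of_isBezout, eq_bot_iff]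
  intro z hz
  rw [Submodule.mem_torsion_iff] at hz
  obtain ⟨⟨r, hr⟩, hrz⟩ := hz
  rw [Submodule.mem_bot]
  obtain ⟨c, rfl⟩ := exists_one_tmul A R C z
  obtain ⟨o, rfl⟩ := toR_surjective A R r
  have ho : ¬ (o : A) ∈ IsLocalRing.maximalIdeal A := by
    rw [← toR_eq_zero_iff]
    exact nonZeroDivisors.ne_zero hr
  have hounit : IsUnit (o : A) := by
    by_contra h
    exact ho ((IsLocalRing.mem_maximalIdeal _).mpr h)
  have h1 : (1 : ↥R) ⊗ₜ[↥(Oo A R)] (o • c) = 0 := by
    have : (⟨toR A R o, hr⟩ : nonZeroDivisors ↥R) • ((1 : ↥R) ⊗ₜ[↥(Oo A R)] c) =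
        (1 : ↥R) ⊗ₜ[↥(Oo A R)] (o • c) := by
      rw [TensorProduct.tmul_smul, TensorProduct.smul_tmul']
      change (toR A R o) • ((1 : ↥R) ⊗ₜ[↥(Oo A R)] c) = _
      rw [TensorProduct.smul_tmul']
      congr 1
    rw [← this]
    exact hrz
  rw [one_tmul_eq_zero_iff] at h1 ⊢
  -- divide by `o`
  have key : ∀ y ∈ (RingHom.ker (toR A R)) • (⊤ : Submodule ↥(Oo A R) C),
      ∃ y' ∈ (RingHom.ker (toR A R)) • (⊤ : Submodule ↥(Oo A R) C), o • y' = y := by
    intro y hy
    refine Submodule.smul_induction_on hy ?_ ?_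
    · intro m hm c₁ _
      obtain ⟨u, hu⟩ := hounit
      have hm' : (m : A) ∈ IsLocalRing.maximalIdeal A := (toR_eq_zero_iff A R m).mp hm
      have hmu : (m : A) * ((u⁻¹ : Aˣ) : A) ∈ IsLocalRing.maximalIdeal A :=
        Ideal.mul_mem_right _ _ hm'
      let m' : ↥(Oo A R) := ⟨(m : A) * ((u⁻¹ : Aˣ) : A), maximalIdeal_le A R _ hmu⟩
      have hm'ker : m' ∈ RingHom.ker (toR A R) := by
        rw [RingHom.mem_ker, toR_eq_zero_iff]
        exact hmu
      refine ⟨m' • c₁, Submodule.smul_mem_smul hm'ker trivial, ?_⟩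
      rw [smul_smul]
      congr 1
      apply Subtype.ext
      change (o : A) * ((m : A) * ((u⁻¹ : Aˣ) : A)) = (m : A)
      rw [← hu]
      rw [mul_comm (m : A), ← mul_assoc, Units.mul_inv, one_mul]
    · rintro x y ⟨x', hx', rfl⟩ ⟨y', hy', rfl⟩
      exact ⟨x' + y', Submodule.add_mem _ hx' hy', smul_add _ _ _⟩
  obtain ⟨c', hc', hcc'⟩ := key _ h1
  have : c = c' := by
    have h0 : o • (c' - c) = 0 := by rw [smul_sub, hcc', sub_self]
    have := eq_zero_of_smul_eq_zero A R C hadm o hounit _ h0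
    exact (sub_eq_zero.mp this).symm
  rw [this]
  exact hc'

/-- An admissible `O`-algebra whose base change to `A` is flat is flat over `O`. -/
theorem flat_of_admissible
    (hadm : Function.Injective (Algebra.TensorProduct.includeRight : C →ₐ[↥(Oo A R)] A ⊗[↥(Oo A R)] C))
    (hflat : Module.Flat A (A ⊗[↥(Oo A R)] C)) : Module.Flat ↥(Oo A R) C := by
  have := flat_special A R C hadm
  exact Groth.Agent.S14952.result ↥(Oo A R) ↥R A (IsLocalRing.ResidueField A)
    (isFibreSquare A R) C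

end Groth.Agent.H32.SemiVal
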