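import Mathlib
import Groth.Agent.H32.SemiValFlat
import Groth.Agent.H2.InjModMax

/-!
# Finite presentation over a semi-valuation ring

For `O = A ×_K R` and an `O`-algebra `C` of finite type with `C → A ⊗_O C` injective and
`A ⊗_O C` flat and of finite presentation over `A`, the algebra `C` is of finite presentation
over `O`.
-/

set_option autoImplicit false

namespace Groth.Agent.H32.SemiVal

open TensorProduct

universe u

variable (A : Type u) [CommRing A] [IsLocalRing A]
  (R : ValuationSubring (IsLocalRing.ResidueField A))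

attribute [local instance] algOR algOK

variable (P : Type u) [CommRing P] [Algebra ↥(Oo A R) P]

/-- Multiplying by an element of the maximal ideal of `A` lands in the image of `P`. -/
lemma exists_includeRight_eq_smul (m : A) (hm : m ∈ IsLocalRing.maximalIdeal A)
    (t : A ⊗[↥(Oo A R)] P) :
    ∃ q : P, (1 : A) ⊗ₜ[↥(Oo A R)] q = m • t := by
  induction t using TensorProduct.induction_on with
  | zero => exact ⟨0, by rw [TensorProduct.tmul_zero, smul_zero]⟩
  | tmul a p =>
    have hma : m * a ∈ IsLocalRing.maximalIdeal A := Ideal.mul_mem_right _ _ hm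
    let o : ↥(Oo A R) := ⟨m * a, maximalIdeal_le A R _ hma⟩
    refine ⟨o • p, ?_⟩
    rw [TensorProduct.tmul_smul, TensorProduct.smul_tmul', TensorProduct.smul_tmul']
    congr 1
    rw [Algebra.smul_def, mul_one, smul_eq_mul]
    rfl
  | add x y hx hy =>
    obtain ⟨q, hq⟩ := hx
    obtain ⟨q', hq'⟩ := hy
    exact ⟨q + q', by rw [TensorProduct.tmul_add, hq, hq', smul_add]⟩

/-- `𝔪 · J'(A ⊗ P)` is contained in the image of `J'`. -/
lemma exists_mem_one_tmul_eq_smul (J' : Ideal P) (m : A) (hm : m ∈ IsLocalRing.maximalIdeal A)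
    (k : A ⊗[↥(Oo A R)] P)
    (hk : k ∈ J'.map (Algebra.TensorProduct.includeRight : P →ₐ[↥(Oo A R)] A ⊗[↥(Oo A R)] P)) :
    ∃ q ∈ J', (1 : A) ⊗ₜ[↥(Oo A R)] q = m • k := by
  rw [Ideal.map] at hk
  induction hk using Submodule.closure_induction with
  | zero => exact ⟨0, J'.zero_mem, by rw [TensorProduct.tmul_zero, smul_zero]⟩
  | add x y _ _ hx hy =>
    obtain ⟨q, hq, hq'⟩ := hx
    obtain ⟨q', hq'1, hq'2⟩ := hy
    exact ⟨q + q', J'.add_mem hq hq'1, by rw [TensorProduct.tmul_add, hq', hq'2, smul_add]⟩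
  | smul_mem t x hx =>
    obtain ⟨j, hj, rfl⟩ := hx
    obtain ⟨q, hq⟩ := exists_includeRight_eq_smul A R P m hm t
    refine ⟨q * j, J'.mul_mem_left _ hj, ?_⟩
    rw [smul_eq_mul, ← smul_mul_assoc, ← hq]
    change _ = (1 : A) ⊗ₜ[↥(Oo A R)] q * ((1 : A) ⊗ₜ[↥(Oo A R)] j)
    rw [Algebra.TensorProduct.tmul_mul_tmul, one_mul]

/-- An element of `𝔪 P` has image in `𝔪 (A ⊗ P)`. -/
lemma one_tmul_mem_smul_top (w : P)
    (hw : w ∈ (RingHom.ker (toR A R)) • (⊤ : Submodule ↥(Oo A R) P)) :
    (1 : A) ⊗ₜ[↥(Oo A R)] w ∈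
      (IsLocalRing.maximalIdeal A) • (⊤ : Submodule A (A ⊗[↥(Oo A R)] P)) := by
  refine Submodule.smul_induction_on hw ?_ ?_
  · intro o ho p _
    have ho' : (o : A) ∈ IsLocalRing.maximalIdeal A := (toR_eq_zero_iff A R o).mp ho
    have : (1 : A) ⊗ₜ[↥(Oo A R)] (o • p) = (o : A) • ((1 : A) ⊗ₜ[↥(Oo A R)] p) := by
      rw [TensorProduct.tmul_smul, TensorProduct.smul_tmul', TensorProduct.smul_tmul']
      congr 1
    rw [this]
    exact Submodule.smul_mem_smul ho' trivial
  · intro x y hx hy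
    rw [TensorProduct.tmul_add]
    exact Submodule.add_mem _ hx hy

/-- The key step: an element of `𝔪 P` killed in a flat quotient `(A ⊗ P)/J'(A ⊗ P)` lies in `J'`. -/
theorem mem_of_mem_smul_top [Module.Flat ↥(Oo A R) P] (J' : Ideal P)
    (F : Type u) [CommRing F] [Algebra A F] [Module.Flat A F]
    (f : A ⊗[↥(Oo A R)] P →ₐ[A] F) (hf : Function.Surjective f)
    (hker : RingHom.ker f =
      J'.map (Algebra.TensorProduct.includeRight : P →ₐ[↥(Oo A R)] A ⊗[↥(Oo A R)] P))
    (w : P) (hw : w ∈ (RingHom.ker (toR A R)) • (⊤ : Submodule ↥(Oo A R) P))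
    (hfw : f ((1 : A) ⊗ₜ[↥(Oo A R)] w) = 0) : w ∈ J' := by
  -- flatness: `ker f ∩ 𝔪 T = 𝔪 ker f`
  have hinj : Function.Injective
      ((LinearMap.ker f.toLinearMap).subtype.lTensor (A ⧸ IsLocalRing.maximalIdeal A)) :=
    LinearMap.lTensor_injective_of_exact_of_flat f.toLinearMap hf
      (LinearMap.ker f.toLinearMap).subtype (Submodule.injective_subtype _)
      (LinearMap.exact_subtype_ker_map _) _
  rw [Groth.Agent.H2.lTensor_quotient_injective_iff] at hinj
  have hwker : (1 : A) ⊗ₜ[↥(Oo A R)] w ∈ LinearMap.ker f.toLinearMap := hfw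
  have h1 := hinj ⟨_, hwker⟩ (one_tmul_mem_smul_top A R P w hw)
  -- every element of `𝔪 ker f` comes from `J'`
  have key : ∀ y : LinearMap.ker f.toLinearMap,
      y ∈ (IsLocalRing.maximalIdeal A) • (⊤ : Submodule A (LinearMap.ker f.toLinearMap)) →
      ∃ q ∈ J', (1 : A) ⊗ₜ[↥(Oo A R)] q = (y : A ⊗[↥(Oo A R)] P) := by
    intro y hy
    refine Submodule.smul_induction_on hy ?_ ?_
    · intro m hm k _
      have hk : (k : A ⊗[↥(Oo A R)] P) ∈ RingHom.ker f := k.2
      rw [hker] at hk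
      exact exists_mem_one_tmul_eq_smul A R P J' m hm _ hk
    · rintro x y ⟨q, hq, hq'⟩ ⟨q', hq'1, hq'2⟩
      exact ⟨q + q', J'.add_mem hq hq'1, by
        rw [TensorProduct.tmul_add, hq', hq'2]; rfl⟩
  obtain ⟨q, hq, hq'⟩ := key _ h1
  have hinc : Function.Injective
      (Algebra.TensorProduct.includeRight : P →ₐ[↥(Oo A R)] A ⊗[↥(Oo A R)] P) :=
    Algebra.TensorProduct.includeRight_injective (Subtype.val_injective)
  have : q = w := hinc hq'
  rw [← this]
  exact hq

/-- If the extension of an ideal along a ring map is finitely generated, it is generated by the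
image of a finite subset. -/
lemma exists_finset_map_eq {S T F : Type*} [CommRing S] [CommRing T] [FunLike F S T]
    [RingHomClass F S T] (g : F) (J : Ideal S)
    (h : (J.map g).FG) :
    ∃ s : Finset S, (s : Set S) ⊆ J ∧ (Ideal.span (s : Set S)).map g = J.map g := by
  classical
  obtain ⟨s', hs', hspan⟩ := (Submodule.fg_span_iff_fg_span_finset_subset (R := T)
    ((g : S → T) '' (J : Set S))).mp h
  choose! c hc using fun t (ht : t ∈ (s' : Set T)) => hs' ht
  refine ⟨s'.image c, ?_, ?_⟩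
  · intro x hx
    rw [Finset.coe_image] at hx
    obtain ⟨t, ht, rfl⟩ := hx
    exact (hc t ht).1
  · rw [Ideal.map_span, Ideal.map]
    change Ideal.span _ = Submodule.span T _
    rw [hspan, Finset.coe_image, ← Set.image_comp]
    change Submodule.span T _ = _
    congr 1
    ext t
    constructor
    · rintro ⟨t', ht', rfl⟩
      rw [Function.comp_apply, (hc t' ht').2]
      exact ht'
    · intro ht
      exact ⟨t, ht, (hc t ht).2⟩

variable (C : Type u) [CommRing C] [Algebra ↥(Oo A R) C]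

/-- An admissible `O`-algebra of finite type whose base change to `A` is flat and of finite
presentation is of finite presentation over `O`. -/
theorem finitePresentation_of_admissible [Algebra.FiniteType ↥(Oo A R) C]
    (hadm : Function.Injective
      (Algebra.TensorProduct.includeRight : C →ₐ[↥(Oo A R)] A ⊗[↥(Oo A R)] C))
    (hflat : Module.Flat A (A ⊗[↥(Oo A R)] C))
    (hfp : Algebra.FinitePresentation A (A ⊗[↥(Oo A R)] C)) :
    Algebra.FinitePresentation ↥(Oo A R) C := by
  obtain ⟨n, π, hπ⟩ := Algebra.FiniteType.iff_quotient_mvPolynomial''.mp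
    (inferInstance : Algebra.FiniteType ↥(Oo A R) C)
  -- base change to `A`
  let fA : A ⊗[↥(Oo A R)] MvPolynomial (Fin n) ↥(Oo A R) →ₐ[A] A ⊗[↥(Oo A R)] C :=
    Algebra.TensorProduct.map (AlgHom.id A A) π
  have hfA : Function.Surjective fA := Algebra.FiniteType.baseChangeAux_surj A hπ
  have hkerA : RingHom.ker fA = (RingHom.ker π).map
      (Algebra.TensorProduct.includeRight :
        MvPolynomial (Fin n) ↥(Oo A R) →ₐ[↥(Oo A R)] A ⊗[↥(Oo A R)] MvPolynomial (Fin n) ↥(Oo A R)) :=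
    Algebra.TensorProduct.lTensor_ker π hπ
  have hfgA : (RingHom.ker fA).FG := Algebra.FinitePresentation.ker_fG_of_surjective fA hfA
  -- base change to `R`
  have hflatR : Module.Flat ↥R (↥R ⊗[↥(Oo A R)] C) := flat_special A R C hadm
  have hfpR : Algebra.FinitePresentation ↥R (↥R ⊗[↥(Oo A R)] C) :=
    finitePresentation_of_flat_finiteType ↥R (↥R ⊗[↥(Oo A R)] C)
  let fR : ↥R ⊗[↥(Oo A R)] MvPolynomial (Fin n) ↥(Oo A R) →ₐ[↥R] ↥R ⊗[↥(Oo A R)] C :=
    Algebra.TensorProduct.map (AlgHom.id ↥R ↥R) π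
  have hfR : Function.Surjective fR := Algebra.FiniteType.baseChangeAux_surj ↥R hπ
  have hkerR : RingHom.ker fR = (RingHom.ker π).map
      (Algebra.TensorProduct.includeRight :
        MvPolynomial (Fin n) ↥(Oo A R) →ₐ[↥(Oo A R)] ↥R ⊗[↥(Oo A R)] MvPolynomial (Fin n) ↥(Oo A R)) :=
    Algebra.TensorProduct.lTensor_ker π hπ
  have hfgR : (RingHom.ker fR).FG := Algebra.FinitePresentation.ker_fG_of_surjective fR hfR
  -- finite subsets of the kernel generating both extensions
  rw [hkerA] at hfgA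
  rw [hkerR] at hfgR
  obtain ⟨sA, hsA, hsA'⟩ := exists_finset_map_eq _ _ hfgA
  obtain ⟨sR, hsR, hsR'⟩ := exists_finset_map_eq _ _ hfgR
  classical
  let J' : Ideal (MvPolynomial (Fin n) ↥(Oo A R)) := Ideal.span ((sA ∪ sR : Finset _) : Set _)
  have hJ'le : J' ≤ RingHom.ker π := by
    rw [Ideal.span_le, Finset.coe_union]
    exact Set.union_subset hsA hsR
  have hJ'A : J'.map (Algebra.TensorProduct.includeRight :
        MvPolynomial (Fin n) ↥(Oo A R) →ₐ[↥(Oo A R)] A ⊗[↥(Oo A R)] MvPolynomial (Fin n) ↥(Oo A R)) =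
      (RingHom.ker π).map Algebra.TensorProduct.includeRight := by
    refine le_antisymm (Ideal.map_mono hJ'le) ?_
    rw [← hsA']
    refine Ideal.map_mono (Ideal.span_mono ?_)
    rw [Finset.coe_union]
    exact Set.subset_union_left
  have hJ'R : J'.map (Algebra.TensorProduct.includeRight :
        MvPolynomial (Fin n) ↥(Oo A R) →ₐ[↥(Oo A R)] ↥R ⊗[↥(Oo A R)] MvPolynomial (Fin n) ↥(Oo A R)) =
      (RingHom.ker π).map Algebra.TensorProduct.includeRight := by
    refine le_antisymm (Ideal.map_mono hJ'le) ?_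
    rw [← hsR']
    refine Ideal.map_mono (Ideal.span_mono ?_)
    rw [Finset.coe_union]
    exact Set.subset_union_right
  have hsurjR : Function.Surjective (Algebra.TensorProduct.includeRight :
        MvPolynomial (Fin n) ↥(Oo A R) →ₐ[↥(Oo A R)]
          ↥R ⊗[↥(Oo A R)] MvPolynomial (Fin n) ↥(Oo A R)) := by
    intro z
    obtain ⟨p, rfl⟩ := exists_one_tmul A R _ z
    exact ⟨p, rfl⟩
  have hJ : J' = RingHom.ker π := by
    refine le_antisymm hJ'le ?_
    intro j hj
    have h1 : (Algebra.TensorProduct.includeRight :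
        MvPolynomial (Fin n) ↥(Oo A R) →ₐ[↥(Oo A R)]
          ↥R ⊗[↥(Oo A R)] MvPolynomial (Fin n) ↥(Oo A R)) j ∈
        J'.map (Algebra.TensorProduct.includeRight :
        MvPolynomial (Fin n) ↥(Oo A R) →ₐ[↥(Oo A R)]
          ↥R ⊗[↥(Oo A R)] MvPolynomial (Fin n) ↥(Oo A R)) := by
      rw [hJ'R]
      exact Ideal.mem_map_of_mem _ hj
    rw [Ideal.mem_map_iff_of_surjective _ hsurjR] at h1
    obtain ⟨j', hj', hjj'⟩ := h1
    have hw : j - j' ∈ (RingHom.ker (toR A R)) •
        (⊤ : Submodule ↥(Oo A R) (MvPolynomial (Fin n) ↥(Oo A R))) := by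
      rw [← one_tmul_eq_zero_iff]
      rw [TensorProduct.tmul_sub, sub_eq_zero]
      exact hjj'.symm
    have hfw : fA ((1 : A) ⊗ₜ[↥(Oo A R)] (j - j')) = 0 := by
      change (1 : A) ⊗ₜ[↥(Oo A R)] (π (j - j')) = 0
      have : π (j - j') = 0 := by
        rw [map_sub, sub_eq_zero]
        rw [RingHom.mem_ker.mp hj, RingHom.mem_ker.mp (hJ'le hj')]
      rw [this, TensorProduct.tmul_zero]
    have := mem_of_mem_smul_top A R (MvPolynomial (Fin n) ↥(Oo A R)) J' (A ⊗[↥(Oo A R)] C) fA hfA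
      (hkerA.trans hJ'A.symm) (j - j') hw hfw
    have h2 := J'.add_mem this hj'
    rwa [sub_add_cancel] at h2
  refine Algebra.FinitePresentation.of_surjective hπ ?_
  change (RingHom.ker π).FG
  rw [← hJ]
  exact ⟨sA ∪ sR, rfl⟩

end Groth.Agent.H32.SemiVal
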