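import Groth.Agent.H32.Inertia

set_option autoImplicit false
open CategoryTheory CategoryTheory.Limits
universe v₄ u₄ v₃ u₃ v₂ u₂ v u

namespace Groth.Agent.H32

variable {C : Type u} [Category.{v} C] {𝒳 : BasedCategory.{v₂, u₂} C}

/-- if the forgetful functor from the inertia is full, automorphisms over identities are trivial -/
theorem aut_eq_id_of_inertiaToBase_full
    [(FibCat.inertiaToBase (FibCat.toSelf 𝒳)).toFunctor.Full] (x : 𝒳.obj) (α : x ≅ x)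
    (hα : 𝒳.p.map α.hom = 𝟙 (𝒳.p.obj x)) : α.hom = 𝟙 x := by
  let X : FibCat.InertiaObj (FibCat.toSelf 𝒳) := ⟨x, α, hα⟩
  let Y : FibCat.InertiaObj (FibCat.toSelf 𝒳) := ⟨x, Iso.refl x, 𝒳.p.map_id x⟩
  obtain ⟨φ, hφ⟩ := (FibCat.inertiaToBase (FibCat.toSelf 𝒳)).toFunctor.map_surjective
    (X := X) (Y := Y) (𝟙 x)
  have h1 : φ.hom = 𝟙 x := hφ
  have h2 := φ.comm
  rw [h1] at h2
  simpa [X, Y] using h2

theorem isFibSetoid_of_inertiaToBase_full (h𝒳 : FibCat.IsFibGrpd 𝒳.p)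
    [(FibCat.inertiaToBase (FibCat.toSelf 𝒳)).toFunctor.Full] : FibCat.IsFibSetoid 𝒳.p := by
  refine ⟨h𝒳, fun U => ?_⟩
  intro X Y
  refine ⟨fun φ ψ => ?_⟩
  have hφ : 𝒳.p.IsHomLift (𝟙 U) φ.1 := φ.2
  have hψ : 𝒳.p.IsHomLift (𝟙 U) ψ.1 := ψ.2
  have iφ : IsIso φ.1 := isIso_of_fibGrpd' 𝒳.p h𝒳 (𝟙 U) φ.1
  have iψ : IsIso ψ.1 := isIso_of_fibGrpd' 𝒳.p h𝒳 (𝟙 U) ψ.1
  have hψi : 𝒳.p.IsHomLift (𝟙 U) (inv ψ.1) := by
    have := IsHomLift.lift_id_inv_isIso 𝒳.p U ψ.1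
    simpa using this
  let α : X.1 ≅ X.1 := asIso φ.1 ≪≫ (asIso ψ.1).symm
  have hα : 𝒳.p.IsHomLift (𝟙 U) α.hom := by
    change 𝒳.p.IsHomLift (𝟙 U) (φ.1 ≫ inv ψ.1)
    infer_instance
  have hX : 𝒳.p.obj X.1 = U := X.2
  have hα' : 𝒳.p.map α.hom = 𝟙 (𝒳.p.obj X.1) := by
    have e := IsHomLift.fac' 𝒳.p (𝟙 U) α.hom
    rw [e]; simp
  have h1 := aut_eq_id_of_inertiaToBase_full X.1 α hα'
  apply Functor.Fiber.hom_ext
  change φ.1 = ψ.1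
  have h2 : φ.1 ≫ inv ψ.1 = 𝟙 _ := h1
  rw [← Category.id_comp ψ.1, ← h2, Category.assoc, IsIso.inv_hom_id, Category.comp_id]

end Groth.Agent.H32
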