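import Mathlib
import Groth.Prelude.Def_FlatCA
import Groth.Agent.H6.UnivInjAdic
import Groth.Agent.H6.GeomIntFibres

/-!
# Universal injectivity of `B → B^` for a smooth algebra with geometrically integral fibres
and a section
-/

set_option autoImplicit false
universe u

open TensorProduct

namespace Groth.Agent.H32.SmoothComplUnivInj

section General

variable {A : Type u} [CommRing A] {M N : Type u} [AddCommGroup M] [AddCommGroup N] [Module A M]
  [Module A N]

theorem lTensor_injective_of_bijective (Q : Type u) [AddCommGroup Q] [Module A Q] (ψ : M →ₗ[A] N)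
    (h : Function.Bijective ψ) : Function.Injective (ψ.lTensor Q) :=
  (LinearEquiv.lTensor Q (LinearEquiv.ofBijective ψ h)).injective

end General

section MulAction

variable {A B : Type u} [CommRing A] [CommRing B] [Algebra A B]

/-- swapping turns `Q ⊗ (t * ·)` into scalar multiplication by `t` -/
theorem comm_lTensor_mulLeft (Q : Type u) [AddCommGroup Q] [Module A Q] (t : B) (x : Q ⊗[A] B) :
    TensorProduct.comm A Q B ((LinearMap.mulLeft A t).lTensor Q x) =
      t • TensorProduct.comm A Q B x := by
  induction x with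
  | zero => simp
  | tmul q b =>
    rw [LinearMap.lTensor_tmul, TensorProduct.comm_tmul, TensorProduct.comm_tmul,
      LinearMap.mulLeft_apply, TensorProduct.smul_tmul', smul_eq_mul]
  | add x y hx hy => rw [map_add, map_add, map_add, smul_add, hx, hy]

end MulAction

section LemN

variable {A B : Type u} [CommRing A] [CommRing B] [Algebra A B]

/-- on the fibre ring `K ⊗ B`, `K ⊗ (t * ·)` is multiplication by `1 ⊗ t` -/
theorem lTensor_mulLeft_eq_mul (K : Type u) [CommRing K] [Algebra A K] (t : B) (x : K ⊗[A] B) :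
    (LinearMap.mulLeft A t).lTensor K x = ((1 : K) ⊗ₜ[A] t) * x := by
  induction x with
  | zero => simp
  | tmul k b =>
    rw [LinearMap.lTensor_tmul, LinearMap.mulLeft_apply, Algebra.TensorProduct.tmul_mul_tmul,
      one_mul]
  | add x y hx hy => rw [map_add, mul_add, hx, hy]

/-- an element mapping to `1` under a retraction is nonzero in each fibre ring -/
theorem one_tmul_ne_zero_of_section (K : Type u) [Field K] [Algebra A K] (u : B →ₐ[A] A) (t : B)
    (ht : u t = 1) : ((1 : K) ⊗ₜ[A] t) ≠ 0 := by
  intro h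
  have h1 := congrArg (TensorProduct.rid A K) (congrArg (u.toLinearMap.lTensor K) h)
  rw [LinearMap.lTensor_tmul, map_zero, map_zero, AlgHom.toLinearMap_apply, ht,
    TensorProduct.rid_tmul, one_smul] at h1
  exact one_ne_zero h1

theorem lTensor_mulLeft_injective_quotient [Module.Flat A B] (hfib : FlatCA.GeomIntegralFibres A B)
    (u : B →ₐ[A] A) (t : B) (ht : u t = 1) (p : Ideal A) [p.IsPrime] :
    Function.Injective ((LinearMap.mulLeft A t).lTensor (A ⧸ p)) := by
  let ι : (A ⧸ p) →ₗ[A] p.ResidueField :=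
    (IsScalarTower.toAlgHom A (A ⧸ p) p.ResidueField).toLinearMap
  have hι : Function.Injective ι := p.injective_algebraMap_quotient_residueField
  have hinj : Function.Injective (ι.rTensor B) :=
    Module.Flat.rTensor_preserves_injective_linearMap (M := B) ι hι
  have hd : IsDomain (p.ResidueField ⊗[A] B) :=
    Groth.Agent.H6.GeomIntFibres.isDomain_tensor hfib p.ResidueField
  rw [injective_iff_map_eq_zero]
  intro x hx
  apply hinj
  rw [map_zero]
  have h1 : (LinearMap.mulLeft A t).lTensor p.ResidueField (ι.rTensor B x) = 0 := by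
    rw [← LinearMap.comp_apply, LinearMap.lTensor_comp_rTensor, ← LinearMap.rTensor_comp_lTensor,
      LinearMap.comp_apply, hx, map_zero]
  rw [lTensor_mulLeft_eq_mul] at h1
  exact (mul_eq_zero.mp h1).resolve_left (one_tmul_ne_zero_of_section _ u t ht)

end LemN

section LemNInd

variable {A B : Type u} [CommRing A] [CommRing B] [Algebra A B]

theorem lTensor_mulLeft_injective_of_exact [Module.Flat A B] (t : B)
    (N₁ N₂ N₃ : Type u) [AddCommGroup N₁] [Module A N₁] [AddCommGroup N₂] [Module A N₂]
    [AddCommGroup N₃] [Module A N₃] (f : N₁ →ₗ[A] N₂) (g : N₂ →ₗ[A] N₃)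
    (hf : Function.Injective f) (hg : Function.Surjective g) (hfg : Function.Exact f g)
    (h1 : Function.Injective ((LinearMap.mulLeft A t).lTensor N₁))
    (h3 : Function.Injective ((LinearMap.mulLeft A t).lTensor N₃)) :
    Function.Injective ((LinearMap.mulLeft A t).lTensor N₂) := by
  have hfinj : Function.Injective (f.rTensor B) :=
    Module.Flat.rTensor_preserves_injective_linearMap (M := B) f hf
  have hex : Function.Exact (f.rTensor B) (g.rTensor B) := rTensor_exact B hfg hg
  rw [injective_iff_map_eq_zero]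
  intro y hy
  have hgy : g.rTensor B y = 0 := by
    apply h3
    rw [map_zero, ← LinearMap.comp_apply, LinearMap.lTensor_comp_rTensor,
      ← LinearMap.rTensor_comp_lTensor, LinearMap.comp_apply, hy, map_zero]
  obtain ⟨z, rfl⟩ := (hex y).mp hgy
  have hz : z = 0 := by
    apply h1
    apply hfinj
    rw [map_zero, map_zero, ← LinearMap.comp_apply, LinearMap.rTensor_comp_lTensor,
      ← LinearMap.lTensor_comp_rTensor, LinearMap.comp_apply, hy]
  rw [hz, map_zero]

theorem lTensor_mulLeft_injective_of_equiv (t : B)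
    (N₁ N₂ : Type u) [AddCommGroup N₁] [Module A N₁] [AddCommGroup N₂] [Module A N₂]
    (e : N₁ ≃ₗ[A] N₂)
    (h2 : Function.Injective ((LinearMap.mulLeft A t).lTensor N₂)) :
    Function.Injective ((LinearMap.mulLeft A t).lTensor N₁) := by
  rw [injective_iff_map_eq_zero]
  intro y hy
  have h : e.toLinearMap.rTensor B y = 0 := by
    apply h2
    rw [map_zero, ← LinearMap.comp_apply, LinearMap.lTensor_comp_rTensor,
      ← LinearMap.rTensor_comp_lTensor, LinearMap.comp_apply, hy, map_zero]
  have hinj : Function.Injective (e.toLinearMap.rTensor B) := (LinearEquiv.rTensor B e).injective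
  exact hinj (by rw [h, map_zero])

theorem lTensor_mulLeft_injective_of_finite [IsNoetherianRing A] [Module.Flat A B]
    (hfib : FlatCA.GeomIntegralFibres A B) (u : B →ₐ[A] A) (t : B) (ht : u t = 1)
    (Q : Type u) [AddCommGroup Q] [Module A Q] (hQ : Module.Finite A Q) :
    Function.Injective ((LinearMap.mulLeft A t).lTensor Q) := by
  induction hQ using IsNoetherianRing.induction_on_isQuotientEquivQuotientPrime A with
  | subsingleton N =>
    intro x y _
    exact Subsingleton.elim _ _
  | quotient N p e =>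
    have := p.2
    exact lTensor_mulLeft_injective_of_equiv t N (A ⧸ p.1) e
      (lTensor_mulLeft_injective_quotient hfib u t ht p.1)
  | exact N₁ N₂ N₃ f g hf hg hfg h1 h3 =>
    exact lTensor_mulLeft_injective_of_exact t N₁ N₂ N₃ f g hf hg hfg h1 h3

end LemNInd

section LemT

variable {A B : Type u} [CommRing A] [CommRing B] [Algebra A B]
  {Bh : Type u} [CommRing Bh] [Algebra B Bh] [Algebra A Bh] [IsScalarTower A B Bh]

/-- elements of `Q ⊗ J` land in `J • ⊤` after swapping -/
theorem comm_lTensor_subtype_mem (J : Ideal B) (Q : Type u) [AddCommGroup Q] [Module A Q]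
    (z : Q ⊗[A] (J.restrictScalars A)) :
    TensorProduct.comm A Q B ((J.restrictScalars A).subtype.lTensor Q z) ∈
      (J • ⊤ : Submodule B (B ⊗[A] Q)) := by
  induction z with
  | zero => simp
  | tmul q b =>
    rw [LinearMap.lTensor_tmul, TensorProduct.comm_tmul]
    have e : ((J.restrictScalars A).subtype b) ⊗ₜ[A] q = (b : B) • ((1 : B) ⊗ₜ[A] q) := by
      rw [TensorProduct.smul_tmul', smul_eq_mul, mul_one]
      rfl
    rw [e]
    exact Submodule.smul_mem_smul b.2 Submodule.mem_top
  | add z₁ z₂ h₁ h₂ =>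
    rw [map_add, map_add]
    exact Submodule.add_mem _ h₁ h₂

/-- if `B/J → Bh/JBh` is bijective, the kernel of `Q ⊗ B → Q ⊗ Bh` lies in `J (B ⊗ Q)` -/
theorem comm_mem_smul_top_of_lTensor_eq_zero (J : Ideal B)
    (hJ : Function.Bijective (Ideal.quotientMap (J.map (algebraMap B Bh))
      (algebraMap B Bh) Ideal.le_comap_map))
    (Q : Type u) [AddCommGroup Q] [Module A Q] (x : Q ⊗[A] B)
    (hx : (IsScalarTower.toAlgHom A B Bh).toLinearMap.lTensor Q x = 0) :
    TensorProduct.comm A Q B x ∈ (J • ⊤ : Submodule B (B ⊗[A] Q)) := by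
  let π : B →ₗ[A] B ⧸ J := (Ideal.Quotient.mkₐ A J).toLinearMap
  let πh : Bh →ₗ[A] Bh ⧸ J.map (algebraMap B Bh) :=
    (Ideal.Quotient.mkₐ A (J.map (algebraMap B Bh))).toLinearMap
  let ψ : (B ⧸ J) →ₗ[A] Bh ⧸ J.map (algebraMap B Bh) :=
    (Ideal.quotientMapₐ (J.map (algebraMap B Bh)) (IsScalarTower.toAlgHom A B Bh)
      Ideal.le_comap_map).toLinearMap
  have hψ : Function.Bijective ψ := hJ
  have hcomm : ψ ∘ₗ π = πh ∘ₗ (IsScalarTower.toAlgHom A B Bh).toLinearMap := by
    ext b
    rfl
  have h1 : π.lTensor Q x = 0 := by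
    apply lTensor_injective_of_bijective Q ψ hψ
    rw [map_zero, ← LinearMap.comp_apply, ← LinearMap.lTensor_comp, hcomm, LinearMap.lTensor_comp,
      LinearMap.comp_apply, hx, map_zero]
  have hex0 : Function.Exact (J.restrictScalars A).subtype π := by
    intro b
    constructor
    · intro hb
      have : b ∈ J := Ideal.Quotient.eq_zero_iff_mem.mp hb
      exact ⟨⟨b, this⟩, rfl⟩
    · rintro ⟨c, rfl⟩
      exact Ideal.Quotient.eq_zero_iff_mem.mpr c.2
  have hπ : Function.Surjective π := Ideal.Quotient.mk_surjective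
  have hex : Function.Exact ((J.restrictScalars A).subtype.lTensor Q) (π.lTensor Q) :=
    lTensor_exact Q hex0 hπ
  obtain ⟨z, rfl⟩ := (hex x).mp h1
  exact comm_lTensor_subtype_mem J Q z

end LemT

section Main

variable (A : Type u) [CommRing A] [IsNoetherianRing A] (B : Type u) [CommRing B] [Algebra A B]
  [Algebra.Smooth A B]

theorem univInj_toAdicCompletion (hfib : FlatCA.GeomIntegralFibres A B) (u : B →ₐ[A] A)
    (Bh : Type u) [CommRing Bh] [Algebra B Bh] [Algebra A Bh] [IsScalarTower A B Bh]
    (hq : ∀ n : ℕ, Function.Bijective (Ideal.quotientMap ((RingHom.ker u ^ n).map (algebraMap B Bh))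
      (algebraMap B Bh) Ideal.le_comap_map)) :
    FlatCA.UnivInj A (IsScalarTower.toAlgHom A B Bh).toLinearMap := by
  have hBN : IsNoetherianRing B := Algebra.FiniteType.isNoetherianRing A B
  apply Groth.Agent.H6.UnivInjAdic.univInj_of_finite
  intro Q _ _ hQ
  rw [injective_iff_map_eq_zero]
  intro x hx
  have hmem : TensorProduct.comm A Q B x ∈
      (⨅ n : ℕ, (RingHom.ker u) ^ n • ⊤ : Submodule B (B ⊗[A] Q)) := by
    rw [Submodule.mem_iInf]
    intro n
    exact comm_mem_smul_top_of_lTensor_eq_zero (RingHom.ker u ^ n) (hq n) Q x hx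
  have hfin : Module.Finite B (B ⊗[A] Q) := inferInstance
  obtain ⟨r, hr⟩ := ((RingHom.ker u).mem_iInf_smul_pow_eq_bot_iff _).mp hmem
  have hut : u (1 - (r : B)) = 1 := by
    rw [map_sub, map_one, (RingHom.mem_ker).mp r.2, sub_zero]
  have h0 : (LinearMap.mulLeft A (1 - (r : B))).lTensor Q x = 0 := by
    apply (TensorProduct.comm A Q B).injective
    rw [comm_lTensor_mulLeft, map_zero]
    have hgen : ∀ y : B ⊗[A] Q, (r : B) • y = y → (1 - (r : B)) • y = 0 := by
      intro y hy
      have h := sub_smul 1 (r : B) y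
      rw [h, one_smul, hy, sub_self]
    exact hgen _ hr
  exact (injective_iff_map_eq_zero _).mp
    (lTensor_mulLeft_injective_of_finite hfib u _ hut Q hQ) x h0

end Main

end Groth.Agent.H32.SmoothComplUnivInj
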