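import Mathlib
import Groth.Prelude.Def_FlatCA

/-!
# Universal purity along a fibre via purity of all base changes
-/

set_option autoImplicit false
set_option linter.unusedSectionVars false
universe u

open TensorProduct

namespace Groth.Agent.H32.UnivPureBC

section Self

variable {A' B' : Type u} [CommRing A'] [CommRing B'] [Algebra A' B']

theorem bijective_mapₐ_of_eq (t : Ideal A') [t.IsPrime] (f : A' →ₐ[A'] A')
    (hf : f = AlgHom.id A' A') (h : t = t.comap f.toRingHom) :
    Function.Bijective (Ideal.ResidueField.mapₐ t t f h) := by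
  subst hf
  rw [Ideal.ResidueField.mapₐ_id]
  exact Function.bijective_id

theorem isEtaleNhd_self (t : Ideal A') [t.IsPrime] : FlatCA.IsEtaleNhd A' A' t t := by
  have hover : t.LiesOver t := ⟨by rw [Ideal.under_def]; rfl⟩
  refine ⟨inferInstance, hover, ?_⟩
  exact bijective_mapₐ_of_eq t _ (AlgHom.ext fun _ => rfl) _

variable (N' : Type u) [AddCommGroup N'] [Module B' N'] [Module A' N'] [IsScalarTower A' B' N']

/-- an impurity over `(A', t)` is an impurity of the base-changed module over the trivial etale
neighbourhood -/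
theorem isImpurity_self {A B : Type u} [CommRing A] [CommRing B] [Algebra A B]
    (N : Type u) [AddCommGroup N] [Module B N] (p : Ideal A) [p.IsPrime]
    [Algebra A A'] [Algebra B B'] [Algebra A B'] [IsScalarTower A B B'] [IsScalarTower A A' B']
    [Module B N'] [IsScalarTower B B' N'] (f : N →ₗ[B] N')
    (t' t : Ideal A') [t'.IsPrime] [t.IsPrime] (P : Ideal B') [P.IsPrime]
    (h : FlatCA.IsImpurity A B N p A' B' N' f t' t P) :
    FlatCA.IsImpurity A' B' N' t A' B' N' (LinearMap.id) t' t P := by
  obtain ⟨hpo, hbc, hle, htp, hPt', hass, hno⟩ := h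
  refine ⟨inferInstance, ?_, hle, ⟨by rw [Ideal.under_def]; rfl⟩, hPt', hass, hno⟩
  exact IsBaseChange.of_equiv (TensorProduct.lid B' N') (fun x => by simp)

end Self

section Comp

variable {A B : Type u} [CommRing A] [CommRing B] [Algebra A B]
  (N : Type u) [AddCommGroup N] [Module B N] (p : Ideal A) [p.IsPrime]
  (A' B' N' : Type u) [CommRing A'] [CommRing B'] [Algebra A A'] [Algebra B B']
  [Algebra A' B'] [Algebra A B'] [IsScalarTower A B B'] [IsScalarTower A A' B']
  [AddCommGroup N'] [Module B' N'] [Module B N'] [IsScalarTower B B' N']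
  (A'' B'' N'' : Type u) [CommRing A''] [CommRing B''] [Algebra A' A''] [Algebra B' B'']
  [Algebra A'' B''] [Algebra A' B''] [IsScalarTower A' B' B''] [IsScalarTower A' A'' B'']
  [AddCommGroup N''] [Module B'' N''] [Module B' N''] [IsScalarTower B' B'' N''] [Module A'' N'']
  [IsScalarTower A'' B'' N'']
  [Algebra A A''] [IsScalarTower A A' A''] [Algebra B B''] [IsScalarTower B B' B'']
  [Algebra A B''] [IsScalarTower A B B''] [IsScalarTower A A'' B''] [IsScalarTower A A' B'']
  [IsScalarTower A B' B'']
  [Module B N''] [IsScalarTower B B'' N''] [IsScalarTower B B' N'']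

/-- an impurity of a base change gives an impurity of the original module -/
theorem isImpurity_comp (hpo : Algebra.IsPushout A B A' B') (g : N →ₗ[B] N')
    (hg : IsBaseChange B' g) (p' : Ideal A') [p'.IsPrime] (hp' : p'.LiesOver p)
    (f' : N' →ₗ[B'] N'') (t' t : Ideal A'') [t'.IsPrime] [t.IsPrime] (P : Ideal B'') [P.IsPrime]
    (h : FlatCA.IsImpurity A' B' N' p' A'' B'' N'' f' t' t P) :
    FlatCA.IsImpurity A B N p A'' B'' N'' ((f'.restrictScalars B) ∘ₗ g) t' t P := by
  obtain ⟨hpo', hbc', hle, htp', hPt', hass, hno⟩ := h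
  refine ⟨?_, IsBaseChange.comp hg hbc', hle, ?_, hPt', hass, hno⟩
  · haveI h1 : Algebra.IsPushout A A' B B' := hpo.symm
    have h2 : Algebra.IsPushout A' A'' B' B'' := hpo'.symm
    have h3 : Algebra.IsPushout A A'' B B'' :=
      (Algebra.IsPushout.comp_iff A A' B (S' := B') (T := A'') (T' := B'')).mpr h2
    exact h3.symm
  · exact Ideal.LiesOver.trans t p' p

end Comp

end Groth.Agent.H32.UnivPureBC
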