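import Mathlib
import Groth.Prelude.Def_FlatCA
import Groth.Agent.H32.ContentNak
import Groth.Agent.H32.FiberAss

/-!
# A module that is projective over the base is universally pure
-/

set_option autoImplicit false
set_option linter.unusedSectionVars false
universe u

open TensorProduct

namespace Groth.Agent.H32.UnivPureProj

open Groth.Agent.H32.ContentNak Groth.Agent.H32.FiberAss

attribute [local instance] Algebra.TensorProduct.rightAlgebra

section BaseChange

variable {A B : Type u} [CommRing A] [CommRing B] [Algebra A B]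
  (N : Type u) [AddCommGroup N] [Module B N] [Module A N] [IsScalarTower A B N]
  (A' B' N' : Type u) [CommRing A'] [CommRing B'] [Algebra A A'] [Algebra B B']
  [Algebra A' B'] [Algebra A B'] [IsScalarTower A B B'] [IsScalarTower A A' B']
  [AddCommGroup N'] [Module B' N'] [Module B N'] [IsScalarTower B B' N'] [Module A' N']
  [IsScalarTower A' B' N']

theorem projective_baseChange [Module.Projective A N] (hpo : Algebra.IsPushout A B A' B')
    (f : N →ₗ[B] N') (hbc : IsBaseChange B' f) : Module.Projective A' N' := by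
  haveI : Algebra.IsPushout A A' B B' := hpo.symm
  let e1 : B' ⊗[B] N ≃ₗ[A'] A' ⊗[A] N := Algebra.IsPushout.cancelBaseChange A A' B B' N
  let e2 : B' ⊗[B] N ≃ₗ[A'] N' := hbc.equiv.restrictScalars A'
  exact Module.Projective.of_equiv (e1.symm ≪≫ₗ e2)

end BaseChange

section Closure

variable {A' B' : Type u} [CommRing A'] [CommRing B'] [Algebra A' B']

theorem exists_notMem_mem_sup (t : Ideal A') [t.IsPrime] (P : Ideal B')
    (hno : ∀ (P' : Ideal B') [P'.IsPrime], P ≤ P' → ¬ P'.LiesOver t) :
    ∃ s : A', s ∉ t ∧ algebraMap A' B' s ∈ P ⊔ t.map (algebraMap A' B') := by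
  by_contra hcon
  push_neg at hcon
  let S₀ : Submonoid B' := t.primeCompl.map (algebraMap A' B')
  have hdisj : Disjoint ((P ⊔ t.map (algebraMap A' B') : Ideal B') : Set B') (S₀ : Set B') := by
    rw [Set.disjoint_left]
    rintro _ hI ⟨s, hs, rfl⟩
    exact hcon s hs hI
  obtain ⟨P', hP', hle, hd⟩ := Ideal.exists_le_prime_disjoint _ S₀ hdisj
  refine hno P' (le_sup_left.trans hle) ⟨?_⟩
  ext a
  rw [Ideal.under_def, Ideal.mem_comap]
  constructor
  · intro ha
    exact hle (Ideal.mem_sup_right (Ideal.mem_map_of_mem _ ha))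
  · intro ha
    by_contra hat
    exact Set.disjoint_left.mp hd ha ⟨a, hat, rfl⟩

end Closure

section Action

variable (A' : Type u) {B' : Type u} [CommRing A'] [CommRing B'] [Algebra A' B']
  (N' : Type u) [AddCommGroup N'] [Module B' N'] [Module A' N'] [IsScalarTower A' B' N']
  (t' : Ideal A') [t'.IsPrime]

/-- the action of `B'` on `N'` by `A'`-linear endomorphisms -/
noncomputable def ρ : B' →+* Module.End A' N' := Module.toModuleEnd A' (S := B') N'

theorem ρ_apply (b : B') (n : N') : ρ A' N' b n = b • n := rfl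

theorem ρ_algebraMap (c : A') : ρ A' N' (algebraMap A' B' c) = c • (1 : Module.End A' N') := by
  ext n
  rw [ρ_apply, algebraMap_smul, LinearMap.smul_apply, Module.End.one_apply]

variable {A'}

/-- the fibre module mapped to `K ⊗ N'` -/
noncomputable def toK (w : FlatCA.fiberMod t' B' N') : t'.ResidueField ⊗[A'] N' :=
  TensorProduct.comm A' N' t'.ResidueField (fiberModEquiv (S := B') N' t' w)

theorem toK_eq_zero_iff (w : FlatCA.fiberMod t' B' N') : toK N' t' w = 0 ↔ w = 0 := by
  unfold toK
  rw [LinearEquiv.map_eq_zero_iff, LinearEquiv.map_eq_zero_iff]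

theorem includeRight_smul' (b : B') (w : (t'.Fiber B') ⊗[B'] N') :
    ((Algebra.TensorProduct.includeRight (R := A') (A := t'.ResidueField) (B := B') b :
      t'.Fiber B') • w) = b • w := by
  rw [← algebraMap_smul (t'.Fiber B') b w]
  rfl

theorem includeRight_smul (b : B') (w : FlatCA.fiberMod t' B' N') :
    ((Algebra.TensorProduct.includeRight (R := A') (A := t'.ResidueField) (B := B') b :
      t'.Fiber B') • w : FlatCA.fiberMod t' B' N') = b • w :=
  includeRight_smul' N' t' b w

theorem comm_smul (b : B') (z : N' ⊗[A'] t'.ResidueField) :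
    TensorProduct.comm A' N' t'.ResidueField (b • z) =
      (ρ A' N' b).lTensor t'.ResidueField (TensorProduct.comm A' N' t'.ResidueField z) := by
  induction z with
  | zero => simp
  | tmul n k =>
    rw [TensorProduct.smul_tmul', TensorProduct.comm_tmul, TensorProduct.comm_tmul,
      LinearMap.lTensor_tmul, ρ_apply]
  | add z₁ z₂ h₁ h₂ => rw [smul_add, map_add, map_add, map_add, h₁, h₂]

theorem toK_includeRight_smul (b : B') (w : FlatCA.fiberMod t' B' N') :
    toK N' t' ((Algebra.TensorProduct.includeRight (R := A') (A := t'.ResidueField) (B := B') b :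
      t'.Fiber B') • w) = (ρ A' N' b).lTensor t'.ResidueField (toK N' t' w) := by
  rw [includeRight_smul]
  unfold toK
  rw [map_smul, comm_smul]

end Action

section Main

variable {A' B' : Type u} [CommRing A'] [CommRing B'] [Algebra A' B']
  (N' : Type u) [AddCommGroup N'] [Module B' N'] [Module A' N'] [IsScalarTower A' B' N']

/-- elements of `t B'` act on `x` within `t • range (evalL x)`, even after composing with any
endomorphism -/
theorem lTensor_comp_ρ_mem (t : Ideal A') (K : Type u) [Field K] [Algebra A' K]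
    (x : K ⊗[A'] N') (w : B') (hw : w ∈ t.map (algebraMap A' B')) :
    ∀ β : Module.End A' N', (β ∘ₗ ρ A' N' w).lTensor K x ∈ t • LinearMap.range (evalL x) := by
  unfold Ideal.map at hw
  induction hw using Submodule.span_induction with
  | mem w hw =>
    obtain ⟨τ, hτ, rfl⟩ := hw
    intro β
    rw [ρ_algebraMap]
    have : β ∘ₗ (τ • (1 : Module.End A' N')) = τ • β := by
      ext n
      simp
    rw [this, LinearMap.lTensor_smul, LinearMap.smul_apply]
    exact Submodule.smul_mem_smul hτ ⟨β, rfl⟩
  | zero =>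
    intro β
    rw [map_zero, LinearMap.comp_zero, LinearMap.lTensor_zero, LinearMap.zero_apply]
    exact Submodule.zero_mem _
  | add w₁ w₂ _ _ h₁ h₂ =>
    intro β
    rw [map_add, LinearMap.comp_add, LinearMap.lTensor_add, LinearMap.add_apply]
    exact Submodule.add_mem _ (h₁ β) (h₂ β)
  | smul b w _ h =>
    intro β
    rw [smul_eq_mul, map_mul, Module.End.mul_eq_comp, ← LinearMap.comp_assoc]
    exact h (β ∘ₗ ρ A' N' b)

theorem eq_zero_of_radical_colon [Module.Projective A' N'] (t' t : Ideal A') [t'.IsPrime]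
    [t.IsPrime] (hle : t' ≤ t) (P : Ideal B')
    (s : A') (hs : s ∉ t) (hsI : algebraMap A' B' s ∈ P ⊔ t.map (algebraMap A' B'))
    (w : FlatCA.fiberMod t' B' N')
    (hw : FlatCA.fiberIdeal t' P ≤ ((⊥ : Submodule (t'.Fiber B') (FlatCA.fiberMod t' B' N')).colon
      {w}).radical) : w = 0 := by
  obtain ⟨a, ha, v, hv, hav⟩ := Submodule.mem_sup.mp hsI
  have hmem : (Algebra.TensorProduct.includeRight (R := A') (A := t'.ResidueField) (B := B') a :
      t'.Fiber B') ∈ FlatCA.fiberIdeal t' P := Ideal.mem_map_of_mem _ ha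
  obtain ⟨k, hk⟩ := hw hmem
  rw [Submodule.mem_colon_singleton, Submodule.mem_bot, ← map_pow] at hk
  have h1 : (ρ A' N' (a ^ k)).lTensor t'.ResidueField (toK N' t' w) = 0 := by
    rw [← toK_includeRight_smul, hk]
    exact (toK_eq_zero_iff N' t' 0).mpr rfl
  -- `s ^ k = a ^ k + v'` with `v' ∈ t B'`
  have hv' : algebraMap A' B' (s ^ k) - a ^ k ∈ t.map (algebraMap A' B') := by
    rw [← Ideal.Quotient.eq, map_pow, map_pow, map_pow, ← hav, map_add,
      Ideal.Quotient.eq_zero_iff_mem.mpr hv, add_zero]
  have hsk : s ^ k ∉ t := fun h => hs (Ideal.IsPrime.mem_of_pow_mem inferInstance k h)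
  have hK : ∀ d : A', algebraMap A' t'.ResidueField d = 0 → d ∈ t := fun d hd =>
    hle (Ideal.algebraMap_residueField_eq_zero.mp hd)
  rw [← toK_eq_zero_iff N' t' w]
  apply eq_zero_of_smul_mem t hK (toK N' t' w) (s ^ k) hsk
  have h2 := lTensor_comp_ρ_mem N' t t'.ResidueField (toK N' t' w) _ hv' 1
  rw [Module.End.one_eq_id, LinearMap.id_comp, map_sub, LinearMap.lTensor_sub,
    LinearMap.sub_apply, h1, sub_zero, ρ_algebraMap, LinearMap.lTensor_smul,
    LinearMap.smul_apply, Module.End.one_eq_id, LinearMap.lTensor_id, LinearMap.id_apply] at h2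
  exact h2

end Main

section Final

variable {A B : Type u} [CommRing A] [CommRing B] [Algebra A B]
  (N : Type u) [AddCommGroup N] [Module B N] [Module A N] [IsScalarTower A B N]
  (A' B' N' : Type u) [CommRing A'] [CommRing B'] [Algebra A A'] [Algebra B B']
  [Algebra A' B'] [Algebra A B'] [IsScalarTower A B B'] [IsScalarTower A A' B']
  [AddCommGroup N'] [Module B' N'] [Module B N'] [IsScalarTower B B' N'] [Module A' N']
  [IsScalarTower A' B' N']

theorem not_isImpurity [Module.Projective A N] (p : Ideal A) [p.IsPrime] (f : N →ₗ[B] N')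
    (t' t : Ideal A') [t'.IsPrime] [t.IsPrime] (P : Ideal B') [P.IsPrime] :
    ¬ FlatCA.IsImpurity A B N p A' B' N' f t' t P := by
  rintro ⟨hpo, hbc, hle, _, _, hass, hno⟩
  haveI hproj : Module.Projective A' N' := projective_baseChange N A' B' N' hpo f hbc
  obtain ⟨s, hs, hsI⟩ := exists_notMem_mem_sup t P hno
  obtain ⟨hprime, w, hw⟩ := hass
  have hw0 : w = 0 := eq_zero_of_radical_colon N' t' t hle P s hs hsI w hw.le
  apply hprime.ne_top
  rw [hw, hw0, Ideal.radical_eq_top]
  ext y
  simp [Submodule.mem_colon_singleton]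

end Final

end Groth.Agent.H32.UnivPureProj
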