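import Mathlib
import Groth.Agent.H32.SemiVal

/-!
# Étale extensions of valuation rings: composition along a prime

`V → W` an extension of valuation rings such that every nonzero element of `W` has a power which is
a unit multiple of an element of `V` (e.g. for algebraic extensions of the fraction fields), `P` a
prime of `W` over `p`.  If `V_p → W_P` and `V/p → W/P` are étale then `V → W` is étale.
-/

set_option autoImplicit false

namespace Groth.Agent.H32.ValEtale

universe u

open IsLocalRing TensorProduct

section Basic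

variable {V : Type u} [CommRing V] [IsDomain V] [ValuationRing V]

theorem exists_eq_mul_of_mem_of_notMem (p : Ideal V) [p.IsPrime] {a t : V} (ha : a ∈ p)
    (ht : t ∉ p) : ∃ b ∈ p, a = t * b := by
  obtain ⟨c, hc | hc⟩ := ValuationRing.cond a t
  · exact absurd (hc ▸ p.mul_mem_right c ha) ht
  · refine ⟨c, ?_, hc.symm⟩
    rcases (Ideal.IsPrime.mem_or_mem inferInstance (hc ▸ ha : t * c ∈ p)) with h | h
    · exact absurd h ht
    · exact h

variable {W : Type u} [CommRing W] [Algebra V W]

theorem exists_eq_mul_of_mem_map (p : Ideal V) [p.IsPrime] {t : V} (ht : t ∉ p) {y : W}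
    (hy : y ∈ p.map (algebraMap V W)) :
    ∃ z ∈ p.map (algebraMap V W), y = algebraMap V W t * z := by
  induction hy using Submodule.span_induction with
  | mem x hx =>
    obtain ⟨a, ha, rfl⟩ := hx
    obtain ⟨b, hb, rfl⟩ := exists_eq_mul_of_mem_of_notMem p ha ht
    exact ⟨algebraMap V W b, Ideal.mem_map_of_mem _ hb, map_mul _ _ _⟩
  | zero => exact ⟨0, zero_mem _, by simp⟩
  | add x y _ _ hx hy =>
    obtain ⟨z1, h1, rfl⟩ := hx
    obtain ⟨z2, h2, rfl⟩ := hy
    exact ⟨z1 + z2, add_mem h1 h2, by ring⟩
  | smul c x _ hx =>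
    obtain ⟨z, hz, rfl⟩ := hx
    exact ⟨c * z, Ideal.mul_mem_left _ _ hz, by simp only [smul_eq_mul]; ring⟩

theorem exists_eq_algebraMap_mul_of_mem_map (p : Ideal V) {x : W}
    (hx : x ∈ p.map (algebraMap V W)) : ∃ a ∈ p, ∃ w : W, x = algebraMap V W a * w := by
  induction hx using Submodule.span_induction with
  | mem x hx =>
    obtain ⟨a, ha, rfl⟩ := hx
    exact ⟨a, ha, 1, by simp⟩
  | zero => exact ⟨0, zero_mem _, 0, by simp⟩
  | add x y _ _ hx hy =>
    obtain ⟨a, ha, w, rfl⟩ := hx
    obtain ⟨b, hb, w', rfl⟩ := hy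
    obtain ⟨c, hc | hc⟩ := ValuationRing.cond a b
    · exact ⟨a, ha, w + algebraMap V W c * w', by rw [← hc, map_mul]; ring⟩
    · exact ⟨b, hb, algebraMap V W c * w + w', by rw [← hc, map_mul]; ring⟩
  | smul c x _ hx =>
    obtain ⟨a, ha, w, rfl⟩ := hx
    exact ⟨a, ha, c * w, by simp only [smul_eq_mul]; ring⟩

end Basic

variable (V W : Type u) [CommRing V] [IsDomain V] [ValuationRing V] [CommRing W] [IsDomain W]
  [ValuationRing W] [Algebra V W]
  (hdiv : ∀ w : W, w ≠ 0 → ∃ n : ℕ, 1 ≤ n ∧ ∃ (a : V) (u : Wˣ), w ^ n = u * algebraMap V W a)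
  (P : Ideal W) [P.IsPrime]

include hdiv in
omit [IsDomain V] [ValuationRing V] [IsDomain W] [ValuationRing W] in
theorem exists_mul_eq_algebraMap (s : W) (hs : s ∉ P) :
    ∃ (s' : W) (t : V), t ∉ P.comap (algebraMap V W) ∧ s * s' = algebraMap V W t := by
  have hs0 : s ≠ 0 := fun h => hs (h ▸ P.zero_mem)
  obtain ⟨n, hn, a, u, h⟩ := hdiv s hs0
  refine ⟨s ^ (n - 1) * ↑u⁻¹, a, ?_, ?_⟩
  · intro ha
    rw [Ideal.mem_comap] at ha
    have : s ^ n ∈ P := by
      rw [h]
      exact P.mul_mem_left _ ha
    exact hs (Ideal.IsPrime.mem_of_pow_mem inferInstance n this)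
  · have h1 : s * s ^ (n - 1) = s ^ n := by
      rw [← pow_succ']
      congr 1
      omega
    rw [← mul_assoc, h1, h, mul_comm (u : W), mul_assoc, Units.mul_inv, mul_one]

include hdiv in
/-- `P = pW` when `V_p → W_P` is étale. -/
theorem eq_map_comap
    (hA : (Localization.localRingHom (P.comap (algebraMap V W)) P (algebraMap V W) rfl).Etale) :
    P = (P.comap (algebraMap V W)).map (algebraMap V W) := by
  refine le_antisymm ?_ Ideal.map_comap_le
  intro x hx
  letI : Algebra (Localization.AtPrime (P.comap (algebraMap V W))) (Localization.AtPrime P) :=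
    (Localization.localRingHom (P.comap (algebraMap V W)) P (algebraMap V W) rfl).toAlgebra
  have hE : Algebra.Etale (Localization.AtPrime (P.comap (algebraMap V W)))
    (Localization.AtPrime P) := hA
  have hloc : IsLocalHom (algebraMap (Localization.AtPrime (P.comap (algebraMap V W)))
    (Localization.AtPrime P)) := Localization.isLocalHom_localRingHom _ _ _ _
  have hmax : (maximalIdeal (Localization.AtPrime (P.comap (algebraMap V W)))).map
      (algebraMap (Localization.AtPrime (P.comap (algebraMap V W))) (Localization.AtPrime P)) =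
      maximalIdeal (Localization.AtPrime P) := Algebra.FormallyUnramified.map_maximalIdeal
  rw [← IsLocalization.AtPrime.map_eq_maximalIdeal (P.comap (algebraMap V W))
    (Localization.AtPrime (P.comap (algebraMap V W))),
    ← IsLocalization.AtPrime.map_eq_maximalIdeal P (Localization.AtPrime P), Ideal.map_map] at hmax
  have hcomp : (algebraMap (Localization.AtPrime (P.comap (algebraMap V W)))
      (Localization.AtPrime P)).comp (algebraMap V (Localization.AtPrime (P.comap (algebraMap V W))))
      = (algebraMap W (Localization.AtPrime P)).comp (algebraMap V W) := by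
    ext v
    exact Localization.localRingHom_to_map _ _ _ rfl v
  rw [hcomp, ← Ideal.map_map] at hmax
  have hx' : algebraMap W (Localization.AtPrime P) x ∈
      Ideal.map (algebraMap W (Localization.AtPrime P))
        ((P.comap (algebraMap V W)).map (algebraMap V W)) := by
    rw [hmax]
    exact Ideal.mem_map_of_mem _ hx
  rw [IsLocalization.mem_map_algebraMap_iff P.primeCompl] at hx'
  obtain ⟨⟨⟨y, hy⟩, ⟨s, hs⟩⟩, h⟩ := hx'
  have hxs : x * s = y := by
    apply IsLocalization.injective (Localization.AtPrime P) P.primeCompl_le_nonZeroDivisors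
    rw [map_mul]
    exact h
  obtain ⟨s', t, ht, hst⟩ := exists_mul_eq_algebraMap V W hdiv P s hs
  have h1 : algebraMap V W t * x ∈ (P.comap (algebraMap V W)).map (algebraMap V W) := by
    have : algebraMap V W t * x = y * s' := by
      rw [← hst, ← hxs]
      ring
    rw [this]
    exact Ideal.mul_mem_right _ _ hy
  obtain ⟨z, hz, hz'⟩ := exists_eq_mul_of_mem_map (P.comap (algebraMap V W)) ht h1
  have ht0 : algebraMap V W t ≠ 0 := fun h0 => ht (by
    rw [Ideal.mem_comap, h0]
    exact P.zero_mem)
  rw [mul_left_cancel₀ ht0 hz']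
  exact hz

include hdiv in
/-- `W` is of finite type over `V`. -/
theorem finiteType
    (hA : (Localization.localRingHom (P.comap (algebraMap V W)) P (algebraMap V W) rfl).Etale)
    (hB : (Ideal.quotientMap P (algebraMap V W)
      (le_refl (Ideal.comap (algebraMap V W) P))).Etale) :
    Algebra.FiniteType V W := by
  classical
  have hP := eq_map_comap V W hdiv P hA
  letI : Algebra (Localization.AtPrime (P.comap (algebraMap V W))) (Localization.AtPrime P) :=
    (Localization.localRingHom (P.comap (algebraMap V W)) P (algebraMap V W) rfl).toAlgebra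
  have hE : Algebra.Etale (Localization.AtPrime (P.comap (algebraMap V W)))
    (Localization.AtPrime P) := hA
  have hcomp : ∀ v : V, algebraMap (Localization.AtPrime (P.comap (algebraMap V W)))
      (Localization.AtPrime P) (algebraMap V (Localization.AtPrime (P.comap (algebraMap V W))) v)
      = algebraMap W (Localization.AtPrime P) (algebraMap V W v) :=
    fun v => Localization.localRingHom_to_map _ _ _ rfl v
  have hinj : Function.Injective (algebraMap W (Localization.AtPrime P)) :=
    IsLocalization.injective (Localization.AtPrime P) P.primeCompl_le_nonZeroDivisors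
  -- numerators with denominators in `V`
  have hnum : ∀ z : Localization.AtPrime P, ∃ (n : W) (t : V),
      t ∉ P.comap (algebraMap V W) ∧
        algebraMap W (Localization.AtPrime P) (algebraMap V W t) * z =
          algebraMap W (Localization.AtPrime P) n := by
    intro z
    obtain ⟨⟨w, ⟨s, hs⟩⟩, h⟩ := IsLocalization.surj P.primeCompl z
    obtain ⟨s', t, ht, hst⟩ := exists_mul_eq_algebraMap V W hdiv P s hs
    refine ⟨s' * w, t, ht, ?_⟩
    have h' : z * algebraMap W (Localization.AtPrime P) s =
        algebraMap W (Localization.AtPrime P) w := h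
    rw [← hst, map_mul, map_mul, ← h']
    ring
  choose num den hden hnum using hnum
  obtain ⟨S₁, hS₁⟩ := (Algebra.FiniteType.out :
    (⊤ : Subalgebra (Localization.AtPrime (P.comap (algebraMap V W)))
      (Localization.AtPrime P)).FG)
  -- Claim A
  have hA' : ∀ y ∈ Algebra.adjoin (Localization.AtPrime (P.comap (algebraMap V W)))
      (S₁ : Set (Localization.AtPrime P)),
      ∃ t : V, t ∉ P.comap (algebraMap V W) ∧ ∃ c ∈ Algebra.adjoin V (S₁.image num : Set W),
        algebraMap W (Localization.AtPrime P) (algebraMap V W t) * y =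
          algebraMap W (Localization.AtPrime P) c := by
    intro y hy
    induction hy using Algebra.adjoin_induction with
    | mem z hz =>
      exact ⟨den z, hden z, num z, Algebra.subset_adjoin (by
        simp only [Finset.coe_image, Set.mem_image, Finset.mem_coe]
        exact ⟨z, hz, rfl⟩), hnum z⟩
    | algebraMap r =>
      obtain ⟨⟨v, ⟨t, ht⟩⟩, h⟩ := IsLocalization.surj (P.comap (algebraMap V W)).primeCompl r
      refine ⟨t, ht, algebraMap V W v, Subalgebra.algebraMap_mem _ v, ?_⟩
      have h' : r * algebraMap V (Localization.AtPrime (P.comap (algebraMap V W))) t =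
        algebraMap V (Localization.AtPrime (P.comap (algebraMap V W))) v := h
      rw [← hcomp, ← hcomp, ← h', map_mul]
      ring
    | add x y _ _ hx hy =>
      obtain ⟨t1, ht1, c1, hc1, h1⟩ := hx
      obtain ⟨t2, ht2, c2, hc2, h2⟩ := hy
      refine ⟨t1 * t2, (Ideal.IsPrime.mul_notMem inferInstance ht1 ht2),
        algebraMap V W t2 * c1 + algebraMap V W t1 * c2,
        add_mem (mul_mem (Subalgebra.algebraMap_mem _ _) hc1)
          (mul_mem (Subalgebra.algebraMap_mem _ _) hc2), ?_⟩
      simp only [map_mul, map_add]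
      rw [← h1, ← h2]
      ring
    | mul x y _ _ hx hy =>
      obtain ⟨t1, ht1, c1, hc1, h1⟩ := hx
      obtain ⟨t2, ht2, c2, hc2, h2⟩ := hy
      refine ⟨t1 * t2, (Ideal.IsPrime.mul_notMem inferInstance ht1 ht2), c1 * c2,
        mul_mem hc1 hc2, ?_⟩
      simp only [map_mul]
      rw [← h1, ← h2]
      ring
  -- generators of `W ⧸ P`
  have hE2 : Algebra.Etale (V ⧸ P.comap (algebraMap V W)) (W ⧸ P) :=
    RingHom.etale_algebraMap.mp hB
  have hft2 : Algebra.FiniteType V (W ⧸ P) :=
    Algebra.FiniteType.trans (S := V ⧸ P.comap (algebraMap V W))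
      (Algebra.FiniteType.of_surjective (Algebra.ofId V (V ⧸ P.comap (algebraMap V W)))
        Ideal.Quotient.mk_surjective) inferInstance
  obtain ⟨S₂, hS₂⟩ := (Algebra.FiniteType.out : (⊤ : Subalgebra V (W ⧸ P)).FG)
  have hlift : ∀ z : W ⧸ P, ∃ w : W, Ideal.Quotient.mk P w = z := Ideal.Quotient.mk_surjective
  choose lift hlift using hlift
  have hB' : ∀ w : W, ∃ c ∈ Algebra.adjoin V (S₂.image lift : Set W), w - c ∈ P := by
    intro w
    have h1 : (Algebra.adjoin V (S₂.image lift : Set W)).map (Ideal.Quotient.mkₐ V P) = ⊤ := by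
      rw [AlgHom.map_adjoin, ← hS₂]
      congr 1
      ext z
      simp only [Finset.coe_image, Set.mem_image, Finset.mem_coe, Ideal.Quotient.mkₐ_eq_mk,
        exists_exists_and_eq_and, hlift, exists_eq_right]
    have h2 : Ideal.Quotient.mk P w ∈
        (Algebra.adjoin V (S₂.image lift : Set W)).map (Ideal.Quotient.mkₐ V P) := by
      rw [h1]
      exact Algebra.mem_top
    obtain ⟨c, hc, hcw⟩ := h2
    refine ⟨c, hc, ?_⟩
    rw [← Ideal.Quotient.eq]
    exact hcw.symm
  refine ⟨⟨S₁.image num ∪ S₂.image lift, ?_⟩⟩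
  rw [eq_top_iff]
  intro w _
  obtain ⟨c2, hc2, hw⟩ := hB' w
  have hle1 : Algebra.adjoin V (S₁.image num : Set W) ≤
      Algebra.adjoin V ((S₁.image num ∪ S₂.image lift : Finset W) : Set W) :=
    Algebra.adjoin_mono (by simp)
  have hle2 : Algebra.adjoin V (S₂.image lift : Set W) ≤
      Algebra.adjoin V ((S₁.image num ∪ S₂.image lift : Finset W) : Set W) :=
    Algebra.adjoin_mono (by simp)
  rw [hP] at hw
  obtain ⟨a, ha, w', hw'⟩ := exists_eq_algebraMap_mul_of_mem_map (P.comap (algebraMap V W)) hw
  obtain ⟨t, ht, c1, hc1, h1⟩ := hA' (algebraMap W (Localization.AtPrime P) w') (by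
    rw [hS₁]
    exact Algebra.mem_top)
  rw [← map_mul] at h1
  have h1' : algebraMap V W t * w' = c1 := hinj h1
  obtain ⟨b, hb, rfl⟩ := exists_eq_mul_of_mem_of_notMem (P.comap (algebraMap V W)) ha ht
  have hfin : w = c2 + algebraMap V W b * c1 := by
    have : w - c2 = algebraMap V W b * c1 := by
      rw [hw', ← h1', map_mul]
      ring
    rw [← this]
    ring
  rw [hfin]
  exact add_mem (hle2 hc2) (mul_mem (Subalgebra.algebraMap_mem _ _) (hle1 hc1))

/-- `W` is formally unramified over `V`. -/
theorem formallyUnramified [Algebra.FiniteType V W]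
    (hP : P = (P.comap (algebraMap V W)).map (algebraMap V W))
    (hB : (Ideal.quotientMap P (algebraMap V W)
      (le_refl (Ideal.comap (algebraMap V W) P))).Etale) :
    Algebra.FormallyUnramified V W := by
  have hE2 : Algebra.Etale (V ⧸ P.comap (algebraMap V W)) (W ⧸ P) :=
    RingHom.etale_algebraMap.mp hB
  have hU2 : Algebra.FormallyUnramified V (V ⧸ P.comap (algebraMap V W)) :=
    Algebra.FormallyUnramified.of_surjective (Algebra.ofId V (V ⧸ P.comap (algebraMap V W)))
      Ideal.Quotient.mk_surjective
  have hU3 : Algebra.FormallyUnramified V (W ⧸ P) :=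
    Algebra.FormallyUnramified.comp V (V ⧸ P.comap (algebraMap V W)) (W ⧸ P)
  have hsub : Subsingleton ((W ⧸ P) ⊗[W] Ω[W⁄V]) := by
    refine subsingleton_of_forall_eq 0 fun x => ?_
    obtain ⟨y, rfl⟩ := (KaehlerDifferential.exact_kerCotangentToTensor_mapBaseChange V W (W ⧸ P)
      Ideal.Quotient.mk_surjective x).mp (Subsingleton.elim _ _)
    obtain ⟨⟨z, hz⟩, rfl⟩ := Ideal.toCotangent_surjective _ y
    simp only [KaehlerDifferential.kerCotangentToTensor_toCotangent]
    replace hz : z ∈ Ideal.map (algebraMap V W) (P.comap (algebraMap V W)) := by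
      rw [← hP]
      simpa using hz
    induction hz using Submodule.span_induction with
    | zero => simp
    | mem x h => obtain ⟨x, hx, rfl⟩ := h; simp
    | add x y hx hy _ _ => simp [*, TensorProduct.tmul_add]
    | smul a x hx _ =>
      have : Ideal.Quotient.mk P x = 0 := by
        rw [Ideal.Quotient.eq_zero_iff_mem, hP]
        exact hx
      simp [*, TensorProduct.tmul_add, TensorProduct.smul_tmul', ← Algebra.algebraMap_eq_smul_one]
  refine ⟨?_⟩
  have htop : (⊤ : Submodule W Ω[W⁄V]) = ⊥ := by
    refine Submodule.eq_bot_of_le_smul_of_le_jacobson_bot P ⊤ Module.Finite.fg_top ?_ ?_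
    · intro ω _
      have h0 : (TensorProduct.quotTensorEquivQuotSMul Ω[W⁄V] P) ((1 : W ⧸ P) ⊗ₜ ω) = 0 := by
        rw [Subsingleton.elim ((1 : W ⧸ P) ⊗ₜ[W] ω) 0, map_zero]
      rw [TensorProduct.quotTensorEquivQuotSMul_mk_one_tmul, Submodule.Quotient.mk_eq_zero] at h0
      exact h0
    · rw [IsLocalRing.jacobson_eq_maximalIdeal ⊥ bot_ne_top]
      exact IsLocalRing.le_maximalIdeal (Ideal.IsPrime.ne_top inferInstance)
  exact (Submodule.subsingleton_iff W).mp (subsingleton_of_bot_eq_top htop.symm)

include hdiv in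
/-- **Composition of étale extensions of valuation rings.** -/
theorem etale [Module.Flat V W]
    (hA : (Localization.localRingHom (P.comap (algebraMap V W)) P (algebraMap V W) rfl).Etale)
    (hB : (Ideal.quotientMap P (algebraMap V W)
      (le_refl (Ideal.comap (algebraMap V W) P))).Etale) :
    Algebra.Etale V W := by
  have hP := eq_map_comap V W hdiv P hA
  have hft := finiteType V W hdiv P hA hB
  have hfp : Algebra.FinitePresentation V W :=
    Groth.Agent.H32.SemiVal.finitePresentation_of_flat_finiteType V W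
  have hU := formallyUnramified V W P hP hB
  exact Algebra.Etale.of_formallyUnramified_of_flat

end Groth.Agent.H32.ValEtale
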