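import Mathlib
import Groth.Agent.H32.ValEtale

/-!
# Étale extensions of valuation subrings of a finite field extension, composed along a prime
-/

set_option autoImplicit false

namespace Groth.Agent.H32.ValEtaleSub

universe u

open Valuation

/-- among finitely many nonzero terms summing to zero, two have the same valuation -/
theorem exists_ne_val_eq_of_sum_eq_zero {L Γ : Type*} [Field L]
    [LinearOrderedCommGroupWithZero Γ] (v : Valuation L Γ) {ι : Type*} [DecidableEq ι]
    (s : Finset ι) (f : ι → L) (hf : ∀ i ∈ s, f i ≠ 0) (hs : s.Nonempty)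
    (hsum : ∑ i ∈ s, f i = 0) : ∃ i ∈ s, ∃ j ∈ s, i ≠ j ∧ v (f i) = v (f j) := by
  obtain ⟨i₀, hi₀, hmax⟩ := s.exists_max_image (fun i => v (f i)) hs
  by_contra hcon
  push Not at hcon
  have hlt : ∀ j ∈ s.erase i₀, v (f j) < v (f i₀) := by
    intro j hj
    rw [Finset.mem_erase] at hj
    exact lt_of_le_of_ne (hmax j hj.2) (fun h => hcon j hj.2 i₀ hi₀ hj.1 h)
  have hne : v (f i₀) ≠ 0 := (Valuation.ne_zero_iff v).mpr (hf i₀ hi₀)
  have h1 : v (∑ j ∈ s.erase i₀, f j) < v (f i₀) := Valuation.map_sum_lt v hne hlt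
  have h2 : f i₀ = -∑ j ∈ s.erase i₀, f j := by
    rw [eq_neg_iff_add_eq_zero, Finset.add_sum_erase s f hi₀, hsum]
  have h3 : v (f i₀) = v (∑ j ∈ s.erase i₀, f j) := by
    conv_lhs => rw [h2]
    rw [Valuation.map_neg]
  rw [h3] at h1
  exact lt_irrefl _ h1

variable {K L Γ₀ Γ₁ : Type u} [Field K] [Field L] [Algebra K L] [FiniteDimensional K L]
  [LinearOrderedCommGroupWithZero Γ₀] [LinearOrderedCommGroupWithZero Γ₁]
  (vK : Valuation K Γ₀) (vL : Valuation L Γ₁) [vK.HasExtension vL]

theorem exists_pow_eq_unit_mul (w : vL.valuationSubring) (hw : w ≠ 0) :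
    ∃ n : ℕ, 1 ≤ n ∧ ∃ (a : vK.valuationSubring) (u : (vL.valuationSubring)ˣ),
      w ^ n = u * algebraMap vK.valuationSubring vL.valuationSubring a := by
  classical
  have hw0 : (w : L) ≠ 0 := fun h => hw (Subtype.ext h)
  have hint : IsIntegral K (w : L) := Algebra.IsIntegral.isIntegral _
  have hq0 : minpoly K (w : L) ≠ 0 := minpoly.ne_zero hint
  have hev : Polynomial.aeval (w : L) (minpoly K (w : L)) = 0 := minpoly.aeval K _
  rw [Polynomial.aeval_def, Polynomial.eval₂_eq_sum, Polynomial.sum_def] at hev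
  have hterm : ∀ i ∈ (minpoly K (w : L)).support,
      algebraMap K L ((minpoly K (w : L)).coeff i) * (w : L) ^ i ≠ 0 := by
    intro i hi
    rw [Polynomial.mem_support_iff] at hi
    exact mul_ne_zero (by simpa using hi) (pow_ne_zero _ hw0)
  obtain ⟨i, hi, j, hj, hij, hv⟩ := exists_ne_val_eq_of_sum_eq_zero vL
    (minpoly K (w : L)).support _ hterm (Polynomial.support_nonempty.mpr hq0) hev
  wlog hlt : i < j generalizing i j
  · exact this j hj i hi hij.symm hv.symm (lt_of_le_of_ne (not_lt.mp hlt) hij.symm)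
  rw [Polynomial.mem_support_iff] at hi hj
  set ci := (minpoly K (w : L)).coeff i with hci
  set cj := (minpoly K (w : L)).coeff j with hcj
  have hci0 : algebraMap K L ci ≠ 0 := by simpa using hi
  have hcj0 : algebraMap K L cj ≠ 0 := by simpa using hj
  have hvw0 : vL (w : L) ≠ 0 := (Valuation.ne_zero_iff vL).mpr hw0
  have hvcj0 : vL (algebraMap K L cj) ≠ 0 := (Valuation.ne_zero_iff vL).mpr hcj0
  -- valuation identity
  have hval : vL (algebraMap K L (ci / cj)) = vL ((w : L) ^ (j - i)) := by
    rw [map_div₀, map_div₀, map_pow]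
    rw [map_mul, map_mul, map_pow, map_pow] at hv
    have hj' : j = (j - i) + i := by omega
    rw [hj', pow_add, ← mul_assoc] at hv
    have h1 : vL (algebraMap K L ci) = vL (algebraMap K L cj) * vL (w : L) ^ (j - i) :=
      mul_right_cancel₀ (pow_ne_zero i hvw0) hv
    rw [h1, mul_div_assoc, mul_comm, div_mul_cancel₀ _ hvcj0]
  have ha0 : algebraMap K L (ci / cj) ≠ 0 := by
    rw [map_div₀]
    exact div_ne_zero hci0 hcj0
  have hwn : vL ((w : L) ^ (j - i)) ≤ 1 := by
    rw [map_pow]
    exact pow_le_one' w.2 _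
  have haV : ci / cj ∈ vK.valuationSubring := by
    rw [Valuation.mem_valuationSubring_iff, ← Valuation.HasExtension.val_map_le_one_iff vK vL, hval]
    exact hwn
  have hu1 : vL ((w : L) ^ (j - i) / algebraMap K L (ci / cj)) = 1 := by
    rw [map_div₀, hval]
    exact div_self ((Valuation.ne_zero_iff vL).mpr (pow_ne_zero _ hw0))
  have hu2 : vL ((w : L) ^ (j - i) / algebraMap K L (ci / cj))⁻¹ = 1 := by
    rw [map_inv₀, hu1, inv_one]
  let u : (vL.valuationSubring)ˣ :=
    ⟨⟨(w : L) ^ (j - i) / algebraMap K L (ci / cj), by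
        rw [Valuation.mem_valuationSubring_iff, hu1]⟩,
      ⟨((w : L) ^ (j - i) / algebraMap K L (ci / cj))⁻¹, by
        rw [Valuation.mem_valuationSubring_iff, hu2]⟩,
      Subtype.ext (mul_inv_cancel₀ (div_ne_zero (pow_ne_zero _ hw0) ha0)),
      Subtype.ext (inv_mul_cancel₀ (div_ne_zero (pow_ne_zero _ hw0) ha0))⟩
  refine ⟨j - i, by omega, ⟨ci / cj, haV⟩, u, ?_⟩
  apply Subtype.ext
  change (w : L) ^ (j - i) = (w : L) ^ (j - i) / algebraMap K L (ci / cj) * algebraMap K L (ci / cj)
  rw [div_mul_cancel₀ _ ha0]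

instance flat : Module.Flat vK.valuationSubring vL.valuationSubring := by
  rw [Module.Flat.flat_iff_torsion_eq_bot_of_isBezout, eq_bot_iff]
  intro x hx
  rw [Submodule.mem_torsion_iff] at hx
  obtain ⟨a, ha⟩ := hx
  have ha' : algebraMap vK.valuationSubring vL.valuationSubring (a : vK.valuationSubring) * x = 0 := by
    rw [← Algebra.smul_def]
    exact ha
  rw [Submodule.mem_bot]
  rcases mul_eq_zero.mp ha' with h | h
  · exfalso
    have h1 : (algebraMap K L ((a : vK.valuationSubring) : K)) = 0 := by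
      have := congrArg (Subtype.val) h
      simpa using this
    have h2 : ((a : vK.valuationSubring) : K) = 0 := by
      simpa using h1
    exact (nonZeroDivisors.ne_zero a.2) (Subtype.ext h2)
  · exact h

/-- **Composition of étale extensions of valuation subrings.** -/
theorem etale (P : Ideal vL.valuationSubring) [P.IsPrime]
    (hA : (Localization.localRingHom
      (Ideal.comap (algebraMap vK.valuationSubring vL.valuationSubring) P) P
      (algebraMap vK.valuationSubring vL.valuationSubring) rfl).Etale)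
    (hB : (Ideal.quotientMap P (algebraMap vK.valuationSubring vL.valuationSubring)
      (le_refl (Ideal.comap (algebraMap vK.valuationSubring vL.valuationSubring) P))).Etale) :
    Algebra.Etale vK.valuationSubring vL.valuationSubring :=
  Groth.Agent.H32.ValEtale.etale vK.valuationSubring vL.valuationSubring
    (exists_pow_eq_unit_mul vK vL) P hA hB

end Groth.Agent.H32.ValEtaleSub
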