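import Mathlib
import Groth.Agent.H32.ValRegPd

/-!
# Reflexive modules over local rings of flat finitely presented algebras over valuation rings
-/

set_option autoImplicit false

namespace Groth.Agent.H32.ValRegRefl

universe u

open CategoryTheory IsLocalRing

section Dual

variable {A : Type*} [CommRing A] {X Y Z : Type*} [AddCommGroup X] [Module A X]
  [AddCommGroup Y] [Module A Y] [AddCommGroup Z] [Module A Z]

/-- left exactness of the dual -/
theorem exact_dualMap (f : X →ₗ[A] Y) (g : Y →ₗ[A] Z) (hfg : Function.Exact f g)
    (hg : Function.Surjective g) : Function.Exact g.dualMap f.dualMap := by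
  intro φ
  constructor
  · intro h
    have hker : LinearMap.ker g ≤ LinearMap.ker φ := by
      intro y hy
      obtain ⟨x, rfl⟩ := (hfg y).mp hy
      have := LinearMap.congr_fun h x
      simpa using this
    refine ⟨((LinearMap.ker g).liftQ φ hker) ∘ₗ
      (g.quotKerEquivOfSurjective hg).symm.toLinearMap, ?_⟩
    ext y
    have h1 : (g.quotKerEquivOfSurjective hg).symm (g y) = Submodule.Quotient.mk y := by
      rw [LinearEquiv.symm_apply_eq]
      rfl
    simp only [LinearMap.dualMap_apply, LinearMap.coe_comp, LinearEquiv.coe_coe,
      Function.comp_apply, h1]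
    rfl
  · rintro ⟨ψ, rfl⟩
    ext x
    simp [LinearMap.dualMap_apply, hfg.apply_apply_eq_zero]

end Dual

variable (V : Type u) [CommRing V] [IsDomain V] [ValuationRing V]
  (B : Type u) [CommRing B] [Algebra V B] [Module.Flat V B] [Algebra.FinitePresentation V B]
  (q : Ideal B) [q.IsPrime]

include V

/-- finitely generated submodules of finite free modules are finitely presented -/
theorem finitePresentation_submodule (F : Type u) [AddCommGroup F]
    [Module (Localization.AtPrime q) F] [Module.Free (Localization.AtPrime q) F]
    [Module.Finite (Localization.AtPrime q) F] (L : Submodule (Localization.AtPrime q) F)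
    (hL : L.FG) : Module.FinitePresentation (Localization.AtPrime q) L := by
  let _ : Module V F := Module.compHom F (algebraMap V (Localization.AtPrime q))
  have : IsScalarTower V (Localization.AtPrime q) F :=
    IsScalarTower.of_algebraMap_smul fun _ _ => rfl
  have : Module.Flat V F := Module.Flat.trans V (Localization.AtPrime q) F
  have : Module.Flat V L :=
    Groth.Agent.H32.ValRegPd.flat_of_injective V (L.subtype.restrictScalars V)
      Subtype.val_injective
  have : Module.Finite (Localization.AtPrime q) L := Module.Finite.iff_fg.mpr hL
  exact Groth.Agent.H32.ValFP.finitePresentation_of_flat_essFiniteType V (Localization.AtPrime q) L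

/-- finitely generated submodules of finite free modules have projective dimension at most the
fibre dimension -/
theorem hasProjectiveDimensionLE_submodule (n : ℕ)
    (hreg : IsRegularLocalRing (Localization.AtPrime q ⧸
      Ideal.map (algebraMap V (Localization.AtPrime q)) (Ideal.comap (algebraMap V B) q)))
    (hn : ringKrullDim (Localization.AtPrime q ⧸
      Ideal.map (algebraMap V (Localization.AtPrime q)) (Ideal.comap (algebraMap V B) q)) = n)
    (F : Type u) [AddCommGroup F]
    [Module (Localization.AtPrime q) F] [Module.Free (Localization.AtPrime q) F]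
    [Module.Finite (Localization.AtPrime q) F] (L : Submodule (Localization.AtPrime q) F)
    (hL : L.FG) : HasProjectiveDimensionLE (ModuleCat.of (Localization.AtPrime q) L) n := by
  have hfp := finitePresentation_submodule V B q F L hL
  let _ : Module V F := Module.compHom F (algebraMap V (Localization.AtPrime q))
  have : IsScalarTower V (Localization.AtPrime q) F :=
    IsScalarTower.of_algebraMap_smul fun _ _ => rfl
  have : Module.Flat V F := Module.Flat.trans V (Localization.AtPrime q) F
  have : Module.Flat V L :=
    Groth.Agent.H32.ValRegPd.flat_of_injective V (L.subtype.restrictScalars V)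
      Subtype.val_injective
  exact Groth.Agent.H32.ValRegPd.hasProjectiveDimensionLE_of_flat V B q n hreg hn L

/-- the dual of a finitely presented module is finitely presented -/
theorem finitePresentation_dual (M : Type u) [AddCommGroup M] [Module (Localization.AtPrime q) M]
    [Module.FinitePresentation (Localization.AtPrime q) M] :
    Module.FinitePresentation (Localization.AtPrime q)
      (Module.Dual (Localization.AtPrime q) M) := by
  obtain ⟨r, g, hg⟩ := Module.Finite.exists_fin' (Localization.AtPrime q) M
  have hkfg : (LinearMap.ker g).FG := Module.FinitePresentation.fg_ker g hg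
  have : Module.Finite (Localization.AtPrime q) (LinearMap.ker g) :=
    Module.Finite.iff_fg.mpr hkfg
  obtain ⟨s, ρ0, hρ0⟩ := Module.Finite.exists_fin' (Localization.AtPrime q) (LinearMap.ker g)
  let ρ : (Fin s → Localization.AtPrime q) →ₗ[Localization.AtPrime q]
      (Fin r → Localization.AtPrime q) := (LinearMap.ker g).subtype ∘ₗ ρ0
  have hex : Function.Exact ρ g := by
    intro y
    constructor
    · intro hy
      obtain ⟨x, hx⟩ := hρ0 ⟨y, hy⟩
      exact ⟨x, by simp [ρ, hx]⟩
    · rintro ⟨x, rfl⟩
      exact (ρ0 x).2
  have hex' := exact_dualMap ρ g hex hg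
  have hinj := LinearMap.dualMap_injective_of_surjective hg
  have hLfg : (LinearMap.range ρ.dualMap).FG := by
    rw [LinearMap.range_eq_map]
    exact Submodule.FG.map _ Module.Finite.fg_top
  have hLfp := finitePresentation_submodule V B q _ _ hLfg
  have hK : (LinearMap.ker ρ.dualMap.rangeRestrict).FG :=
    Module.FinitePresentation.fg_ker
      (M := Module.Dual (Localization.AtPrime q) (Fin r → Localization.AtPrime q))
      (N := LinearMap.range ρ.dualMap) ρ.dualMap.rangeRestrict
      (LinearMap.surjective_rangeRestrict _)
  rw [LinearMap.ker_rangeRestrict] at hK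
  have hKfp := finitePresentation_submodule V B q _ _ hK
  have e : Module.Dual (Localization.AtPrime q) M ≃ₗ[Localization.AtPrime q]
      LinearMap.ker ρ.dualMap :=
    (LinearEquiv.ofInjective g.dualMap hinj).trans
      (LinearEquiv.ofEq _ _ hex'.linearMap_ker_eq.symm)
  exact Module.FinitePresentation.of_equiv (M := LinearMap.ker ρ.dualMap) e.symm

/-- reflexive finitely presented modules have projective dimension at most the fibre dimension
minus one. -/
theorem hasProjectiveDimensionLE_pred_of_isReflexive (n : ℕ)
    (hreg : IsRegularLocalRing (Localization.AtPrime q ⧸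
      Ideal.map (algebraMap V (Localization.AtPrime q)) (Ideal.comap (algebraMap V B) q)))
    (hn : ringKrullDim (Localization.AtPrime q ⧸
      Ideal.map (algebraMap V (Localization.AtPrime q)) (Ideal.comap (algebraMap V B) q)) = n)
    (M : Type u) [AddCommGroup M] [Module (Localization.AtPrime q) M]
    [Module.FinitePresentation (Localization.AtPrime q) M]
    [Module.IsReflexive (Localization.AtPrime q) M] :
    HasProjectiveDimensionLE (ModuleCat.of (Localization.AtPrime q) M) (n - 1) := by
  have hD := finitePresentation_dual V B q M
  obtain ⟨r, π, hπ⟩ := Module.Finite.exists_fin' (Localization.AtPrime q)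
    (Module.Dual (Localization.AtPrime q) M)
  have hkfg : (LinearMap.ker π).FG := Module.FinitePresentation.fg_ker π hπ
  have : Module.Finite (Localization.AtPrime q) (LinearMap.ker π) :=
    Module.Finite.iff_fg.mpr hkfg
  obtain ⟨t, σ0, hσ0⟩ := Module.Finite.exists_fin' (Localization.AtPrime q) (LinearMap.ker π)
  let σ : (Fin t → Localization.AtPrime q) →ₗ[Localization.AtPrime q]
      (Fin r → Localization.AtPrime q) := (LinearMap.ker π).subtype ∘ₗ σ0
  have hex : Function.Exact σ π := by
    intro y
    constructor
    · intro hy
      obtain ⟨x, hx⟩ := hσ0 ⟨y, hy⟩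
      exact ⟨x, by simp [σ, hx]⟩
    · rintro ⟨x, rfl⟩
      exact (σ0 x).2
  have hex' := exact_dualMap σ π hex hπ
  have hinj := LinearMap.dualMap_injective_of_surjective hπ
  let ι : M →ₗ[Localization.AtPrime q] Module.Dual (Localization.AtPrime q)
      (Fin r → Localization.AtPrime q) :=
    π.dualMap ∘ₗ (Module.evalEquiv (Localization.AtPrime q) M).toLinearMap
  let p : Module.Dual (Localization.AtPrime q) (Fin r → Localization.AtPrime q)
      →ₗ[Localization.AtPrime q] LinearMap.range σ.dualMap := σ.dualMap.rangeRestrict
  have hι : Function.Injective ι :=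
    hinj.comp (Module.evalEquiv (Localization.AtPrime q) M).injective
  have hp : Function.Surjective p := LinearMap.surjective_rangeRestrict _
  have hιp : Function.Exact ι p := by
    intro φ
    have h1 : p φ = 0 ↔ σ.dualMap φ = 0 := by
      rw [← LinearMap.mem_ker, ← LinearMap.mem_ker, LinearMap.ker_rangeRestrict]
    rw [h1, hex' φ]
    constructor
    · rintro ⟨ψ, rfl⟩
      refine ⟨(Module.evalEquiv (Localization.AtPrime q) M).symm ψ, ?_⟩
      show π.dualMap (Module.evalEquiv (Localization.AtPrime q) M
        ((Module.evalEquiv (Localization.AtPrime q) M).symm ψ)) = _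
      rw [LinearEquiv.apply_symm_apply]
    · rintro ⟨m, rfl⟩
      exact ⟨_, rfl⟩
  have hS := Groth.Agent.H29.GlDimL.shortExact_of_exact
    (M₂ := Module.Dual (Localization.AtPrime q) (Fin r → Localization.AtPrime q))
    (M₃ := LinearMap.range σ.dualMap) ι p hι hp hιp
  have hLfg : (LinearMap.range σ.dualMap).FG := by
    rw [LinearMap.range_eq_map]
    exact Submodule.FG.map _ Module.Finite.fg_top
  have hpdL : HasProjectiveDimensionLT (ModuleCat.of (Localization.AtPrime q)
      (LinearMap.range σ.dualMap)) (n + 1) :=
    hasProjectiveDimensionLE_submodule V B q n hreg hn _ _ hLfg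
  have hproj : Projective (ModuleCat.of (Localization.AtPrime q)
      (Module.Dual (Localization.AtPrime q) (Fin r → Localization.AtPrime q))) :=
    (IsProjective.iff_projective _).mp inferInstance
  change HasProjectiveDimensionLT _ (n - 1 + 1)
  refine hS.hasProjectiveDimensionLT_X₁ (n - 1 + 1) ?_ ?_
  · exact hasProjectiveDimensionLT_of_ge _ 1 _ (by omega)
  · exact hasProjectiveDimensionLT_of_ge _ (n + 1) _ (by omega)

end Groth.Agent.H32.ValRegRefl
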