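import Groth.Agent.H32.Diag

set_option autoImplicit false
open CategoryTheory CategoryTheory.Limits Functor.IsPreFibered
universe v₄ u₄ v₃ u₃ v₂ u₂ v u

namespace Groth.Agent.H32

variable {C : Type u} [Category.{v} C] {𝒳 : BasedCategory.{v₂, u₂} C}

/-- the structure morphism of an object of the slice, with codomain literally `U` -/
def ovHom {U : C} (Y : Over U) : Y.left ⟶ U := Y.hom

theorem ovHom_w {U : C} {Y Y' : Over U} (m : Y ⟶ Y') : ovHom Y = m.left ≫ ovHom Y' :=
  (Over.w m).symm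

section cleavage
variable [𝒳.p.IsFibered] {U : C} (x : 𝒳.obj) (hx : 𝒳.p.obj x = U)

/-- the chosen pullback functor `C/U ⥤ 𝒳` of an object `x` over `U` -/
noncomputable def yonedaFunctor : Over U ⥤ 𝒳.obj where
  obj Y := pullbackObj hx (ovHom Y)
  map {Y Y'} m := Functor.IsStronglyCartesian.map 𝒳.p (ovHom Y') (pullbackMap hx (ovHom Y'))
    (g := m.left) (f' := ovHom Y) (ovHom_w m) (pullbackMap hx (ovHom Y))
  map_id Y := by
    have := Functor.IsStronglyCartesian.map_self 𝒳.p (ovHom Y) (pullbackMap hx (ovHom Y))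
    convert this using 1
  map_comp {Y Y' Y''} m m' := by
    symm
    apply Functor.IsStronglyCartesian.map_comp_map

instance yonedaFunctor_map_isHomLift {Y Y' : Over U} (m : Y ⟶ Y') :
    𝒳.p.IsHomLift m.left ((yonedaFunctor x hx).map m) := by
  unfold yonedaFunctor
  infer_instance

/-- the chosen cartesian morphism `f^* x ⟶ x` -/
noncomputable def yonedaProj (Y : Over U) : (yonedaFunctor x hx).obj Y ⟶ x :=
  pullbackMap hx (ovHom Y)

instance yonedaProj_isStronglyCartesian (Y : Over U) :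
    𝒳.p.IsStronglyCartesian (ovHom Y) (yonedaProj x hx Y) := by
  have : 𝒳.p.IsStronglyCartesian (ovHom Y) (pullbackMap hx (ovHom Y)) := inferInstance
  exact this

theorem yonedaFunctor_map_fac {Y Y' : Over U} (m : Y ⟶ Y') :
    (yonedaFunctor x hx).map m ≫ yonedaProj x hx Y' = yonedaProj x hx Y := by
  unfold yonedaFunctor yonedaProj
  exact Functor.IsStronglyCartesian.fac 𝒳.p (ovHom Y') (pullbackMap hx (ovHom Y'))
    (f' := ovHom Y) (ovHom_w m) (pullbackMap hx (ovHom Y))

theorem yonedaFunctor_map_isStronglyCartesian {Y Y' : Over U} (m : Y ⟶ Y') :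
    𝒳.p.IsStronglyCartesian m.left ((yonedaFunctor x hx).map m) := by
  have h2 : 𝒳.p.IsStronglyCartesian (m.left ≫ ovHom Y')
      ((yonedaFunctor x hx).map m ≫ yonedaProj x hx Y') := by
    rw [yonedaFunctor_map_fac, ← ovHom_w m]
    infer_instance
  exact Functor.IsStronglyCartesian.of_comp 𝒳.p (f := m.left) (g := ovHom Y')
    (φ := (yonedaFunctor x hx).map m) (ψ := yonedaProj x hx Y')

/-- the based functor `C/U ⥤ᵇ 𝒳` associated to `x` -/
noncomputable def yonedaBased : FibCat.overCat U ⥤ᵇ 𝒳 where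
  toFunctor := yonedaFunctor x hx
  w := by
    refine Functor.ext (fun Y => pullbackObj_proj hx (ovHom Y)) ?_
    intro Y Y' m
    exact IsHomLift.fac' 𝒳.p m.left ((yonedaFunctor x hx).map m)

theorem yonedaBased_preserves :
    FibCat.PreservesStronglyCartesian (yonedaBased x hx) := by
  intro R S f a b φ hφ
  have h1 : 𝒳.p.IsHomLift f ((yonedaBased x hx).map φ) := inferInstance
  have h2 : 𝒳.p.IsStronglyCartesian φ.left ((yonedaFunctor x hx).map φ) :=
    yonedaFunctor_map_isStronglyCartesian x hx φ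
  have h3 : 𝒳.p.IsStronglyCartesian (𝒳.p.map ((yonedaFunctor x hx).map φ))
      ((yonedaFunctor x hx).map φ) := strong_map_of_strong 𝒳.p φ.left _
  exact strong_of_homLift 𝒳.p f ((yonedaBased x hx).map φ) h3

end cleavage

end Groth.Agent.H32

namespace Groth.Agent.H32

variable {C : Type u} [Category.{v} C] {𝒳 : BasedCategory.{v₂, u₂} C}

section ff
variable {U : C}

/-- the terminal object of the slice -/
abbrev ovT (U : C) : Over U := Over.mk (𝟙 U)

/-- the canonical morphism to the terminal object -/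
def ovTo (Y : Over U) : Y ⟶ ovT U := Over.homMk (ovHom Y) (by simp [ovHom])

theorem ovTo_comp {Y Y' : Over U} (m : Y ⟶ Y') : m ≫ ovTo Y' = ovTo Y := by
  apply Over.OverMorphism.ext
  simp [ovTo, ovHom]

theorem ovTo_T : ovTo (ovT U) = 𝟙 (ovT U) := by
  apply Over.OverMorphism.ext
  simp [ovTo, ovHom]

/-- the underlying functor of a based functor out of the slice, with source literally `Over U` -/
def und (G : FibCat.overCat U ⥤ᵇ 𝒳) : Over U ⥤ 𝒳.obj := G.toFunctor

/-- the underlying natural transformation -/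
def undNat {G H : FibCat.overCat U ⥤ᵇ 𝒳} (α : G ⟶ H) : und G ⟶ und H := α.toNatTrans

theorem und_map_isHomLift (G : FibCat.overCat U ⥤ᵇ 𝒳) {Y Y' : Over U} (m : Y ⟶ Y') :
    𝒳.p.IsHomLift m.left ((und G).map m) := by
  have h : (FibCat.overCat U).p.IsHomLift m.left m := IsHomLift.map (Over.forget U) m
  exact BasedFunctor.preserves_isHomLift (𝒳 := FibCat.overCat U) G m.left m

theorem und_map_ovTo_isHomLift (G : FibCat.overCat U ⥤ᵇ 𝒳) (Y : Over U) :
    𝒳.p.IsHomLift (ovHom Y) ((und G).map (ovTo Y)) :=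
  und_map_isHomLift G (ovTo Y)

theorem und_map_ovTo_isStronglyCartesian (G : FibCat.overCat U ⥤ᵇ 𝒳)
    (hG : FibCat.PreservesStronglyCartesian G) (Y : Over U) :
    𝒳.p.IsStronglyCartesian (ovHom Y) ((und G).map (ovTo Y)) := by
  have h : (FibCat.overCat U).p.IsStronglyCartesian (ovHom Y) (ovTo Y) :=
    (isFibGrpd_overForget U).isStronglyCartesian (ovTo Y)
  exact hG (ovHom Y) (ovTo Y) h

theorem undNat_app_isHomLift {G H : FibCat.overCat U ⥤ᵇ 𝒳} (α : G ⟶ H) (Y : Over U) :
    𝒳.p.IsHomLift (𝟙 Y.left) ((undNat α).app Y) := α.isHomLift' Y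

theorem undNat_ext_of_app_T {G H : FibCat.overCat U ⥤ᵇ 𝒳}
    (hH : FibCat.PreservesStronglyCartesian H) (α β : G ⟶ H)
    (h : (undNat α).app (ovT U) = (undNat β).app (ovT U)) : α = β := by
  apply BasedNatTrans.homCategory.ext
  change undNat α = undNat β
  ext Y
  have hs := und_map_ovTo_isStronglyCartesian H hH Y
  have h1 := undNat_app_isHomLift α Y
  have h2 := undNat_app_isHomLift β Y
  apply Functor.IsStronglyCartesian.ext 𝒳.p (ovHom Y) ((und H).map (ovTo Y)) (𝟙 Y.left)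
  rw [← (undNat α).naturality (ovTo Y), ← (undNat β).naturality (ovTo Y), h]

theorem exists_undNat_of_app_T {G H : FibCat.overCat U ⥤ᵇ 𝒳}
    (hH : FibCat.PreservesStronglyCartesian H) (ψ : (und G).obj (ovT U) ⟶ (und H).obj (ovT U))
    (hψ : 𝒳.p.IsHomLift (𝟙 U) ψ) : ∃ α : G ⟶ H, (undNat α).app (ovT U) = ψ := by
  have hs := fun Y => und_map_ovTo_isStronglyCartesian H hH Y
  have hG := fun Y => und_map_ovTo_isHomLift G Y
  have hl : ∀ Y : Over U, 𝒳.p.IsHomLift (ovHom Y) ((und G).map (ovTo Y) ≫ ψ) := fun Y =>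
    IsHomLift.comp_lift_id_right' 𝒳.p (ovHom Y) ((und G).map (ovTo Y)) U ψ
  let a : ∀ Y : Over U, (und G).obj Y ⟶ (und H).obj Y := fun Y =>
    Functor.IsStronglyCartesian.map 𝒳.p (ovHom Y) ((und H).map (ovTo Y)) (g := 𝟙 Y.left)
      (f' := ovHom Y) (Category.id_comp _).symm ((und G).map (ovTo Y) ≫ ψ)
  have ha : ∀ Y, 𝒳.p.IsHomLift (𝟙 Y.left) (a Y) := fun Y => by
    dsimp only [a]; infer_instance
  have hfac : ∀ Y, a Y ≫ (und H).map (ovTo Y) = (und G).map (ovTo Y) ≫ ψ := fun Y =>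
    Functor.IsStronglyCartesian.fac 𝒳.p (ovHom Y) ((und H).map (ovTo Y)) _ _
  have hnat : ∀ {Y Y' : Over U} (m : Y ⟶ Y'),
      (und G).map m ≫ a Y' = a Y ≫ (und H).map m := by
    intro Y Y' m
    have hGm := und_map_isHomLift G m
    have hHm := und_map_isHomLift H m
    have := ha Y
    have := ha Y'
    have hL : 𝒳.p.IsHomLift m.left ((und G).map m ≫ a Y') :=
      IsHomLift.comp_lift_id_right' 𝒳.p m.left ((und G).map m) Y'.left (a Y')
    have hR : 𝒳.p.IsHomLift m.left (a Y ≫ (und H).map m) :=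
      IsHomLift.comp_lift_id_left' 𝒳.p Y.left (a Y) m.left ((und H).map m)
    have := hs Y'
    apply Functor.IsStronglyCartesian.ext 𝒳.p (ovHom Y') ((und H).map (ovTo Y')) m.left
    rw [Category.assoc, Category.assoc, hfac Y', ← (und H).map_comp, ovTo_comp, hfac Y,
      ← Category.assoc, ← (und G).map_comp, ovTo_comp]
  let α : G ⟶ H := { toNatTrans := { app := a, naturality := fun _ _ m => hnat m }
                     isHomLift' := ha }
  refine ⟨α, ?_⟩
  change a (ovT U) = ψ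
  have h1 := hfac (ovT U)
  rw [ovTo_T, (und H).map_id, (und G).map_id, Category.comp_id, Category.id_comp] at h1
  exact h1

end ff

end Groth.Agent.H32

namespace Groth.Agent.H32

variable {C : Type u} [Category.{v} C] {𝒳 : BasedCategory.{v₂, u₂} C}

theorem fiber_isIso_of_isIso {U : C} {X Y : 𝒳.p.Fiber U} (m : X ⟶ Y) (h : IsIso m.1) :
    IsIso m := by
  have hm : 𝒳.p.IsHomLift (𝟙 U) m.1 := m.2
  have hinv : 𝒳.p.IsHomLift (𝟙 U) (inv m.1) := by
    have := IsHomLift.lift_id_inv_isIso 𝒳.p U m.1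
    simpa using this
  refine ⟨⟨⟨inv m.1, hinv⟩, ?_, ?_⟩⟩
  · apply Functor.Fiber.hom_ext
    exact IsIso.hom_inv_id m.1
  · apply Functor.Fiber.hom_ext
    exact IsIso.inv_hom_id m.1

theorem evalAtId_isEquivalence_of_isFibered [𝒳.p.IsFibered] (U : C) :
    ((ObjectProperty.ι (FibCat.PreservesStronglyCartesian (𝒳 := FibCat.overCat U) (𝒴 := 𝒳))) ⋙
      FibCat.evalAtId 𝒳 U).IsEquivalence := by
  refine { faithful := ⟨?_⟩, full := ⟨?_⟩, essSurj := ⟨?_⟩ }
  · intro A B α β h
    apply ObjectProperty.hom_ext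
    apply undNat_ext_of_app_T B.property α.hom β.hom
    exact congrArg Subtype.val h
  · intro A B ψ
    obtain ⟨α, hα⟩ := exists_undNat_of_app_T (G := A.obj) (H := B.obj) B.property ψ.1 ψ.2
    refine ⟨ObjectProperty.homMk α, ?_⟩
    apply Functor.Fiber.hom_ext
    exact hα
  · intro X
    let A : ObjectProperty.FullSubcategory
        (FibCat.PreservesStronglyCartesian (𝒳 := FibCat.overCat U) (𝒴 := 𝒳)) :=
      ⟨yonedaBased X.1 X.2, yonedaBased_preserves X.1 X.2⟩
    have hs : 𝒳.p.IsStronglyCartesian (𝟙 U) (yonedaProj X.1 X.2 (ovT U)) :=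
      yonedaProj_isStronglyCartesian X.1 X.2 (ovT U)
    have hl : 𝒳.p.IsHomLift (𝟙 U) (yonedaProj X.1 X.2 (ovT U)) := inferInstance
    have hiso : IsIso (yonedaProj X.1 X.2 (ovT U)) :=
      Functor.IsStronglyCartesian.isIso_of_base_isIso 𝒳.p (𝟙 U) _
    let m : ((ObjectProperty.ι _) ⋙ FibCat.evalAtId 𝒳 U).obj A ⟶ X :=
      ⟨yonedaProj X.1 X.2 (ovT U), hl⟩
    have : IsIso m := fiber_isIso_of_isIso m hiso
    exact ⟨A, ⟨asIso m⟩⟩

end Groth.Agent.H32
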